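import Cfsg.Agent.Lib.McLAmalgam.CoordsExist

/-!
The setting with its coordinates.
-/

set_option autoImplicit false
set_option maxRecDepth 20000
set_option linter.style.haveILetI false

namespace Cfsg.Agent.Lib.McLAmalgam

open Cfsg Subgroup Cfsg.Agent.Lib.Computation

variable {G : Type*} [Group G] {t : G} (F : Frame ↥(Subgroup.centralizer ({t} : Set G)))

theorem p8_tau : p8 F (cl F [0, 1, 0, 1]) = 1 := by
  have h := p8_cd F (j := 1) sideLetters_ok.1 permOK_V (by norm_num)
  rw [permOK_V.first] at h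
  rw [h, show half 1 = 0 from rfl, tr_zero, mul_one, mul_one]

theorem tau_comm (z : ↥(centralizer ({t} : Set G))) (hord : orderOf t = 2) :
    z * cl F [0, 1, 0, 1] = cl F [0, 1, 0, 1] * z := by
  refine Subtype.ext ?_
  rw [Subgroup.coe_mul, Subgroup.coe_mul, coe_cl, el_tau F hord]
  exact mem_centralizer_singleton_iff.1 z.2

/-- Involutions outside `⟨t⟩` act without fixed points. -/
theorem invol_fpf (hord : orderOf t = 2) {z : ↥(centralizer ({t} : Set G))} (hz : z * z = 1)
    (hne : p8 F z ≠ 1) (p : Fin 8) : p8 F z p ≠ p := by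
  intro hp
  obtain ⟨σ, hσ, hσe⟩ := conj_to_dbl (by rw [← map_mul, hz, map_one]) hne (sign_p8 F z) hp
  obtain ⟨h, rfl⟩ := p8_surj F hσ
  obtain ⟨w0, hw0⟩ : ∃ w0, w0 = cl F [0, 1, 1, 0] := ⟨_, rfl⟩
  have hp0 : p8 F w0 = dblTrans := Equiv.ext fun i => by
    rw [hw0, p8_cl F (by simp)]; exact dbl_word.1 i
  have hsq : w0 * w0 = cl F [0, 1, 0, 1] := by
    refine Subtype.ext ?_
    rw [hw0, Subgroup.coe_mul, coe_cl, coe_cl, ← el_append]
    exact el_eq F (by simp) (by simp) dbl_word.2
  have hτ1 : cl F [0, 1, 0, 1] ≠ 1 := fun he => by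
    have := congrArg Subtype.val he
    rw [coe_cl, el_tau F hord, Subgroup.coe_one] at this
    rw [this, orderOf_one] at hord
    omega
  have hzz : (h * z * h⁻¹) * (h * z * h⁻¹) = 1 := by
    calc (h * z * h⁻¹) * (h * z * h⁻¹) = h * (z * z) * h⁻¹ := by group
      _ = 1 := by rw [hz]; group
  have hk : p8 F (w0⁻¹ * (h * z * h⁻¹)) = 1 := by
    rw [map_mul, map_mul, map_mul, map_inv, map_inv, hσe, hp0, inv_mul_cancel]
  rcases p8_ker F hk with h1 | h1
  · rw [inv_mul_eq_one] at h1
    rw [← h1, hsq] at hzz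
    exact hτ1 hzz
  · rw [inv_mul_eq_iff_eq_mul] at h1
    have hττ : cl F [0, 1, 0, 1] * cl F [0, 1, 0, 1] = 1 := by
      refine Subtype.ext ?_
      rw [Subgroup.coe_mul, coe_cl, el_tau F hord, Subgroup.coe_one, ← pow_two, ← hord, pow_orderOf_eq_one]
    rw [h1, (show Commute (cl F [0, 1, 0, 1]) w0 from (tau_comm F w0 hord).symm).mul_mul_mul_comm, hsq,
      hττ, mul_one] at hzz
    exact hτ1 hzz

/-- The classification of the elementary subgroups of order sixteen through `t`. -/
theorem side_classify [Finite G] (hord : orderOf t = 2) (U : Subgroup G) (hU : Elem16 t U) :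
    ∃ h ∈ centralizer ({t} : Set G), conjSub h U = subV F ∨ conjSub h U = subW F := by
  classical
  have hcomm : ∀ x ∈ U, ∀ y ∈ U, x * y = y * x := fun x hx y hy => by
    have hxi : x⁻¹ = x := inv_eq_of_mul_eq_one_right (hU.sq x hx)
    have hyi : y⁻¹ = y := inv_eq_of_mul_eq_one_right (hU.sq y hy)
    rw [← inv_eq_of_mul_eq_one_right (hU.sq _ (mul_mem hx hy)), mul_inv_rev, hxi, hyi]
  have hUC : U ≤ centralizer ({t} : Set G) := fun x hx =>
    mem_centralizer_singleton_iff.2 (hcomm x hx t hU.mem)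
  obtain ⟨U', hU'⟩ : ∃ U' : Subgroup ↥(centralizer ({t} : Set G)), U' = U.subgroupOf _ := ⟨_, rfl⟩
  have hmem : ∀ z, z ∈ U' ↔ (z : G) ∈ U := fun z => by rw [hU', mem_subgroupOf]
  have hsq : ∀ z ∈ U', z * z = 1 := fun z hz => Subtype.ext (hU.sq _ ((hmem z).1 hz))
  have hc : ∀ x ∈ U', ∀ y ∈ U', Commute x y := fun x hx y hy =>
    Subtype.ext (hcomm _ ((hmem x).1 hx) _ ((hmem y).1 hy))
  have hcard : Nat.card U' = 16 := by
    rw [hU', Nat.card_congr (subgroupOfEquivOfLe hUC).toEquiv, hU.card]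
  have hτU : cl F [0, 1, 0, 1] ∈ U' := by rw [hmem, coe_cl, el_tau F hord]; exact hU.mem
  have hgrow : ∀ bs : List ↥(centralizer ({t} : Set G)), bs.length ≤ 4 →
      ∃ u ∈ U', ∀ b ∈ bs, p8 F u ≠ p8 F b := by
    intro bs hlen
    by_contra hcon
    push Not at hcon
    have hsub : (U' : Set ↥(centralizer ({t} : Set G))) ⊆
        ↑(bs ++ bs.map fun b => b * cl F [0, 1, 0, 1]).toFinset := by
      intro u hu
      obtain ⟨b, hb, he⟩ := hcon u hu
      have hk : p8 F (b⁻¹ * u) = 1 := by rw [map_mul, map_inv, he, inv_mul_cancel]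
      simp only [List.coe_toFinset, Set.mem_setOf_eq, List.mem_append, List.mem_map]
      rcases p8_ker F hk with h1 | h1
      · exact Or.inl ((inv_mul_eq_one.1 h1) ▸ hb)
      · exact Or.inr ⟨b, hb, (inv_mul_eq_iff_eq_mul.1 h1).symm⟩
    have h1 := Set.ncard_le_ncard hsub (Finset.finite_toSet _)
    rw [Set.ncard_coe_finset, ← Nat.card_coe_set_eq] at h1
    have h2 := (List.toFinset_card_le (bs ++ bs.map fun b => b * cl F [0, 1, 0, 1])).trans_eq
      (show (bs ++ bs.map fun b => b * cl F [0, 1, 0, 1]).length = bs.length + bs.length by simp)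
    have h3 : 16 ≤ bs.length + bs.length := hcard ▸ h1.trans h2
    omega
  obtain ⟨u1, hu1, n1⟩ := hgrow [1] (by simp)
  obtain ⟨u2, hu2, n2⟩ := hgrow [1, u1] (by simp)
  obtain ⟨u3, hu3, n3⟩ := hgrow [1, u1, u2, u1 * u2] (by simp)
  obtain ⟨B, hB⟩ : ∃ B : Fin 8 → ↥(centralizer ({t} : Set G)), B = fun j : Fin 8 =>
      (bif (j : ℕ).testBit 0 then u1 else 1) * (bif (j : ℕ).testBit 1 then u2 else 1) *
        (bif (j : ℕ).testBit 2 then u3 else 1) := ⟨_, rfl⟩
  have hcond : ∀ (b : Bool) u, u ∈ U' → (bif b then u else 1) ∈ U' := fun b u hu => by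
    cases b
    · exact one_mem U'
    · exact hu
  have hBU : ∀ j, B j ∈ U' := fun j => by
    rw [hB]; exact mul_mem (mul_mem (hcond _ _ hu1) (hcond _ _ hu2)) (hcond _ _ hu3)
  have hBmul : ∀ i j, B (i ^^^ j) = B i * B j := by
    intro i j
    have hxor : ∀ (p q : Bool) u, u ∈ U' →
        (bif (p ^^ q) then u else 1) = (bif p then u else 1) * (bif q then u else 1) := fun p q u hu => by
      cases p <;> cases q <;> simp [hsq u hu]
    simp only [hB, val_xor8, Nat.testBit_xor, hxor _ _ _ hu1, hxor _ _ _ hu2, hxor _ _ _ hu3]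
    have c12 := hc _ (hcond ((j : ℕ).testBit 0) _ hu1) _ (hcond ((i : ℕ).testBit 1) _ hu2)
    have c3 := hc _ (hcond ((i : ℕ).testBit 2) _ hu3) _
      (mul_mem (hcond ((j : ℕ).testBit 0) _ hu1) (hcond ((j : ℕ).testBit 1) _ hu2))
    rw [c12.mul_mul_mul_comm, c3.mul_mul_mul_comm]
  have hB0 : B 0 = 1 := by simp [hB]
  have hne : ∀ j, j ≠ 0 → p8 F (B j) ≠ 1 := by
    have k1 : p8 F u1 ≠ 1 := by simpa using n1 1 (by simp)
    have k2 : p8 F u2 ≠ 1 := by simpa using n2 1 (by simp)
    have k3 : p8 F u3 ≠ 1 := by simpa using n3 1 (by simp)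
    have s : ∀ u ∈ U', p8 F u * p8 F u = 1 := fun u hu => by rw [← map_mul, hsq u hu, map_one]
    have k12 : p8 F u1 * p8 F u2 ≠ 1 := fun h =>
      n2 u1 (by simp) (mul_left_cancel (h.trans (s u1 hu1).symm))
    have k13 : p8 F u1 * p8 F u3 ≠ 1 := fun h =>
      n3 u1 (by simp) (mul_left_cancel (h.trans (s u1 hu1).symm))
    have k23 : p8 F u2 * p8 F u3 ≠ 1 := fun h =>
      n3 u2 (by simp) (mul_left_cancel (h.trans (s u2 hu2).symm))
    have k123 : p8 F (u1 * u2) * p8 F u3 ≠ 1 := fun h =>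
      n3 (u1 * u2) (by simp) (mul_left_cancel (h.trans (s _ (mul_mem hu1 hu2)).symm))
    intro j hj
    subst hB
    fin_cases j
    · exact absurd rfl hj
    all_goals simp [map_mul, Nat.testBit_eq_decide_div_mod_eq, k1, k2, k3, k12, k13, k23]
    simpa [map_mul] using k123
  have hfpf : ∀ j, j ≠ 0 → ∀ p, p8 F (B j) p ≠ p := fun j hj p =>
    invol_fpf F hord (hsq _ (hBU j)) (hne j hj) p
  obtain ⟨σ, hσ, hor⟩ := exists_regular_conj (fun j => p8 F (B j))
    (fun i j => by simp only [hBmul, map_mul]) hfpf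
  obtain ⟨h, rfl⟩ := p8_surj F hσ
  refine ⟨h, h.2, ?_⟩
  have key : ∀ {d : SideData} {c : Equiv.Perm (Fin 8)} (hd : sideLetters d = true)
      (hT : sideTable d = true), PermOK d c → (∀ k, p8 F h * p8 F (B k) * (p8 F h)⁻¹ = c * tr k * c) →
        conjSub (h : G) U = sideSub F hd hT := by
    intro d c hd hT P hk
    refine (Subgroup.eq_of_le_of_card_ge ?_ ?_).symm
    · rintro _ ⟨j, hj, rfl⟩
      rw [mem_conjSub]
      obtain ⟨z, hz⟩ : ∃ z, z = h⁻¹ * cl F (cdWord d j) * h := ⟨_, rfl⟩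
      have h1 : p8 F ((B (half j))⁻¹ * z) = 1 := by
        rw [map_mul, map_inv, inv_mul_eq_one, hz, map_mul, map_mul, map_inv, p8_cd F hd P hj, ← hk]
        group
      have hzU : z ∈ U' := by
        rcases p8_ker F h1 with h2 | h2
        · rw [← inv_mul_eq_one.1 h2]; exact hBU _
        · rw [inv_mul_eq_iff_eq_mul.1 h2]; exact mul_mem (hBU _) hτU
      have := (hmem z).1 hzU
      rw [hz] at this
      simpa [cd, coe_cl] using this
    · rw [card_conjSub, hU.card, card_sideSub F hd hT]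
  rcases hor with hk | hk
  · exact Or.inl (key _ _ permOK_V fun k => by rw [hk k, one_mul, mul_one])
  · exact Or.inr (key _ _ permOK_W hk)

/-- Involutions other than `t` are conjugate to `s`. -/
theorem side_involutions (hord : orderOf t = 2) (x : G) (hx : x ∈ centralizer ({t} : Set G))
    (hx2 : orderOf x = 2) (hxt : x ≠ t) :
    ∃ h ∈ centralizer ({t} : Set G), h * x * h⁻¹ = cd F sideV 2 := by
  have hz : (⟨x, hx⟩ : ↥(centralizer ({t} : Set G))) * ⟨x, hx⟩ = 1 := Subtype.ext (by
    show x * x = 1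
    rw [← pow_two, ← hx2, pow_orderOf_eq_one])
  have hne : p8 F ⟨x, hx⟩ ≠ 1 := fun h => by
    rcases p8_ker F h with h1 | h1
    · rw [show x = 1 from congrArg Subtype.val h1, orderOf_one] at hx2
      omega
    · exact hxt ((congrArg Subtype.val h1).trans (el_tau F hord))
  obtain ⟨σ, hσ, he⟩ := conj_to_tr_one (by rw [← map_mul, hz, map_one]) (invol_fpf F hord hz hne)
  obtain ⟨h, rfl⟩ := p8_surj F hσ
  have hp : p8 F (h * ⟨x, hx⟩ * h⁻¹) = 1 * tr 1 * 1 := by
    rw [map_mul, map_mul, map_inv, he, one_mul, mul_one]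
  obtain ⟨j, hj, hje⟩ := exists_of_p8 F sideLetters_ok.1 sideTable_ok.1 permOK_V hp
  have hhalf : half j = 1 := by
    refine tr_injective ?_
    have h2 : h * ⟨x, hx⟩ * h⁻¹ = cl F (cdWord sideV j) := Subtype.ext hje
    rw [h2, p8_cd F sideLetters_ok.1 permOK_V hj] at hp
    simpa using hp
  have h23 : j = 2 ∨ j = 3 := by revert hhalf; revert j; intro j _ hj; interval_cases j <;> decide
  rcases h23 with rfl | rfl
  · exact ⟨h, h.2, hje⟩
  · refine ⟨(el F flipWord)⁻¹ * h, mul_mem (inv_mem (el_mem F _)) h.2, ?_⟩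
    have hf : el F flipWord * cd F sideV 2 = cd F sideV 3 * el F flipWord := by
      rw [cd, cd, ← el_append, ← el_append]
      refine el_eq F (fun g hg => ?_) (fun g hg => ?_) flip_ok
      · exact (List.mem_append.1 hg).elim (by revert g; decide) (cdWord_lt sideLetters_ok.1 _ g)
      · exact (List.mem_append.1 hg).elim (cdWord_lt sideLetters_ok.1 _ g) (by revert g; decide)
    have hje' : (h : G) * x * (h : G)⁻¹ = cd F sideV 3 := hje
    calc (el F flipWord)⁻¹ * h * x * ((el F flipWord)⁻¹ * h)⁻¹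
        = (el F flipWord)⁻¹ * ((h : G) * x * (h : G)⁻¹) * el F flipWord := by group
      _ = cd F sideV 2 := by rw [hje', mul_assoc, ← hf, inv_mul_cancel_left]

/-- The elements of the Sylow subgroup. -/
def sylEl (j i : ℕ) : G := cd F sideV j * el F (pqWord sideV (sideV.d8.getD i []))

theorem d8_facts : (∀ i < 8, ∀ a ∈ sideV.d8.getD i [], a < 2) ∧
    ∀ i < 8, ∀ k < 8, (sideV.d8mul.getD i []).getD k 0 < 8 ∧
      el F (pqWord sideV (sideV.d8.getD i [])) * el F (pqWord sideV (sideV.d8.getD k [])) =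
        el F (pqWord sideV (sideV.d8.getD ((sideV.d8mul.getD i []).getD k 0) [])) ∧
      (el F (pqWord sideV (sideV.d8.getD i [])) = el F (pqWord sideV (sideV.d8.getD k [])) → i = k) := by
  have h := localOK_V.d8
  simp only [Bool.and_eq_true, List.all_eq_true, List.mem_range, decide_eq_true_eq, Bool.or_eq_true,
    beq_iff_eq, Bool.not_eq_true'] at h
  obtain ⟨-, h⟩ := h
  have hd := sideLetters_ok.1
  refine ⟨fun i hi => (h i hi).1, fun i hi k hk => ⟨((h i hi).2 k hk).1.1, ?_, fun he => ?_⟩⟩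
  · rw [← el_append]
    exact el_eq F (fun g hg => (List.mem_append.1 hg).elim (pqWord_lt hd _ g) (pqWord_lt hd _ g))
      (pqWord_lt hd _) ((h i hi).2 k hk).1.2
  · by_contra hne
    exact el_ne F (pqWord_lt hd _) (pqWord_lt hd _) (((h i hi).2 k hk).2.resolve_left hne) he

variable [Finite G]

/-- The Sylow subgroup. -/
theorem exists_sylow (hord : orderOf t = 2) :
    ∃ S : Subgroup G, S ≤ centralizer ({t} : Set G) ∧ Nat.card S = 128 ∧
      (∀ g ∈ S, conjSub g (subV F) = subV F) ∧ (∀ g ∈ S, conjSub g (subW F) = subW F) ∧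
      (t ∈ S ∧ cd F sideV 2 ∈ S) ∧ ∀ z ∈ S, (∀ g ∈ S, g * z = z * g) → z = 1 ∨ z = t := by
  obtain ⟨hq2, hqm⟩ := d8_facts F
  have hd := sideLetters_ok.1
  have hT := sideTable_ok.1
  obtain ⟨q, hq⟩ : ∃ q : ℕ → G, ∀ i, q i = el F (pqWord sideV (sideV.d8.getD i [])) := ⟨_, fun _ => rfl⟩
  have hq0 : q 0 = 1 := by rw [hq, d8_zero]; rfl
  have hc0 : cd F sideV 0 = 1 := rfl
  obtain ⟨X, hX⟩ : ∃ X : Set G, X = {g | ∃ j < 16, ∃ i < 8, cd F sideV j * q i = g} := ⟨_, rfl⟩
  have hmul : ∀ a ∈ X, ∀ b ∈ X, a * b ∈ X := by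
    rw [hX]
    rintro _ ⟨j, hj, i, hi, rfl⟩ _ ⟨k, hk, m, hm, rfl⟩
    have hlt := linW_lt localOK_V.tabs.1 _ (hq2 i hi) hk
    refine ⟨j ^^^ linW sideV (sideV.d8.getD i []) k, Nat.xor_lt_two_pow (n := 4) hj hlt, _,
      (hqm i hi m hm).1, ?_⟩
    rw [← cd_mul F hd hT hj hlt, hq, hq, hq, ← (hqm i hi m hm).2.1, mul_assoc (cd F sideV j),
      ← mul_assoc (cd F sideV (linW _ _ _)), ← conj_cd F hd localOK_V _ (hq2 i hi) hk]
    simp only [mul_assoc]
  have hone : (1 : G) ∈ X := by
    rw [hX]; exact ⟨0, by norm_num, 0, by norm_num, by rw [hc0, hq0, one_mul]⟩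
  let M : Submonoid G := { carrier := X, mul_mem' := fun ha hb => hmul _ ha _ hb, one_mem' := hone }
  have hMi : ∀ a ∈ M, a⁻¹ ∈ M := fun a ha => by
    obtain ⟨n, hn⟩ := (isOfFinOrder_of_finite a).mem_powers_iff_mem_zpowers.2
      (inv_mem (Subgroup.mem_zpowers a))
    exact hn ▸ pow_mem ha n
  let S : Subgroup G := { M with inv_mem' := hMi _ }
  have hS : ∀ g, g ∈ S ↔ ∃ j < 16, ∃ i < 8, cd F sideV j * q i = g := fun g => by
    show g ∈ X ↔ _
    rw [hX]; rfl
  have hcdS : ∀ j < 16, cd F sideV j ∈ S := fun j hj =>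
    (hS _).2 ⟨j, hj, 0, by norm_num, by rw [hq0, mul_one]⟩
  have hqS : ∀ i < 8, q i ∈ S := fun i hi =>
    (hS _).2 ⟨0, by norm_num, i, hi, by rw [hc0, one_mul]⟩
  have htV : cd F sideV 1 = t := by rw [cd, permOK_V.first, el_tau F hord]
  have hle : ∀ (U : Subgroup G) g, (∀ u ∈ U, g * u * g⁻¹ ∈ U) → conjSub g U = U := fun U g h =>
    Subgroup.eq_of_le_of_card_ge (by rintro _ ⟨u, hu, rfl⟩; exact h u hu) (card_conjSub g U).ge
  refine ⟨S, fun g hg => ?_, ?_, fun g hg => hle _ g ?_, ?_, ⟨htV ▸ hcdS 1 (by norm_num), hcdS 2 (by norm_num)⟩,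
    fun z hz hcen => ?_⟩
  · obtain ⟨j, hj, i, hi, rfl⟩ := (hS g).1 hg
    exact mul_mem (el_mem F _) (hq i ▸ el_mem F _)
  · let emb : Fin 16 × Fin 8 → S := fun p =>
      ⟨cd F sideV p.1 * q p.2, mul_mem (hcdS _ p.1.2) (hqS _ p.2.2)⟩
    have hqA : ∀ i : Fin 8, q i ∈ pqSub F sideV := fun i =>
      hq i ▸ el_pq_mem F hd _ (hq2 i i.2)
    have hbij : Function.Bijective emb := by
      refine ⟨?_, fun ⟨z, hz⟩ => ?_⟩
      · rintro ⟨a, i⟩ ⟨b, k⟩ h
        have h1 : cd F sideV a * q i = cd F sideV b * q k := congrArg (fun x : S => (x : G)) h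
        have h2 : cd F sideV ((b : ℕ) ^^^ a) ∈ pqSub F sideV := by
          rw [← cd_mul F hd hT b.2 a.2, ← mul_inv_cancel_right (cd F sideV b * cd F sideV a) (q i)]
          refine mul_mem ?_ (inv_mem (hqA i))
          rw [mul_assoc, h1, ← mul_assoc, cd_mul F hd hT b.2 b.2, Nat.xor_self, hc0, one_mul]
          exact hqA k
        have h0 := pq_disj F hd localOK_V (Nat.xor_lt_two_pow (n := 4) b.2 a.2) h2
        obtain rfl : b = a := Fin.ext (Nat.xor_eq_zero_iff.1 h0)
        have h3 := mul_left_cancel h1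
        rw [hq, hq] at h3
        rw [show i = k from Fin.ext ((hqm i i.2 k k.2).2.2 h3)]
      · obtain ⟨j, hj, i, hi, rfl⟩ := (hS z).1 hz
        exact ⟨(⟨j, hj⟩, ⟨i, hi⟩), rfl⟩
    rw [← Nat.card_congr (Equiv.ofBijective emb hbij)]
    simp
  · obtain ⟨j, hj, i, hi, rfl⟩ := (hS g).1 hg
    rintro _ ⟨k, hk, rfl⟩
    have hlt := linW_lt localOK_V.tabs.1 _ (hq2 i hi) hk
    refine ⟨linW sideV (sideV.d8.getD i []) k, hlt, ?_⟩
    rw [hq, mul_assoc (cd F sideV j), conj_cd F hd localOK_V _ (hq2 i hi) hk, ← mul_assoc,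
      cd_mul F hd hT hj hlt, Nat.xor_comm, ← cd_mul F hd hT hlt hj]
    group
  · have hgen : ∀ w ∈ sylowGens, (∀ a ∈ w, a < 6) → el F w ∈ Subgroup.normalizer (subW F : Set G) := by
      intro w hw hw6
      refine mem_normalizer_iff_map_conj_eq.2 (hle _ _ ?_)
      rintro _ ⟨k, hk, rfl⟩
      have h := List.all_eq_true.1 (List.all_eq_true.1 sylow_W w hw) (half k) (List.mem_finRange _)
      simp only [List.any_eq_true, List.all_eq_true, List.mem_finRange, true_and, beq_iff_eq,
        forall_const] at h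
      obtain ⟨k', hk'⟩ := h
      refine mem_sideSub_of_p8 F sideLetters_ok.2 sideTable_ok.2 permOK_W
        (z := cl F w * cl F (cdWord sideW k) * (cl F w)⁻¹) (k := k') ?_
      rw [map_mul, map_mul, map_inv, p8_cd F sideLetters_ok.2 permOK_W hk, mul_inv_eq_iff_eq_mul]
      refine Equiv.ext fun i => ?_
      simp only [Equiv.Perm.mul_apply, tr_apply, p8_cl F hw6]
      exact hk' i
    intro g hg
    refine mem_normalizer_iff_map_conj_eq.1 ?_
    obtain ⟨j, hj, i, hi, rfl⟩ := (hS g).1 hg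
    refine mul_mem ?_ ?_
    · have hbasic : ∀ m < 4, el F (sideV.uw.getD m []) ∈ Subgroup.normalizer (subW F : Set G) := by
        intro m hm
        have e : cdWord sideV (2 ^ m) = sideV.uw.getD m [] := by interval_cases m <;> rfl
        rw [← e]
        exact hgen _ (List.mem_append_right _ (List.mem_map.2 ⟨m, List.mem_range.2 hm, rfl⟩))
          (cdWord_lt hd _)
      have : ∀ ks : List ℕ, (∀ m ∈ ks, m < 4) →
          el F (ks.flatMap fun m => sideV.uw.getD m []) ∈ Subgroup.normalizer (subW F : Set G) := by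
        intro ks
        induction ks with
        | nil => intro _; exact one_mem _
        | cons a ks ih =>
          intro hks
          rw [List.flatMap_cons, el_append]
          exact mul_mem (hbasic a (hks a List.mem_cons_self)) (ih fun m hm => hks m (List.mem_cons_of_mem _ hm))
      exact this _ fun m hm => List.mem_range.1 (List.mem_filter.1 hm).1
    · rw [hq]
      refine hgen _ (List.mem_append_left _ (List.mem_map.2 ⟨_, ?_, rfl⟩)) (pqWord_lt hd _)
      have : i < sideV.d8.length := hi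
      rw [List.getD_eq_getElem _ _ this]
      exact List.getElem_mem this
  · obtain ⟨j, hj, i, hi, rfl⟩ := (hS z).1 hz
    have h := List.all_eq_true.1 (List.all_eq_true.1 sylow_center j (List.mem_range.2 hj)) i
      (List.mem_range.2 hi)
    simp only [Bool.or_eq_true, Bool.and_eq_true, decide_eq_true_eq, beq_iff_eq, List.any_eq_true,
      Bool.not_eq_true'] at h
    rcases h with ⟨hj2, rfl⟩ | ⟨w, hw, hne⟩
    · rw [hq0, mul_one]
      interval_cases j
      · exact Or.inl hc0
      · exact Or.inr htV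
    · exfalso
      have hw' : (∀ a ∈ w, a < 6) ∧ el F w ∈ S := by
        rcases List.mem_append.1 hw with h1 | h1
        · obtain ⟨l, hl, rfl⟩ := List.mem_map.1 h1
          obtain ⟨m, hm, rfl⟩ := List.getElem_of_mem hl
          rw [← List.getD_eq_getElem _ [] hm]
          exact ⟨pqWord_lt hd _, hq m ▸ hqS m hm⟩
        · obtain ⟨m, hm, rfl⟩ := List.mem_map.1 h1
          exact ⟨cdWord_lt hd _, hcdS _ (Nat.pow_lt_pow_right (by norm_num) (List.mem_range.1 hm) : 2 ^ m < 2 ^ 4)⟩
      have h2 := hcen _ hw'.2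
      have hzlt : ∀ a ∈ cdWord sideV j ++ pqWord sideV (sideV.d8.getD i []), a < 6 := fun a ha =>
        (List.mem_append.1 ha).elim (cdWord_lt hd _ a) (pqWord_lt hd _ a)
      refine el_ne F (fun a ha => (List.mem_append.1 ha).elim (hzlt a) (hw'.1 a))
        (fun a ha => (List.mem_append.1 ha).elim (hw'.1 a) (hzlt a)) hne ?_
      simp only [el_append, ← hq]
      exact h2.symm

/-- The coordinatised setting. -/
theorem exists_coords (hord : orderOf t = 2) : ∃ E : Setting t, Coords F E := by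
  obtain ⟨S, hSle, hScard, hSV, hSW, hSmem, hScen⟩ := exists_sylow F hord
  have hs2 : cdWord sideW 2 = cdWord sideV 2 := cdWord_two.1
  have htV : cd F sideV 1 = t := by rw [cd, permOK_V.first, el_tau F hord]
  have hd := sideLetters_ok.1
  have hT := sideTable_ok.1
  have hsq : cd F sideV 2 * cd F sideV 2 = 1 := by
    rw [cd_mul F hd hT (by norm_num) (by norm_num), Nat.xor_self]; rfl
  have hsne1 : cd F sideV 2 ≠ 1 := fun h => by
    have := cd_injOn F hd hT (j := 2) (k := 0) (by norm_num) (by norm_num) h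
    omega
  have hsW : cd F sideW 2 = cd F sideV 2 := by rw [cd, cd, hs2]
  refine ⟨{ V := subV F
            W := subW F
            s := cd F sideV 2
            order_s := orderOf_eq_prime (by rw [pow_two, hsq]) hsne1
            s_ne := fun h => by
              have := cd_injOn F hd hT (j := 2) (k := 1) (by norm_num) (by norm_num) (h.trans htV.symm)
              omega
            s_mem := Subgroup.mem_inf.2 ⟨⟨2, by norm_num, rfl⟩, ⟨2, by norm_num, hsW⟩⟩
            hV := elem16_sideSub F _ _ permOK_V hord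
            hW := elem16_sideSub F _ _ permOK_W hord
            inter := ?_
            self_cent_V := fun g hg h => self_cent F _ _ permOK_V g hg h
            self_cent_W := fun g hg h => self_cent F _ _ permOK_W g hg h
            classify := side_classify F hord
            not_conj := side_not_conj F
            involutions := side_involutions F hord
            S := S
            S_le := hSle
            S_card := hScard
            S_index := ?_
            S_V := hSV
            S_W := hSW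
            S_mem := hSmem
            S_center := hScen },
          ⟨rfl, rfl, rfl, side_form F _ _ permOK_V, side_form F _ _ permOK_W⟩⟩
  · intro x hx
    obtain ⟨⟨j, hj, rfl⟩, k, hk, hk'⟩ := Subgroup.mem_inf.1 hx
    have h1 : cl F (cdWord sideW k) = cl F (cdWord sideV j) := Subtype.ext hk'
    have h2 := congrArg (p8 F) h1
    rw [p8_cd F sideLetters_ok.2 permOK_W hk, p8_cd F hd permOK_V hj, one_mul, mul_one] at h2
    rcases inter_perm _ _ h2.symm with h3 | h3
    · have : j = 0 ∨ j = 1 := by revert h3; interval_cases j <;> decide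
      rcases this with rfl | rfl
      · exact Or.inl rfl
      · exact Or.inr (Or.inl htV)
    · have : j = 2 ∨ j = 3 := by revert h3; interval_cases j <;> decide
      rcases this with rfl | rfl
      · exact Or.inr (Or.inr (Or.inl rfl))
      · refine Or.inr (Or.inr (Or.inr ?_))
        exact (cd_mul F hd hT (j := 1) (k := 2) (by norm_num) (by norm_num)).symm.trans
          (congrArg (· * cd F sideV 2) htV)
  · have h := (S.subgroupOf (centralizer ({t} : Set G))).card_mul_index
    rw [Nat.card_congr (subgroupOfEquivOfLe hSle).toEquiv, hScard, F.card] at h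
    exact ⟨157, by omega⟩

end Cfsg.Agent.Lib.McLAmalgam
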