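import Mathlib

/-!
The two-local facts inside the centraliser of an involution `t` used in the recognition of the McLaughlin
group: two classes of elementary abelian subgroups of order sixteen through `t`, with representatives
`V`, `W` meeting in a four-group `⟨t, s⟩`.
-/

set_option autoImplicit false

namespace Cfsg.Agent.Lib.McLAmalgam

open Subgroup

/-- The conjugate of a subgroup. -/
def conjSub {G : Type*} [Group G] (g : G) (U : Subgroup G) : Subgroup G :=
  U.map (MulAut.conj g).toMonoidHom

/-- An elementary abelian subgroup of order sixteen through `t`. -/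
structure Elem16 {G : Type*} [Group G] (t : G) (U : Subgroup G) : Prop where
  card : Nat.card U = 16
  mem : t ∈ U
  sq : ∀ x ∈ U, x * x = 1

/-- What is used of the centraliser of `t`. -/
structure Setting {G : Type*} [Group G] (t : G) where
  V : Subgroup G
  W : Subgroup G
  s : G
  order_s : orderOf s = 2
  s_ne : s ≠ t
  s_mem : s ∈ V ⊓ W
  hV : Elem16 t V
  hW : Elem16 t W
  inter : ∀ x ∈ V ⊓ W, x = 1 ∨ x = t ∨ x = s ∨ x = t * s
  self_cent_V : ∀ g ∈ centralizer ({t} : Set G), (∀ v ∈ V, g * v = v * g) → g ∈ V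
  self_cent_W : ∀ g ∈ centralizer ({t} : Set G), (∀ v ∈ W, g * v = v * g) → g ∈ W
  classify : ∀ U : Subgroup G, Elem16 t U →
    ∃ h ∈ centralizer ({t} : Set G), conjSub h U = V ∨ conjSub h U = W
  not_conj : ∀ h ∈ centralizer ({t} : Set G), conjSub h V ≠ W
  involutions : ∀ x ∈ centralizer ({t} : Set G), orderOf x = 2 → x ≠ t →
    ∃ h ∈ centralizer ({t} : Set G), h * x * h⁻¹ = s
  S : Subgroup G
  S_le : S ≤ centralizer ({t} : Set G)
  S_card : Nat.card S = 128
  S_index : Odd (S.subgroupOf (centralizer ({t} : Set G))).index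
  S_V : ∀ g ∈ S, conjSub g V = V
  S_W : ∀ g ∈ S, conjSub g W = W
  S_mem : t ∈ S ∧ s ∈ S
  S_center : ∀ z ∈ S, (∀ g ∈ S, g * z = z * g) → z = 1 ∨ z = t

end Cfsg.Agent.Lib.McLAmalgam
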