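import Cfsg.Prelude.Def_CaseTheorems
import Cfsg.Agent.Lib.BenderConsumers23.Basic
import Cfsg.Agent.Lib.McLAmalgam.Setting

/-!
# The fusion step in the recognition of the McLaughlin group

Either the involution `t` is isolated, so that Glauberman's theorem gives `G = C(t) O(G)`, or a conjugation
moving `t` to `s` can be taken inside the normaliser of each of the two elementary groups `V`, `W`.
-/

set_option autoImplicit false

namespace Cfsg.Agent.Lib.McLAmalgam

open Subgroup

universe u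

section

variable {G : Type u} [Group G]

theorem mem_conjSub {g : G} {U : Subgroup G} {x : G} :
    x ∈ conjSub g U ↔ g⁻¹ * x * g ∈ U := by
  constructor
  · rintro ⟨y, hy, rfl⟩
    simpa [mul_assoc] using hy
  · intro h
    exact ⟨g⁻¹ * x * g, h, by simp [mul_assoc]⟩

theorem conjSub_conjSub (a b : G) (U : Subgroup G) :
    conjSub a (conjSub b U) = conjSub (a * b) U := by
  ext x
  simp only [mem_conjSub, mul_inv_rev, mul_assoc]

theorem conjSub_one (U : Subgroup G) : conjSub (1 : G) U = U := by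
  ext x
  simp [mem_conjSub]

theorem conjSub_inv_eq {a : G} {U U' : Subgroup G} (h : conjSub a U = U') :
    conjSub a⁻¹ U' = U := by
  rw [← h, conjSub_conjSub, inv_mul_cancel, conjSub_one]

theorem card_conjSub (g : G) (U : Subgroup G) : Nat.card (conjSub g U) = Nat.card U :=
  card_map_of_injective (MulAut.conj g).injective

theorem orderOf_cj (g x : G) : orderOf (g * x * g⁻¹) = orderOf x :=
  (MulAut.conj g).orderOf_eq x

variable [Finite G]

/-- An involution whose conjugates commuting with it are trivial is isolated. -/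
theorem iso_of_comm_conj {t : G} (ht : orderOf t = 2)
    (h : ∀ g : G, Commute (g * t * g⁻¹) t → g * t * g⁻¹ = t) : ZStar.Reduction.Iso t := by
  have htt : t * t = 1 := by rw [← pow_two, ← ht, pow_orderOf_eq_one]
  have hti : t⁻¹ = t := inv_eq_of_mul_eq_one_right htt
  refine ⟨ht, fun g => ?_⟩
  obtain ⟨t', ht'⟩ : ∃ t', t' = g * t * g⁻¹ := ⟨_, rfl⟩
  have ho : orderOf t' = 2 := by rw [ht', orderOf_cj, ht]
  have ht'i : t'⁻¹ = t' := inv_eq_of_mul_eq_one_right (by rw [← pow_two, ← ho, pow_orderOf_eq_one])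
  rw [show t * g * t⁻¹ * g⁻¹ = t * t' by rw [hti, ht']; group]
  obtain ⟨r, hr⟩ : ∃ r, r = t * t' := ⟨_, rfl⟩
  rw [← hr]
  have hinv : t * r * t⁻¹ = r⁻¹ := by
    rw [hr, mul_inv_rev, ht'i, hti, ← mul_assoc, htt, one_mul]
  have hconj : ∀ n : ℕ, ∃ c : G, c * t * c⁻¹ = t * r ^ n := by
    intro n
    induction n using Nat.twoStepInduction with
    | zero => exact ⟨1, by simp⟩
    | one => exact ⟨g, by rw [pow_one, hr, ← mul_assoc, htt, one_mul, ht']⟩
    | more n ih _ =>
      obtain ⟨c, hc⟩ := ih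
      refine ⟨r⁻¹ * c, ?_⟩
      calc r⁻¹ * c * t * (r⁻¹ * c)⁻¹ = r⁻¹ * (c * t * c⁻¹) * r := by group
        _ = t * r ^ (n + 2) := by
          rw [hc, ← hinv, show n + 2 = (n + 1) + 1 from rfl, pow_succ r (n + 1), pow_succ' r n]
          group
  rw [← Nat.not_even_iff_odd]
  rintro ⟨m, hm⟩
  have hpos := orderOf_pos r
  have hz1 : r ^ m ≠ 1 := pow_ne_one_of_lt_orderOf (by omega) (by omega)
  have hzz : r ^ m * r ^ m = 1 := by rw [← pow_add, ← hm, pow_orderOf_eq_one]
  obtain ⟨c, hc⟩ := hconj m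
  have hcomm : Commute (t * r ^ m) t := by
    have h1 : t * r ^ m * t⁻¹ = r ^ m := by
      rw [← conj_pow, hinv, inv_pow]
      exact inv_eq_of_mul_eq_one_right hzz
    exact Commute.mul_left (Commute.refl t) (mul_inv_eq_iff_eq_mul.1 h1).symm
  have hfix := h c (hc.symm ▸ hcomm)
  rw [hc] at hfix
  exact hz1 (by simpa using hfix)

theorem fact_two : Fact (Nat.Prime 2) := ⟨Nat.prime_two⟩

variable {t : G}

/-- The subgroup `S` of the setting is a Sylow subgroup of the whole group. -/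
theorem Setting.odd_index (E : Setting t) (ht : orderOf t = 2) : Odd E.S.index := by
  have := fact_two
  have hS : Nat.card E.S = 2 ^ 7 := by rw [E.S_card]; norm_num
  obtain ⟨P, hP⟩ := (IsPGroup.of_card hS).exists_le_sylow
  have hle : ∀ K : Subgroup G, E.S ≤ K → K ≤ centralizer {t} → IsPGroup 2 K →
      Nat.card K ≤ 128 := by
    intro K hSK hKC hK
    obtain ⟨k, hk⟩ := hK.exists_card_eq
    have h1 := Subgroup.card_dvd_of_le hKC
    have h2 : Nat.card (centralizer ({t} : Set G)) =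
        2 ^ 7 * (E.S.subgroupOf (centralizer ({t} : Set G))).index := by
      rw [← (E.S.subgroupOf (centralizer ({t} : Set G))).card_mul_index,
        Nat.card_congr (subgroupOfEquivOfLe E.S_le).toEquiv, hS]
    rw [hk, h2] at h1
    have hcop : (2 ^ k).Coprime (E.S.subgroupOf (centralizer ({t} : Set G))).index :=
      Nat.Coprime.pow_left k (Nat.coprime_two_left.2 E.S_index)
    have := Nat.le_of_dvd (by norm_num) (hcop.dvd_of_dvd_mul_right h1)
    rw [hk]
    exact this.trans (by norm_num)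
  by_contra hodd
  have h256 : 2 ^ (7 + 1) ∣ Nat.card G := by
    rw [Nat.not_odd_iff_even, even_iff_two_dvd] at hodd
    rw [← E.S.card_mul_index, hS, pow_succ]
    exact Nat.mul_dvd_mul_left _ hodd
  obtain ⟨K, hK, hSK⟩ := Sylow.exists_subgroup_card_pow_succ h256 hS
  have hnorm : (E.S.subgroupOf K).Normal := by
    refine Subgroup.normal_of_index_eq_two ?_
    have h1 := (E.S.subgroupOf K).card_mul_index
    rw [Nat.card_congr (subgroupOfEquivOfLe hSK).toEquiv, hS, hK] at h1
    omega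
  have hKC : K ≤ centralizer {t} := by
    intro k hk
    have hmem : ∀ x ∈ E.S, k * x * k⁻¹ ∈ E.S := fun x hx => by
      simpa [mem_subgroupOf] using
        hnorm.conj_mem ⟨x, hSK hx⟩ (mem_subgroupOf.2 hx) ⟨k, hk⟩
    have hmem' : ∀ x ∈ E.S, k⁻¹ * x * k ∈ E.S := fun x hx => by
      simpa [mem_subgroupOf] using
        hnorm.conj_mem' ⟨x, hSK hx⟩ (mem_subgroupOf.2 hx) ⟨k, hk⟩
    rcases E.S_center (k * t * k⁻¹) (hmem t E.S_mem.1) (fun g hg => by
      have hc : k⁻¹ * g * k * t = t * (k⁻¹ * g * k) :=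
        mem_centralizer_singleton_iff.1 (E.S_le (hmem' g hg))
      calc g * (k * t * k⁻¹) = k * (k⁻¹ * g * k * t) * k⁻¹ := by group
        _ = k * (t * (k⁻¹ * g * k)) * k⁻¹ := by rw [hc]
        _ = k * t * k⁻¹ * g := by group) with h | h
    · exfalso
      have := orderOf_cj k t
      rw [h, orderOf_one, ht] at this
      omega
    · exact mem_centralizer_singleton_iff.2 (mul_inv_eq_iff_eq_mul.1 h)
  have := hle K hSK hKC (IsPGroup.of_card hK)
  rw [hK] at this
  norm_num at this

/-- The two elementary groups are not conjugate in the whole group. -/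
theorem Setting.not_gconj (E : Setting t) (ht : orderOf t = 2) (a : G) :
    conjSub a E.V ≠ E.W := by
  have := fact_two
  intro ha
  have hodd := E.odd_index ht
  have hS : IsPGroup 2 E.S := IsPGroup.of_card (n := 7) (by rw [E.S_card]; norm_num)
  obtain ⟨N, hN⟩ : ∃ N : Subgroup G, ∀ g, g ∈ N ↔ conjSub g E.W = E.W :=
    ⟨{ carrier := {g | conjSub g E.W = E.W}
       mul_mem' := fun {x y} hx hy => by
         show conjSub (x * y) E.W = E.W
         rw [← conjSub_conjSub, hy, hx]
       one_mem' := conjSub_one _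
       inv_mem' := fun {x} hx => conjSub_inv_eq hx }, fun g => Iff.rfl⟩
  have hSN : E.S ≤ N := fun g hg => (hN g).2 (E.S_W g hg)
  have hTN : conjSub a E.S ≤ N := by
    intro x hx
    rw [mem_conjSub] at hx
    rw [hN, ← ha, conjSub_conjSub]
    have h1 := congrArg (conjSub a) (E.S_V _ hx)
    rw [conjSub_conjSub] at h1
    rwa [show a * (a⁻¹ * x * a) = x * a by group] at h1
  have key : ∀ T : Subgroup G, T ≤ N → Nat.card T = 128 → ¬ 2 ∣ (T.subgroupOf N).index := by
    intro T hT hc hdvd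
    have h1 : Nat.card T * T.index = Nat.card E.S * E.S.index := by
      rw [Subgroup.card_mul_index, Subgroup.card_mul_index]
    rw [hc, E.S_card] at h1
    have h2 : T.index = E.S.index := by omega
    have h3 : (T.subgroupOf N).index ∣ T.index := ⟨_, (relIndex_mul_index hT).symm⟩
    have := hdvd.trans h3
    rw [h2] at this
    exact Nat.not_even_iff_odd.2 hodd (even_iff_two_dvd.2 this)
  have hT : IsPGroup 2 (conjSub a E.S) := hS.map _
  let P1 : Sylow 2 N := ((hS.of_equiv (subgroupOfEquivOfLe hSN).symm) :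
    IsPGroup 2 (E.S.subgroupOf N)).toSylow (key _ hSN E.S_card)
  let P2 : Sylow 2 N := ((hT.of_equiv (subgroupOfEquivOfLe hTN).symm) :
    IsPGroup 2 ((conjSub a E.S).subgroupOf N)).toSylow
    (key _ hTN (by rw [card_conjSub, E.S_card]))
  obtain ⟨b, hb⟩ := MulAction.exists_smul_eq N P2 P1
  have hmem : ∀ x ∈ E.S, ((b : G) * a) * x * ((b : G) * a)⁻¹ ∈ E.S := by
    intro x hx
    have h1 : (⟨a * x * a⁻¹, hTN (mem_conjSub.2 (by simpa [mul_assoc] using hx))⟩ : N) ∈
        (P2 : Subgroup N) := by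
      show a * x * a⁻¹ ∈ conjSub a E.S
      exact mem_conjSub.2 (by simpa [mul_assoc] using hx)
    have h3 := Subgroup.smul_mem_pointwise_smul _ (MulAut.conj b) _ h1
    rw [← Sylow.pointwise_smul_def, ← Sylow.smul_def, hb] at h3
    have h4 : (b : G) * (a * x * a⁻¹) * (b : G)⁻¹ ∈ E.S := h3
    simpa [mul_assoc] using h4
  obtain ⟨c, hc⟩ : ∃ c, c = (b : G) * a := ⟨_, rfl⟩
  rw [← hc] at hmem
  have hsurj : ∀ g ∈ E.S, c⁻¹ * g * c ∈ E.S := by
    have hle : conjSub c E.S ≤ E.S := fun g hg => by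
      have := hmem _ (mem_conjSub.1 hg)
      simpa [mul_assoc] using this
    have heq := Subgroup.eq_of_le_of_card_ge hle (card_conjSub c E.S).ge
    intro g hg
    rw [← heq] at hg
    exact mem_conjSub.1 hg
  rcases E.S_center (c * t * c⁻¹) (hmem t E.S_mem.1) (fun g hg => by
    have h1 : c⁻¹ * g * c * t = t * (c⁻¹ * g * c) :=
      mem_centralizer_singleton_iff.1 (E.S_le (hsurj g hg))
    calc g * (c * t * c⁻¹) = c * (c⁻¹ * g * c * t) * c⁻¹ := by group
      _ = c * (t * (c⁻¹ * g * c)) * c⁻¹ := by rw [h1]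
      _ = c * t * c⁻¹ * g := by group) with h | h
  · have := orderOf_cj c t
    rw [h, orderOf_one, ht] at this
    omega
  · refine E.not_conj c (mem_centralizer_singleton_iff.2 (mul_inv_eq_iff_eq_mul.1 h)) ?_
    rw [hc, ← conjSub_conjSub, ha]
    exact (hN _).1 b.2

omit [Finite G] in
theorem elem16_conj {g : G} {U : Subgroup G} (hU : Elem16 t U) {s : G} (hs : s ∈ U)
    (hg : g * s * g⁻¹ = t) : Elem16 t (conjSub g U) := by
  refine ⟨(card_conjSub g U).trans hU.card, mem_conjSub.2 ?_, fun x hx => ?_⟩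
  · rw [← hg]
    simpa [mul_assoc] using hs
  · have h1 := hU.sq _ (mem_conjSub.1 hx)
    calc x * x = g * ((g⁻¹ * x * g) * (g⁻¹ * x * g)) * g⁻¹ := by group
      _ = 1 := by rw [h1]; group

/-- Either `t` is central modulo the odd core, or `t` is carried to `s` inside the normalisers of `V` and
of `W`. -/
theorem dichotomy {G : Type u} [Group G] [Finite G] {t : G} (ht : orderOf t = 2) (E : Setting t) :
    centralizer ({t} : Set G) ⊔ Cfsg.oddCore G = ⊤ ∨
      ((∃ g, g * t * g⁻¹ = E.s ∧ conjSub g E.V = E.V) ∧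
        (∃ g, g * t * g⁻¹ = E.s ∧ conjSub g E.W = E.W)) := by
  by_cases hiso : ∀ g : G, Commute (g * t * g⁻¹) t → g * t * g⁻¹ = t
  · refine Or.inl ?_
    rw [sup_comm]
    exact BenderConsumers23.sup_centralizer_of_iso (iso_of_comm_conj ht hiso)
  push Not at hiso
  obtain ⟨g0, hcomm, hne⟩ := hiso
  obtain ⟨h, -, hh⟩ := E.involutions (g0 * t * g0⁻¹) (mem_centralizer_singleton_iff.2 hcomm)
    ((orderOf_cj g0 t).trans ht) hne
  obtain ⟨g1, hg1⟩ : ∃ g1, g1 * t * g1⁻¹ = E.s :=
    ⟨h * g0, by rw [← hh]; group⟩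
  have hg1' : g1⁻¹ * E.s * (g1⁻¹)⁻¹ = t := by rw [← hg1]; group
  have hs := mem_inf.1 E.s_mem
  have main : ∀ X Y : Subgroup G, Elem16 t X → E.s ∈ X →
      (∀ U, Elem16 t U → ∃ h ∈ centralizer ({t} : Set G), conjSub h U = X ∨ conjSub h U = Y) →
      (∀ a, conjSub a X ≠ Y) → ∃ g, g * t * g⁻¹ = E.s ∧ conjSub g X = X := by
    intro X Y hX hsX hcl hno
    obtain ⟨k, hk, hk'⟩ := hcl _ (elem16_conj hX hsX hg1')
    rcases hk' with hk' | hk'
    · refine ⟨g1 * k⁻¹, ?_, ?_⟩
      · have hkt : k⁻¹ * t * k = t := by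
          rw [mul_assoc, ← mem_centralizer_singleton_iff.1 hk, inv_mul_cancel_left]
        calc g1 * k⁻¹ * t * (g1 * k⁻¹)⁻¹ = g1 * (k⁻¹ * t * k) * g1⁻¹ := by group
          _ = E.s := by rw [hkt, hg1]
      · rw [← conjSub_conjSub, conjSub_inv_eq hk', conjSub_conjSub, mul_inv_cancel, conjSub_one]
    · rw [conjSub_conjSub] at hk'
      exact absurd hk' (hno _)
  refine Or.inr ⟨main E.V E.W E.hV hs.1 E.classify (E.not_gconj ht),
    main E.W E.V E.hW hs.2 (fun U hU => ?_) (fun a ha => E.not_gconj ht _ (conjSub_inv_eq ha))⟩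
  obtain ⟨k, hk, hk'⟩ := E.classify U hU
  exact ⟨k, hk, hk'.symm⟩

end

end Cfsg.Agent.Lib.McLAmalgam
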