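import Cfsg.Prelude.Def_CaseTheorems
import Cfsg.Agent.S0223
import Cfsg.Agent.Lib.BenderDeps.SolvableEmbedded
import Cfsg.Agent.Lib.BenderOne.Final
import Cfsg.Agent.Lib.McLCent.Main
import Cfsg.Agent.Lib.McLAmalgam.Fusion

/-!
# Closing step in the recognition of the McLaughlin group

A subgroup isomorphic to the McLaughlin group which contains the centraliser of one of its involutions is
the whole group, since it would otherwise be strongly embedded, hence solvable.
-/

set_option autoImplicit false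

namespace Cfsg.Agent.Lib.McLAmalgam

open Subgroup Cfsg Cfsg.Agent.Lib Cfsg.Agent.Lib.Leech

universe u

theorem card_mcl : Nat.card ↥Spor.McL = 898128000 := by
  rw [← Nat.card_congr MathieuFusion.McL.equiv.toEquiv, MathieuFusion.McL.card_H]

theorem finite_mcl : Finite ↥Spor.McL :=
  Nat.finite_of_card_ne_zero (by rw [card_mcl]; norm_num)

theorem isSimple_mcl : IsSimpleGroup ↥Spor.McL := by
  set w : leechLattice := -(Spor.leechU + Spor.leechV)
  have h : MathieuFusion.McL.H =
      MulAction.stabilizer Co0 Spor.leechU ⊓ MulAction.stabilizer Co0 w := by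
    ext g
    show g • Spor.leechV = Spor.leechV ∧ g • Spor.leechU = Spor.leechU ↔
      g • Spor.leechU = Spor.leechU ∧ g • w = w
    rw [show g • w = -(g • Spor.leechU + g • Spor.leechV) by rw [smul_neg', smul_add'], neg_inj]
    constructor
    · rintro ⟨hv, hu⟩
      exact ⟨hu, by rw [hv, hu]⟩
    · rintro ⟨hu, hw⟩
      rw [hu] at hw
      exact ⟨add_left_cancel hw, hu⟩
  have hs : IsSimpleGroup ↥(MulAction.stabilizer Co0 Spor.leechU ⊓ MulAction.stabilizer Co0 w) := by
    refine isSimple_pair_stab ?_ ?_ ?_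
    · show sqNorm Spor.vecU = 32
      decide +kernel
    · show sqNorm (-(Spor.vecU + Spor.vecV)) = 32
      decide +kernel
    · show dotInt Spor.vecU (-(Spor.vecU + Spor.vecV)) = -8
      decide +kernel
  exact (MathieuFusion.McL.equiv.symm.trans (MulEquiv.subgroupCongr h)).isSimpleGroup

/-- The centre of the McLaughlin group is trivial. -/
theorem center_mcl : Subgroup.center ↥Spor.McL = ⊥ := by
  have := isSimple_mcl
  obtain ⟨t, -, hcov⟩ : ∃ t : ↥Spor.McL, orderOf t = 2 ∧ Cfsg.IsNonsplitDoubleCover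
      ↥(centralizer ({t} : Set ↥Spor.McL)) ↥(alternatingGroup (Fin 8)) :=
    ⟨McLCent.invMcL, McLCent.orderOf_invMcL, McLCent.centralizer_cover⟩
  refine ((inferInstance : (Subgroup.center ↥Spor.McL).Normal).eq_bot_or_eq_top).resolve_right
    fun h => ?_
  have hcomm : ∀ x y : ↥Spor.McL, y * x = x * y := fun x y =>
    Subgroup.mem_center_iff.1 (h ▸ Subgroup.mem_top x) y
  have htop : centralizer ({t} : Set ↥Spor.McL) = ⊤ :=
    eq_top_iff.2 fun x _ => mem_centralizer_singleton_iff.2 (hcomm t x)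
  have hC : Subgroup.center ↥(centralizer ({t} : Set ↥Spor.McL)) = ⊤ :=
    eq_top_iff.2 fun x _ => Subgroup.mem_center_iff.2 fun y => Subtype.ext (hcomm _ _)
  have h2 := hcov.1
  rw [hC, Subgroup.card_top, htop, Subgroup.card_top, card_mcl] at h2
  norm_num at h2

theorem not_solvable_mcl : ¬ Group.IsSolvable ↥Spor.McL := by
  have := isSimple_mcl
  intro h
  have hc := (IsSimpleGroup.comm_iff_isSolvable (G := ↥Spor.McL)).2 h
  have htop : Subgroup.center ↥Spor.McL = ⊤ :=
    eq_top_iff.2 fun x _ => Subgroup.mem_center_iff.2 fun y => hc y x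
  have h2 := center_mcl
  rw [htop] at h2
  have h3 := congrArg (fun K : Subgroup ↥Spor.McL => Nat.card K) h2
  simp [card_mcl] at h3

theorem oddCore_mcl : Cfsg.oddCore ↥Spor.McL = ⊥ := by
  have := isSimple_mcl
  have := finite_mcl
  have hn : (Cfsg.oddCore ↥Spor.McL).Normal := Cfsg.pPrimeCore_normal 2 _
  refine hn.eq_bot_or_eq_top.resolve_right fun h => ?_
  have h2 := Cores.pPrimeCore_coprime (G := ↥Spor.McL) 2
  rw [show Cfsg.pPrimeCore 2 ↥Spor.McL = ⊤ from h, Subgroup.card_top, card_mcl] at h2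
  norm_num at h2

/-- The McLaughlin group satisfies the hypothesis of the recognition theorem, without the first
alternative. -/
theorem mcl_hyp : ∃ t : ↥Spor.McL, orderOf t = 2 ∧
    Cfsg.IsNonsplitDoubleCover (centralizer ({t} : Set ↥Spor.McL)) (alternatingGroup (Fin 8)) ∧
    centralizer ({t} : Set ↥Spor.McL) ⊔ Cfsg.oddCore ↥Spor.McL ≠ ⊤ := by
  refine ⟨McLCent.invMcL, McLCent.orderOf_invMcL, McLCent.centralizer_cover, fun h => ?_⟩
  rw [oddCore_mcl, sup_bot_eq] at h
  have hmem : McLCent.invMcL ∈ Subgroup.center ↥Spor.McL :=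
    Subgroup.mem_center_iff.2 fun g => mem_centralizer_singleton_iff.1 (h ▸ Subgroup.mem_top g)
  rw [center_mcl, Subgroup.mem_bot] at hmem
  have := McLCent.orderOf_invMcL
  rw [hmem, orderOf_one] at this
  omega

theorem twoRank_mcl : BenderSuzuki.TwoRank ↥Spor.McL := by
  have := finite_mcl
  by_contra h
  obtain ⟨t, ht, -, hne⟩ := mcl_hyp
  refine hne ?_
  rw [sup_comm]
  exact BenderConsumers23.sup_centralizer_of_iso (BenderConsumers23.iso_of_not_twoRank h ht)

/-- A McLaughlin subgroup containing the centraliser of an involution is everything. -/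
theorem eq_top_of_mcl {G : Type u} [Group G] [Finite G] {t : G} (ht : orderOf t = 2)
    (G0 : Subgroup G) (hle : centralizer ({t} : Set G) ≤ G0) (e : ↥Spor.McL ≃* ↥G0) : G0 = ⊤ := by
  by_contra hne
  have htG : t ∈ G0 := hle (mem_centralizer_singleton_iff.2 rfl)
  have hconj : ∀ x ∈ G0, orderOf x = 2 → ∃ h ∈ G0, h * t * h⁻¹ = x := by
    intro x hx hx2
    obtain ⟨c, hc⟩ := isConj_iff.1 (McLCent.isConj_of_involutions (e.symm ⟨t, htG⟩) (e.symm ⟨x, hx⟩)
      (by rw [e.symm.orderOf_eq, orderOf_mk, ht]) (by rw [e.symm.orderOf_eq, orderOf_mk, hx2]))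
    refine ⟨e c, (e c).2, ?_⟩
    have h1 := congrArg (fun y => ((e y : ↥G0) : G)) hc
    simpa using h1
  have heven : Even (Nat.card G0) := by
    rw [← Nat.card_congr e.toEquiv, card_mcl]
    decide +kernel
  have hSE : Cfsg.IsStronglyEmbedded G0 := by
    refine (Cfsg.Agent.S0223.result G0 hne heven).2 ⟨fun x hx hx2 c hc => ?_, ?_⟩
    · obtain ⟨h, hh, rfl⟩ := hconj x hx hx2
      have h1 : h⁻¹ * c * h ∈ centralizer ({t} : Set G) := by
        rw [mem_centralizer_singleton_iff] at hc ⊢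
        calc h⁻¹ * c * h * t = h⁻¹ * (c * (h * t * h⁻¹)) * h := by group
          _ = h⁻¹ * (h * t * h⁻¹ * c) * h := by rw [hc]
          _ = t * (h⁻¹ * c * h) := by group
      have h2 := G0.mul_mem (G0.mul_mem hh (hle h1)) (G0.inv_mem hh)
      simpa [mul_assoc] using h2
    · intro x hx y hy hx2 hy2 _
      obtain ⟨a, ha, rfl⟩ := hconj x hx hx2
      obtain ⟨b, hb, rfl⟩ := hconj y hy hy2
      exact ⟨b * a⁻¹, G0.mul_mem hb (G0.inv_mem ha), by group⟩
  have hrank : BenderSuzuki.TwoRank G := by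
    obtain ⟨x, y, hx, hy, hxy, hxx, hyy, hc⟩ := twoRank_mcl
    have hinj : Function.Injective fun z => ((e z : ↥G0) : G) :=
      Subtype.val_injective.comp e.injective
    refine ⟨(e x : G), (e y : G), fun h => hx (hinj (by simpa using h)),
      fun h => hy (hinj (by simpa using h)), fun h => hxy (hinj h), ?_, ?_, ?_⟩
    · simpa using congrArg (fun z => ((e z : ↥G0) : G)) hxx
    · simpa using congrArg (fun z => ((e z : ↥G0) : G)) hyy
    · simpa using congrArg (fun z => ((e z : ↥G0) : G)) hc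
  have hsol := BenderDeps.SolvableEmbedded.isSolvable BenderOne.propSplitFinal hSE
    (BenderDeps.SolvableEmbedded.hasFour_of_twoRank hSE hrank)
  exact not_solvable_mcl (Group.isSolvable_of_surjective (f := e.symm.toMonoidHom) e.symm.surjective)

theorem not_solvable_alt8 : ¬ Group.IsSolvable ↥(alternatingGroup (Fin 8)) := by
  intro h
  have h8 : Group.IsSolvable (Equiv.Perm (Fin 8)) :=
    Group.isSolvable_of_ker_le_range (alternatingGroup (Fin 8)).subtype Equiv.Perm.sign
      (by rw [Subgroup.range_subtype, alternatingGroup_eq_sign_ker])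
  exact Equiv.Perm.not_isSolvable (Fin 8) (by rw [Cardinal.mk_fin]; exact_mod_cast (by norm_num : (5 : ℕ) ≤ 8)) h8

/-- A subgroup containing the centraliser of `t` and an element carrying `t` to `s` is everything. -/
theorem eq_top_of_setting {G : Type u} [Group G] [Finite G] {t : G} (ht : orderOf t = 2)
    (hcov : Cfsg.IsNonsplitDoubleCover (centralizer ({t} : Set G)) (alternatingGroup (Fin 8)))
    (E : Setting t) (G0 : Subgroup G) (hle : centralizer ({t} : Set G) ≤ G0) (w : G) (hw : w ∈ G0)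
    (hws : w * t * w⁻¹ = E.s) : G0 = ⊤ := by
  have := fact_two
  by_contra hne
  have hSG0 : E.S ≤ G0 := E.S_le.trans hle
  have hS2 : IsPGroup 2 E.S := IsPGroup.of_card (n := 7) (by rw [E.S_card]; norm_num)
  have hidx : ¬ 2 ∣ (E.S.subgroupOf G0).index := fun h =>
    Nat.not_even_iff_odd.2 (E.odd_index ht)
      (even_iff_two_dvd.2 (h.trans ⟨_, (relIndex_mul_index hSG0).symm⟩))
  let P0 : Sylow 2 G0 := ((hS2.of_equiv (subgroupOfEquivOfLe hSG0).symm) :
    IsPGroup 2 (E.S.subgroupOf G0)).toSylow hidx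
  have hconj : ∀ x ∈ G0, orderOf x = 2 → ∃ h ∈ G0, h * t * h⁻¹ = x := by
    intro x hx hx2
    have hp : IsPGroup 2 (zpowers (⟨x, hx⟩ : G0)) :=
      IsPGroup.of_card (n := 1) (by rw [Nat.card_zpowers, orderOf_mk, hx2, pow_one])
    obtain ⟨Q, hQ⟩ := hp.exists_le_sylow
    obtain ⟨k, hk⟩ := MulAction.exists_smul_eq G0 Q P0
    have h1 : k * (⟨x, hx⟩ : G0) * k⁻¹ ∈ (P0 : Subgroup G0) := by
      rw [← hk, Sylow.coe_subgroup_smul]
      simpa using Subgroup.smul_mem_pointwise_smul (a := MulAut.conj k) (⟨x, hx⟩ : G0)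
        (Q : Subgroup G0) (hQ (mem_zpowers _))
    have h2 : (k : G) * x * (k : G)⁻¹ ∈ E.S := h1
    have h3 : orderOf ((k : G) * x * (k : G)⁻¹) = 2 := (orderOf_cj _ _).trans hx2
    by_cases h4 : (k : G) * x * (k : G)⁻¹ = t
    · exact ⟨(k : G)⁻¹, G0.inv_mem k.2, by rw [← h4]; group⟩
    · obtain ⟨c, hc, hc'⟩ := E.involutions _ (E.S_le h2) h3 h4
      refine ⟨(k : G)⁻¹ * (c⁻¹ * w), G0.mul_mem (G0.inv_mem k.2)
        (G0.mul_mem (G0.inv_mem (hle hc)) hw), ?_⟩
      calc (k : G)⁻¹ * (c⁻¹ * w) * t * ((k : G)⁻¹ * (c⁻¹ * w))⁻¹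
          = (k : G)⁻¹ * (c⁻¹ * (w * t * w⁻¹) * c) * k := by group
        _ = x := by rw [hws, ← hc']; group
  have htG : t ∈ G0 := hle (mem_centralizer_singleton_iff.2 rfl)
  have heven : Even (Nat.card G0) := by
    refine even_iff_two_dvd.2 ?_
    rw [← ht, ← Subgroup.orderOf_mk t htG]
    exact orderOf_dvd_natCard _
  have hSE : Cfsg.IsStronglyEmbedded G0 := by
    refine (Cfsg.Agent.S0223.result G0 hne heven).2 ⟨fun x hx hx2 c hc => ?_, ?_⟩
    · obtain ⟨h, hh, rfl⟩ := hconj x hx hx2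
      have h1 : h⁻¹ * c * h ∈ centralizer ({t} : Set G) := by
        rw [mem_centralizer_singleton_iff] at hc ⊢
        calc h⁻¹ * c * h * t = h⁻¹ * (c * (h * t * h⁻¹)) * h := by group
          _ = h⁻¹ * (h * t * h⁻¹ * c) * h := by rw [hc]
          _ = t * (h⁻¹ * c * h) := by group
      have h2 := G0.mul_mem (G0.mul_mem hh (hle h1)) (G0.inv_mem hh)
      simpa [mul_assoc] using h2
    · intro x hx y hy hx2 hy2 _
      obtain ⟨a, ha, rfl⟩ := hconj x hx hx2
      obtain ⟨b, hb, rfl⟩ := hconj y hy hy2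
      exact ⟨b * a⁻¹, G0.mul_mem hb (G0.inv_mem ha), by group⟩
  have hrank : BenderSuzuki.TwoRank G := by
    have hsq : ∀ z : G, orderOf z = 2 → z * z = 1 := fun z hz => by
      rw [← pow_two, ← hz, pow_orderOf_eq_one]
    have hne1 : ∀ z : G, orderOf z = 2 → z ≠ 1 := fun z hz h => by
      rw [h, orderOf_one] at hz
      omega
    exact ⟨E.s, t, hne1 _ E.order_s, hne1 _ ht, E.s_ne, hsq _ E.order_s, hsq _ ht,
      mem_centralizer_singleton_iff.1 (E.S_le E.S_mem.2)⟩
  have hsol : Group.IsSolvable ↥G0 := BenderDeps.SolvableEmbedded.isSolvable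
    BenderOne.propSplitFinal hSE (BenderDeps.SolvableEmbedded.hasFour_of_twoRank hSE hrank)
  have hC : Group.IsSolvable ↥(centralizer ({t} : Set G)) :=
    Group.isSolvable_of_isSolvable_injective (f := Subgroup.inclusion hle) (Subgroup.inclusion_injective hle)
  obtain ⟨-, ⟨e⟩, -⟩ := hcov
  have hQ : Group.IsSolvable (↥(centralizer ({t} : Set G)) ⧸
      Subgroup.center ↥(centralizer ({t} : Set G))) := inferInstance
  exact not_solvable_alt8
    (Group.isSolvable_of_surjective (f := e.toMonoidHom) e.surjective)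

end Cfsg.Agent.Lib.McLAmalgam
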