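import Cfsg.Agent.Lib.McLAmalgam.Product
import Cfsg.Agent.Lib.McLAmalgam.Closing

/-!
The recognition of the McLaughlin group from coordinatised settings in both groups.
-/

set_option autoImplicit false
set_option linter.style.haveILetI false

namespace Cfsg.Agent.Lib.McLAmalgam

open Cfsg Subgroup

universe u

/-- A group with such an involution has a subgroup of pairs reaching all of it. -/
theorem exists_tuple_top {G : Type u} [Group G] [Finite G] {t : G} (ht : orderOf t = 2)
    (hcov : IsNonsplitDoubleCover (centralizer ({t} : Set G)) (alternatingGroup (Fin 8)))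
    (F : Frame ↥(centralizer ({t} : Set G))) (E : Setting t) (C : Coords F E)
    (hne : centralizer ({t} : Set G) ⊔ oddCore G ≠ ⊤) :
    ∃ w : G, w * w = 1 ∧ (∀ l ∈ Cert.rels, (l.map (val F w)).prod = 1) ∧
      ∀ J : Subgroup G, centralizer ({t} : Set G) ≤ J → w ∈ J → J = ⊤ := by
  obtain ⟨hgV, hgW⟩ := (dichotomy ht E).resolve_left hne
  obtain ⟨w, hws, hw2, hr⟩ := exists_tuple F ht hcov.1 E C hgV hgW
  exact ⟨w, hw2, hr, fun J hle hwJ => eq_top_of_setting ht hcov E J hle w hwJ hws⟩

/-- The recognition theorem, given coordinatised settings. -/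
theorem recognition
    (hcoords : ∀ (G : Type u) [Group G] [Finite G] (t : G), orderOf t = 2 →
      ∀ F : Frame ↥(centralizer ({t} : Set G)), ∃ E : Setting t, Coords F E)
    (hcoords' : ∀ (G : Type) [Group G] [Finite G] (t : G), orderOf t = 2 →
      ∀ F : Frame ↥(centralizer ({t} : Set G)), ∃ E : Setting t, Coords F E)
    {G : Type u} [Group G] [Finite G] (t : G) (ht : orderOf t = 2)
    (hcov : IsNonsplitDoubleCover (centralizer ({t} : Set G)) (alternatingGroup (Fin 8))) :
    centralizer ({t} : Set G) ⊔ oddCore G = ⊤ ∨ Nonempty (G ≃* Spor.McL) := by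
  refine or_iff_not_imp_left.2 fun hne => ?_
  haveI := finite_mcl
  haveI := isSimple_mcl
  obtain ⟨s, hs, hcov', hne'⟩ := mcl_hyp
  obtain ⟨F⟩ := exists_frame hcov
  obtain ⟨F'⟩ := exists_frame hcov'
  obtain ⟨E, C⟩ := hcoords G t ht F
  obtain ⟨E', C'⟩ := hcoords' ↥Spor.McL s hs F'
  obtain ⟨w, hw, hr, htop⟩ := exists_tuple_top ht hcov F E C hne
  obtain ⟨w', hw', hr', htop'⟩ := exists_tuple_top hs hcov' F' E' C' hne'
  obtain ⟨D, hD, hc', hm', hc, hm⟩ := pairs_bound F' F w' w hw' hw hr' hr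
  haveI : Nontrivial G := ⟨⟨t, 1, fun h => by rw [h, orderOf_one] at ht; omega⟩⟩
  exact iso_of_pairs D (hD.trans (by rw [card_mcl])) (htop' _ hc' hm') (htop _ hc hm)

end Cfsg.Agent.Lib.McLAmalgam
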