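import Mathlib

/-!
A group with a complemented normal elementary subgroup of order sixteen acts on it as an affine group.
-/

set_option autoImplicit false
set_option linter.style.haveILetI false

namespace Cfsg.Agent.Lib.McLAmalgam

open Subgroup

variable {G : Type*} [Group G]

/-- `N` normalises the sixteen elements `c i`, and `C` is a complement on which conjugation is faithful. -/
structure Split (c : ℕ → G) (C N : Subgroup G) : Prop where
  mul : ∀ i < 16, ∀ j < 16, c i * c j = c (i ^^^ j)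
  inj : ∀ i < 16, ∀ j < 16, c i = c j → i = j
  le : C ≤ N
  mem : ∀ i < 16, c i ∈ N
  normal : ∀ n ∈ N, ∀ i < 16, ∃ j < 16, n * c i * n⁻¹ = c j
  disj : ∀ i < 16, c i ∈ C → c i = 1
  span : ∀ n ∈ N, ∃ j < 16, (c j)⁻¹ * n ∈ C
  faithful : ∀ k ∈ C, (∀ i < 16, k * c i = c i * k) → k = 1

variable {c : ℕ → G} {C N : Subgroup G}

theorem Split.one (S : Split c C N) : c 0 = 1 := by
  have h := S.mul 0 (by norm_num) 0 (by norm_num)
  rw [Nat.xor_self] at h
  exact mul_eq_left.1 h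

theorem Split.inv (S : Split c C N) {i : ℕ} (hi : i < 16) : (c i)⁻¹ = c i := by
  refine inv_eq_of_mul_eq_one_right ?_
  rw [S.mul i hi i hi, Nat.xor_self, S.one]

theorem Split.exists_action (S : Split c C N) :
    ∃ α : N →* Equiv.Perm (Fin 16), Function.Injective α ∧
      (∀ (j : ℕ) (_ : j < 16) (h : c j ∈ N) (i : Fin 16), ((α ⟨c j, h⟩ i : Fin 16) : ℕ) = j ^^^ i) ∧
      ∀ (k : G) (_ : k ∈ C) (h : k ∈ N) (i : Fin 16), c ((α ⟨k, h⟩ i : Fin 16) : ℕ) = k * c i * k⁻¹ := by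
  have hex : ∀ (n : N) (i : Fin 16), ∃ j : Fin 16, (c j)⁻¹ * n * c i ∈ C := by
    intro n i
    obtain ⟨j, hj, h⟩ := S.span ((n : G) * c i) (N.mul_mem n.2 (S.mem i i.2))
    exact ⟨⟨j, hj⟩, by rwa [mul_assoc]⟩
  choose f hf using hex
  have huniq : ∀ (n : N) (i j : Fin 16), (c j)⁻¹ * n * c i ∈ C → f n i = j := by
    intro n i j h
    have h1 := C.mul_mem h (C.inv_mem (hf n i))
    have h2 : (c j)⁻¹ * c (f n i) ∈ C := by
      have e : (c j)⁻¹ * n * c i * ((c (f n i))⁻¹ * n * c i)⁻¹ = (c j)⁻¹ * c (f n i) := by group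
      rwa [e] at h1
    rw [S.inv j.2, S.mul j j.2 _ (f n i).2] at h2
    have hlt : (j : ℕ) ^^^ (f n i : ℕ) < 16 := Nat.xor_lt_two_pow (n := 4) j.2 (f n i).2
    have h0 := S.inj _ hlt 0 (by norm_num) ((S.disj _ hlt h2).trans S.one.symm)
    exact Fin.ext (Nat.xor_eq_zero_iff.1 h0).symm
  have hmul : ∀ (n n' : N) (i : Fin 16), f (n * n') i = f n (f n' i) := by
    intro n n' i
    refine huniq _ _ _ ?_
    have h := C.mul_mem (hf n (f n' i)) (hf n' i)
    rw [Subgroup.coe_mul]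
    have e : (c (f n (f n' i)))⁻¹ * n * c (f n' i) * ((c (f n' i))⁻¹ * n' * c i) =
        (c (f n (f n' i)))⁻¹ * (n * n') * c i := by group
    rwa [e] at h
  have hone : ∀ i : Fin 16, f 1 i = i := fun i => huniq _ _ _ (by simp [C.one_mem])
  let α : N →* Equiv.Perm (Fin 16) :=
    { toFun := fun n => ⟨f n, f n⁻¹, fun i => by rw [← hmul, inv_mul_cancel, hone],
        fun i => by rw [← hmul, mul_inv_cancel, hone]⟩
      map_one' := Equiv.ext hone
      map_mul' := fun n n' => Equiv.ext (hmul n n') }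
  have hα : ∀ n i, α n i = f n i := fun _ _ => rfl
  refine ⟨α, ?_, fun j hj h i => ?_, fun k hk h i => ?_⟩
  · rw [injective_iff_map_eq_one]
    intro n hn
    have hi : ∀ i : Fin 16, (c i)⁻¹ * n * c i ∈ C := fun i => by
      have h := hf n i
      rw [← hα, hn, Equiv.Perm.one_apply] at h
      exact h
    have hnC : (n : G) ∈ C := by
      have := hi 0
      simpa [S.one] using this
    refine Subtype.ext (S.faithful n hnC fun i hi16 => ?_)
    have h1 := C.mul_mem (hi ⟨i, hi16⟩) (C.inv_mem hnC)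
    obtain ⟨j, hj, hj'⟩ := S.normal n n.2 i hi16
    have e : (c i)⁻¹ * n * c i * (n : G)⁻¹ = c i * c j := by rw [← hj', S.inv hi16]; group
    rw [show (c i)⁻¹ * n * c i * (n : G)⁻¹ = c i * c j from e, S.mul i hi16 j hj] at h1
    have hlt : i ^^^ j < 16 := Nat.xor_lt_two_pow (n := 4) hi16 hj
    have h0 := S.inj _ hlt 0 (by norm_num) ((S.disj _ hlt h1).trans S.one.symm)
    rw [← Nat.xor_eq_zero_iff.1 h0] at hj'
    exact mul_inv_eq_iff_eq_mul.1 hj'
  · have hlt : j ^^^ i.1 < 16 := Nat.xor_lt_two_pow (n := 4) hj i.2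
    rw [hα, huniq _ i ⟨j ^^^ i.1, hlt⟩ ?_]
    show (c (j ^^^ i.1))⁻¹ * c j * c i ∈ C
    rw [mul_assoc, S.mul j hj i.1 i.2, inv_mul_cancel]
    exact C.one_mem
  · obtain ⟨j, hj, hj'⟩ := S.normal k h i i.2
    rw [hα, huniq _ i ⟨j, hj⟩ ?_, hj']
    show (c j)⁻¹ * k * c i ∈ C
    rw [← hj']
    simpa [mul_assoc] using hk

end Cfsg.Agent.Lib.McLAmalgam
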