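import Cfsg.Agent.Lib.McLAmalgam.Cert.Enum

/-!
Six involutions satisfying the relators generate a group at most `22275` times as large as the group
generated by the first five.
-/

set_option autoImplicit false
set_option maxRecDepth 20000
set_option linter.style.haveILetI false

namespace Cfsg.Agent.Lib.McLAmalgam

open Cfsg.Agent.Lib.CosetEnum Cert

variable {G : Type*} [Group G]

theorem pack_lt_thirtytwo : ∀ l ∈ ([[]] ++ rels ++ (List.range 6).map fun g => [g, g]) ++
    (List.range 5).map (fun g => [g]), ∀ g ∈ l, g < 32 := by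
  decide +kernel

theorem valid_cert (φ : ℕ → G) (h6 : φ 6 = 1) (hrel : ∀ l ∈ rels, (l.map φ).prod = 1)
    (hinv : ∀ g < 6, φ g * φ g = 1) :
    Valid Cert.data φ (Subgroup.closure {x | ∃ g < 5, φ g = x}) := by
  have hall : ∀ l ∈ [[]] ++ rels ++ (List.range 6).map fun g => [g, g], (l.map φ).prod = 1 := by
    intro l hl
    simp only [List.mem_append, List.mem_singleton, List.mem_map, List.mem_range] at hl
    rcases hl with (rfl | hl) | ⟨g, hg, rfl⟩
    · rfl
    · exact hrel l hl
    · simpa using hinv g hg
  set R := [[]] ++ rels ++ (List.range 6).map fun g => [g, g] with hR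
  set W := R ++ (List.range 5).map (fun g => [g]) with hW
  have hlen : R.length = Cert.data.nR ∧ W.length = Cert.data.nW := by
    rw [hW, hR]; exact ⟨by decide +kernel, by decide +kernel⟩
  have hev : ∀ i < W.length, ev φ (getWord Cert.data.W i) = ((W.getD i []).map φ).prod := by
    intro i hi
    rw [words_ok i (by rw [hlen.2] at hi; exact hi), ← hR, ← hW]
    refine ev_pack φ _ ?_
    rw [List.getD_eq_getElem _ _ hi]
    exact pack_lt_thirtytwo _ (List.getElem_mem hi)
  have hW1 : ∀ i < R.length, (W.getD i []).map φ = (R.getD i []).map φ := fun i hi => by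
    rw [hW, List.getD_append _ _ _ _ hi]
  refine ⟨by decide, h6, fun g hg => ?_, fun w hw => ?_, fun w hw => ?_⟩
  · rw [inv_ok g hg]
    refine ⟨hg, ?_⟩
    rcases Nat.lt_or_ge g 6 with h | h
    · exact (inv_eq_of_mul_eq_one_right (hinv g h)).symm
    · have h' : g = 6 := le_antisymm hg h
      rw [h', h6, inv_one]
  · rw [← hlen.1] at hw
    rw [hev w (lt_of_lt_of_le hw (by rw [hW]; exact (List.sublist_append_left R _).length_le)), hW1 w hw,
      List.getD_eq_getElem _ _ hw]
    exact hall _ (List.getElem_mem hw)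
  · rw [← hlen.2] at hw
    rw [hev w hw, List.getD_eq_getElem _ _ hw]
    have := List.getElem_mem hw
    simp only [hW, List.mem_append, List.mem_map, List.mem_range] at this
    rcases this with h | ⟨g, hg, he⟩
    · rw [hall _ h]; exact one_mem _
    · rw [← he]
      simp only [List.map_cons, List.map_nil, List.prod_cons, List.prod_nil, mul_one]
      exact Subgroup.subset_closure ⟨g, hg, rfl⟩

/-- The group generated by the six involutions is bounded. -/
theorem card_le_of_rels [Finite G] (φ : ℕ → G) (h6 : φ 6 = 1)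
    (hrel : ∀ l ∈ rels, (l.map φ).prod = 1) (hinv : ∀ g < 6, φ g * φ g = 1) :
    Nat.card (Subgroup.closure {x | ∃ g < 6, φ g = x}) ≤
      22275 * Nat.card (Subgroup.closure {x | ∃ g < 5, φ g = x}) := by
  classical
  set Hs := Subgroup.closure {x | ∃ g < 5, φ g = x}
  have hV := valid_cert φ h6 hrel hinv
  set J := Subgroup.closure {x | ∃ g < 6, φ g = x} with hJ
  have hcov := fun x (hx : x ∈ J) => rep_covers hV edges_ok (facts_good hV) (by norm_num)
    (by decide +kernel) (fun g (hg : g < 6) => ⟨g, hg, (inv_eq_of_mul_eq_one_right (hinv g hg)).symm⟩) x hx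
  have hmem : ∀ x : J, ∃ p : Fin 22275 × Hs,
      (p.2 : G) * rep Cert.data 25550 φ (get32 vert p.1.1) = x := by
    intro x
    obtain ⟨i, hi, hm⟩ := hcov x x.2
    exact ⟨⟨⟨i, hi⟩, ⟨_, hm⟩⟩, by simp⟩
  choose f hf using hmem
  have hinjf : Function.Injective f := fun a b hab => Subtype.ext (by rw [← hf a, ← hf b, hab])
  have h := Nat.card_le_card_of_injective f hinjf
  rwa [Nat.card_prod, Nat.card_fin] at h

end Cfsg.Agent.Lib.McLAmalgam
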