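import Cfsg.Agent.Lib.Computation.PermCode

/-!
Products of coded permutations evaluated point by point.
-/

set_option autoImplicit false

namespace Cfsg.Agent.Lib.McLAmalgam

open Cfsg.Agent.Lib.Computation

/-- The image of a point under a word in the coded permutations. -/
def evalW (w : ℕ) (tab : List ℕ) (l : List ℕ) (i : ℕ) : ℕ :=
  l.foldr (fun g v => getW w (tab.getD g 0) v) i

/-- Two words code the same permutation of `n` points. -/
def eqW (n w : ℕ) (tab : List ℕ) (l l' : List ℕ) : Bool :=
  (List.range n).all fun i => evalW w tab l i == evalW w tab l' i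

/-- All entries are permutations of `n` points. -/
def okTab (n w : ℕ) (tab : List ℕ) : Bool :=
  tab.all fun c => okPerm n w c

/-- The coded permutation of a letter. -/
noncomputable def letP (n w : ℕ) (tab : List ℕ) (g : ℕ) : Equiv.Perm (Fin n) :=
  decodeP n w (tab.getD g 0)

variable {n w : ℕ} {tab : List ℕ}

theorem okPerm_getD (h : okTab n w tab = true) {g : ℕ} (hg : g < tab.length) :
    okPerm n w (tab.getD g 0) = true := by
  rw [List.getD_eq_getElem _ _ hg]
  exact List.all_eq_true.1 h _ (List.getElem_mem hg)

theorem prod_apply (h : okTab n w tab = true) (l : List ℕ) (hl : ∀ g ∈ l, g < tab.length) (i : Fin n) :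
    (((l.map (letP n w tab)).prod i : Fin n) : ℕ) = evalW w tab l i := by
  induction l with
  | nil => simp [evalW]
  | cons a l ih =>
    have := ih fun g hg => hl g (List.mem_cons_of_mem _ hg)
    simp only [List.map_cons, List.prod_cons, Equiv.Perm.mul_apply, evalW, List.foldr_cons]
    rw [letP, decodeP_apply (okPerm_getD h (hl a List.mem_cons_self)), this]
    rfl

theorem prod_eq (h : okTab n w tab = true) {l l' : List ℕ} (hl : ∀ g ∈ l, g < tab.length)
    (hl' : ∀ g ∈ l', g < tab.length) (he : eqW n w tab l l' = true) :
    (l.map (letP n w tab)).prod = (l'.map (letP n w tab)).prod := by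
  refine Equiv.ext fun i => Fin.ext ?_
  rw [prod_apply h l hl, prod_apply h l' hl']
  exact beq_iff_eq.1 (List.all_eq_true.1 he i.1 (List.mem_range.2 i.2))

theorem eqW_of_prod_eq (h : okTab n w tab = true) {l l' : List ℕ} (hl : ∀ g ∈ l, g < tab.length)
    (hl' : ∀ g ∈ l', g < tab.length)
    (he : (l.map (letP n w tab)).prod = (l'.map (letP n w tab)).prod) : eqW n w tab l l' = true := by
  refine List.all_eq_true.2 fun i hi => beq_iff_eq.2 ?_
  have := List.mem_range.1 hi
  rw [show i = ((⟨i, this⟩ : Fin n) : ℕ) from rfl, ← prod_apply h l hl, ← prod_apply h l' hl', he]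

end Cfsg.Agent.Lib.McLAmalgam
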