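import Mathlib

/-!
Elementary abelian groups of permutations of eight points acting regularly, and involutions of eight points.
-/

set_option autoImplicit false
set_option maxRecDepth 20000
set_option linter.style.haveILetI false

namespace Cfsg.Agent.Lib.McLAmalgam

open Equiv

theorem xor_involutive8 (k : Fin 8) : Function.Involutive fun i : Fin 8 => i ^^^ k := by
  have h : ∀ k i : Fin 8, i ^^^ k ^^^ k = i := by decide
  exact h k

/-- A translation of the eight points. -/
def tr (k : Fin 8) : Perm (Fin 8) := (xor_involutive8 k).toPerm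

theorem tr_apply (k i : Fin 8) : tr k i = i ^^^ k := rfl

/-- The transposition of the first two points. -/
def swap01 : Perm (Fin 8) := Equiv.swap 0 1

/-- A product of two transpositions. -/
def dblTrans : Perm (Fin 8) := Equiv.swap 0 1 * Equiv.swap 2 3

theorem tr_mul : ∀ a b : Fin 8, tr a * tr b = tr (a ^^^ b) := by decide

theorem tr_zero : tr 0 = 1 := by decide

theorem tr_injective {a b : Fin 8} (h : tr a = tr b) : a = b := by
  have h0 := Equiv.congr_fun h 0
  revert h0
  revert a b
  decide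

theorem swap01_mul_self : swap01 * swap01 = 1 := Equiv.swap_mul_self _ _

theorem sign_swap01 : Perm.sign swap01 = -1 := Perm.sign_swap (by decide)

theorem sign_tr : ∀ k : Fin 8, Perm.sign (tr k) = 1 := by decide +kernel

theorem tr_one_fpf : ∀ p, tr 1 p ≠ p := by decide

theorem fixed_dblTrans : dblTrans 4 = 4 := by decide

theorem dblTrans_facts : dblTrans * dblTrans = 1 ∧ Perm.sign dblTrans = 1 ∧
    swap 4 5 * dblTrans = dblTrans * swap 4 5 ∧ dblTrans ≠ 1 := by
  decide +kernel

theorem swap01_tr_one : swap01 * tr 1 = tr 1 * swap01 := by decide +kernel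

/-- The cycle type of a fixed-point-free involution. -/
theorem cycleType_fpf {e : Perm (Fin 8)} (h : e * e = 1) (hf : ∀ p, e p ≠ p) :
    e.cycleType = Multiset.replicate 4 2 := by
  haveI : Fact (Nat.Prime 2) := ⟨Nat.prime_two⟩
  have h2 := Perm.cycleType_of_pow_prime_eq_one (p := 2) (σ := e) (by rw [pow_two, h])
  have hs := e.sum_cycleType
  have hsupp : e.support = Finset.univ := Finset.eq_univ_of_forall fun p => Perm.mem_support.2 (hf p)
  rw [hsupp, Finset.card_univ, Fintype.card_fin, h2, Multiset.sum_replicate, smul_eq_mul] at hs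
  rw [h2]
  congr 1
  omega

/-- The cycle type of an even involution with a fixed point. -/
theorem cycleType_dbl {e : Perm (Fin 8)} (h : e * e = 1) (hne : e ≠ 1) (hs : Perm.sign e = 1) {p : Fin 8}
    (hp : e p = p) : e.cycleType = Multiset.replicate 2 2 := by
  haveI : Fact (Nat.Prime 2) := ⟨Nat.prime_two⟩
  have h2 := Perm.cycleType_of_pow_prime_eq_one (p := 2) (σ := e) (by rw [pow_two, h])
  have hsum := e.sum_cycleType
  have hlt : e.support.card < 8 := by
    have := Finset.card_lt_univ_of_notMem (s := e.support) (x := p) (by simp [hp])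
    simpa using this
  rw [h2, Multiset.sum_replicate, smul_eq_mul] at hsum
  have hsign := Perm.sign_of_cycleType e
  rw [h2, Multiset.sum_replicate, Multiset.card_replicate, smul_eq_mul, hs] at hsign
  have hpos : e.cycleType.card ≠ 0 := by
    rw [Ne, Perm.card_cycleType_eq_zero]; exact hne
  generalize hk : e.cycleType.card = k at *
  rw [h2]
  have hk4 : k < 4 := by omega
  interval_cases k
  · exact absurd rfl hpos
  · exact absurd hsign (by decide)
  · rfl
  · exact absurd hsign (by decide)

theorem exists_even_conj {e f g : Perm (Fin 8)} (hc : e.cycleType = f.cycleType) (hg : Perm.sign g = -1)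
    (hgf : g * f = f * g) : ∃ σ : Perm (Fin 8), Perm.sign σ = 1 ∧ σ * e * σ⁻¹ = f := by
  obtain ⟨σ, hσ⟩ := isConj_iff.1 (Perm.isConj_iff_cycleType_eq.2 hc)
  rcases Int.units_eq_one_or (Perm.sign σ) with h | h
  · exact ⟨σ, h, hσ⟩
  · refine ⟨g * σ, by rw [Perm.sign_mul, hg, h]; rfl, ?_⟩
    calc g * σ * e * (g * σ)⁻¹ = g * (σ * e * σ⁻¹) * g⁻¹ := by group
      _ = f := by rw [hσ, hgf, mul_inv_cancel_right]

/-- Fixed-point-free even involutions are conjugate to the first translation in the alternating group. -/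
theorem conj_to_tr_one {e : Perm (Fin 8)} (h : e * e = 1) (hf : ∀ p, e p ≠ p) :
    ∃ σ : Perm (Fin 8), Perm.sign σ = 1 ∧ σ * e * σ⁻¹ = tr 1 :=
  exists_even_conj ((cycleType_fpf h hf).trans (cycleType_fpf (by rw [tr_mul]; decide) tr_one_fpf).symm)
    sign_swap01 swap01_tr_one

/-- Even involutions with a fixed point are conjugate to `dblTrans` in the alternating group. -/
theorem conj_to_dbl {e : Perm (Fin 8)} (h : e * e = 1) (hne : e ≠ 1) (hs : Perm.sign e = 1) {p : Fin 8}
    (hp : e p = p) : ∃ σ : Perm (Fin 8), Perm.sign σ = 1 ∧ σ * e * σ⁻¹ = dblTrans :=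
  exists_even_conj ((cycleType_dbl h hne hs hp).trans (cycleType_dbl dblTrans_facts.1
      dblTrans_facts.2.2.2 dblTrans_facts.2.1 fixed_dblTrans).symm)
    (Perm.sign_swap (by decide)) dblTrans_facts.2.2.1

/-- A regular elementary abelian group is conjugate to the translations by an even permutation, up to
`swap01`. -/
theorem exists_regular_conj (b : Fin 8 → Perm (Fin 8)) (hmul : ∀ i j, b (i ^^^ j) = b i * b j)
    (hfpf : ∀ j, j ≠ 0 → ∀ p, b j p ≠ p) :
    ∃ σ : Perm (Fin 8), Perm.sign σ = 1 ∧
      ((∀ k, σ * b k * σ⁻¹ = tr k) ∨ (∀ k, σ * b k * σ⁻¹ = swap01 * tr k * swap01)) := by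
  have hx : ∀ i j : Fin 8, (i ^^^ j) ^^^ j = i := by decide
  have hx0 : ∀ i j : Fin 8, i ^^^ j = 0 → i = j := by decide
  have hxc : ∀ i j : Fin 8, i ^^^ j = j ^^^ i := by decide
  have hinj : Function.Injective fun j : Fin 8 => b j 0 := fun i j h => by
    refine hx0 i j ?_
    by_contra hne
    refine hfpf _ hne (b j 0) ?_
    rw [← Perm.mul_apply, ← hmul, hx]
    exact h
  obtain ⟨σ0, hσ0⟩ : ∃ σ0 : Perm (Fin 8), ∀ j, σ0 j = b j 0 :=
    ⟨Equiv.ofBijective _ ⟨hinj, Finite.injective_iff_surjective.1 hinj⟩, fun _ => rfl⟩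
  have key : ∀ k, σ0⁻¹ * b k * σ0 = tr k := fun k => by
    refine Equiv.ext fun j => σ0.injective ?_
    rw [Perm.mul_apply, Perm.mul_apply, Perm.coe_inv, Equiv.apply_symm_apply, tr_apply, hσ0, hσ0,
      ← Perm.mul_apply, ← hmul, hxc]
  rcases Int.units_eq_one_or (Perm.sign σ0) with h | h
  · exact ⟨σ0⁻¹, by rw [Perm.sign_inv, h], Or.inl fun k => by rw [inv_inv, key]⟩
  · refine ⟨swap01 * σ0⁻¹, by rw [Perm.sign_mul, Perm.sign_inv, h, sign_swap01]; rfl, Or.inr fun k => ?_⟩
    rw [mul_inv_rev, inv_inv, inv_eq_of_mul_eq_one_right swap01_mul_self, ← key k]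
    simp only [mul_assoc]

end Cfsg.Agent.Lib.McLAmalgam
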