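import Cfsg.Agent.Lib.McLAmalgam.LocalChecks
import Cfsg.Agent.Lib.McLAmalgam.CoordsPerm

/-!
The two tabulated subgroups and their normalisers seen on eight points.
-/

set_option autoImplicit false
set_option maxRecDepth 20000
set_option Elab.async false

namespace Cfsg.Agent.Lib.McLAmalgam

open Cfsg.Agent.Lib.Computation

/-- The value of a word on one of the eight points. -/
def ev8 (l : List ℕ) (i : Fin 8) : Fin 8 := Fin.ofNat 8 (evalW 4 cycTab l i)

/-- The first bits of a code. -/
def half (j : ℕ) : Fin 8 := Fin.ofNat 8 (j / 2)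

/-- An element of the complement on the eight points in standard labels. -/
def gact (d : SideData) (c : Equiv.Perm (Fin 8)) (l : List ℕ) (i : Fin 8) : Fin 8 := c (ev8 (pqWord d l) (c i))

/-- Its linear part. -/
def lact (d : SideData) (c : Equiv.Perm (Fin 8)) (l : List ℕ) (i : Fin 8) : Fin 8 :=
  gact d c l i ^^^ gact d c l 0

/-- The code of the images of three points. -/
def code3 (f : Fin 8 → Fin 8) : ℕ := f 1 + 8 * f 2 + 64 * f 4

/-- Independence of a code. -/
def indep3 (v : ℕ) : Bool :=
  let a := v % 8
  let b := v / 8 % 8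
  let c := v / 64
  a != 0 && b != 0 && b != a && c != 0 && c != a && c != b && c != (a ^^^ b)

/-- The checks for one class. -/
structure PermOK (d : SideData) (c : Equiv.Perm (Fin 8)) : Prop where
  invol : ∀ i, c (c i) = i
  first : cdWord d 1 = [0, 1, 0, 1]
  trans : ∀ j < 16, ∀ i : Fin 8, ev8 (cdWord d j) i = c (c i ^^^ half j)
  add : d.lwords.all (fun l => (List.finRange 8).all fun a => (List.finRange 8).all fun b =>
    lact d c l (a ^^^ b) == lact d c l a ^^^ lact d c l b) = true
  found : maskOf (d.lwords.map fun l => code3 (lact d c l)) = maskOf ((List.range 512).filter indep3)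
  fixed : ∀ a : Fin 8, d.lwords.all (fun l => lact d c l a == a) = true → a = 0

theorem permOK_V : PermOK sideV 1 := by
  constructor <;> decide +kernel

theorem permOK_W : PermOK sideW swap01 := by
  constructor <;> decide +kernel

theorem dbl_word : (∀ i : Fin 8, ev8 [0, 1, 1, 0] i = dblTrans i) ∧
    eqW 240 8 genTab [0, 1, 1, 0, 0, 1, 1, 0] [0, 1, 0, 1] = true := by
  decide +kernel

theorem flip_ok : eqW 240 8 genTab (flipWord ++ cdWord sideV 2) (cdWord sideV 3 ++ flipWord) = true := by
  decide +kernel

/-- Generators of the Sylow subgroup. -/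
def sylowGens : List (List ℕ) :=
  (sideV.d8.map (pqWord sideV)) ++ ((List.range 4).map fun i => cdWord sideV (2 ^ i))

theorem sylow_W : sylowGens.all (fun g => (List.finRange 8).all fun k => (List.finRange 8).any fun k' =>
    (List.finRange 8).all fun i => ev8 g (swap01 (swap01 i ^^^ k)) == swap01 (swap01 (ev8 g i) ^^^ k')) =
      true := by
  decide +kernel

theorem sylow_center : (List.range 16).all (fun j => (List.range 8).all fun i => (decide (j < 2) && i == 0) ||
    sylowGens.any fun g => !eqW 240 8 genTab (cdWord sideV j ++ pqWord sideV (sideV.d8.getD i []) ++ g)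
      (g ++ (cdWord sideV j ++ pqWord sideV (sideV.d8.getD i [])))) = true := by
  decide +kernel

theorem d8_zero : sideV.d8.getD 0 [] = [] := rfl

theorem inter_perm : ∀ a b : Fin 8, tr a = swap01 * tr b * swap01 → a = 0 ∨ a = 1 := by decide +kernel

end Cfsg.Agent.Lib.McLAmalgam
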