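import Cfsg.Agent.Lib.McLAmalgam.LocalChecks
import Cfsg.Agent.Lib.McLAmalgam.Affine
import Cfsg.Agent.Lib.McLAmalgam.Setting
import Cfsg.Agent.Lib.Cores.Gaschutz

/-!
In a group where `t` is fused inside one of the elementary subgroups of order sixteen, a new involution
satisfies every word that is trivial in the affine model of its normaliser.
-/

set_option autoImplicit false
set_option maxRecDepth 20000
set_option linter.style.haveILetI false

namespace Cfsg.Agent.Lib.McLAmalgam

open Cfsg Subgroup Cfsg.Agent.Lib.Computation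

variable {G : Type*} [Group G] {t : G} (F : Frame ↥(Subgroup.centralizer ({t} : Set G)))

/-- The value of a letter: the five letters of the centraliser and the new one. -/
def val (w : G) (g : ℕ) : G :=
  if g < 5 then el F (letterWords.getD g []) else if g = 5 then w else 1

theorem evalW_append (w : ℕ) (tab l l' : List ℕ) (i : ℕ) :
    evalW w tab (l ++ l') i = evalW w tab l (evalW w tab l' i) := by
  simp [evalW, List.foldr_append]

theorem pqWord_append (d : SideData) (l l' : List ℕ) :
    pqWord d (l ++ l') = pqWord d l ++ pqWord d l' := List.flatMap_append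

theorem linW_lt {d : SideData} (hd : okTab 16 4 [d.ap, d.aq] = true) (l : List ℕ) (hl : ∀ g ∈ l, g < 2)
    {j : ℕ} (hj : j < 16) : linW d l j < 16 := by
  have := ((l.map (letP 16 4 [d.ap, d.aq])).prod ⟨j, hj⟩).2
  rwa [prod_apply hd l (by simpa using hl)] at this

variable {d : SideData} {gl : ℕ} (hd : sideLetters d = true) (ht : sideTable d = true) (K : LocalOK d gl)

include hd in
theorem el_pq_mul (l l' : List ℕ) : el F (pqWord d l) * el F (pqWord d l') = el F (pqWord d (l ++ l')) := by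
  rw [pqWord_append, el_append]

include hd K in
theorem conj_cd (l : List ℕ) (hl : ∀ g ∈ l, g < 2) {j : ℕ} (hj : j < 16) :
    el F (pqWord d l) * cd F d j = cd F d (linW d l j) * el F (pqWord d l) := by
  induction l generalizing j with
  | nil => rw [show pqWord d [] = [] from rfl, el_nil, one_mul, mul_one]; rfl
  | cons a l ih =>
    have ha := hl a List.mem_cons_self
    have hl' := fun g hg => hl g (List.mem_cons_of_mem _ hg)
    have hlt := linW_lt K.tabs.1 l hl' hj
    have h := List.all_eq_true.1 K.conj _ (List.mem_range.2 hlt)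
    rw [Bool.and_eq_true] at h
    rw [show a :: l = [a] ++ l from rfl, ← el_pq_mul F hd, mul_assoc, ih hl' hj, ← mul_assoc, ← mul_assoc]
    congr 1
    rw [show linW d ([a] ++ l) j = linW d [a] (linW d l j) from evalW_append _ _ _ _ _, cd, cd,
      ← el_append, ← el_append]
    have hp : ∀ b : ℕ, b < 2 → ∀ g ∈ pqWord d [b], g < 6 := fun b _ => pqWord_lt hd _
    refine el_eq F (fun g hg => (List.mem_append.1 hg).elim (hp a ha g) (cdWord_lt hd _ g))
      (fun g hg => (List.mem_append.1 hg).elim (cdWord_lt hd _ g) (hp a ha g)) ?_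
    interval_cases a
    · simpa [pqWord] using h.1
    · simpa [pqWord] using h.2

/-- The complement inside the centraliser of `t`. -/
def pqSub (d : SideData) : Subgroup G :=
  Subgroup.closure {el F (pqWord d [0]), el F (pqWord d [1])}

theorem el_pq_mem (hd : sideLetters d = true) (l : List ℕ) (hl : ∀ g ∈ l, g < 2) :
    el F (pqWord d l) ∈ pqSub F d := by
  induction l with
  | nil => exact one_mem _
  | cons a l ih =>
    rw [show a :: l = [a] ++ l from rfl, ← el_pq_mul F hd]
    refine mul_mem (Subgroup.subset_closure ?_) (ih fun g hg => hl g (List.mem_cons_of_mem _ hg))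
    have ha := hl a List.mem_cons_self
    interval_cases a <;> simp

theorem exists_word_of_mem [Finite G] (hd : sideLetters d = true) {a : G} (ha : a ∈ pqSub F d) :
    ∃ l : List ℕ, (∀ g ∈ l, g < 2) ∧ el F (pqWord d l) = a := by
  rw [pqSub, ← Subgroup.mem_toSubmonoid, Subgroup.closure_toSubmonoid_of_finite] at ha
  induction ha using Submonoid.closure_induction with
  | mem x hx =>
    simp only [Set.mem_insert_iff, Set.mem_singleton_iff] at hx
    rcases hx with rfl | rfl
    · exact ⟨[0], by simp, rfl⟩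
    · exact ⟨[1], by simp, rfl⟩
  | one => exact ⟨[], by simp, rfl⟩
  | mul x y _ _ hx hy =>
    obtain ⟨l, hl, rfl⟩ := hx
    obtain ⟨l', hl', rfl⟩ := hy
    exact ⟨l ++ l', fun g hg => (List.mem_append.1 hg).elim (hl g) (hl' g), (el_pq_mul F hd l l').symm⟩

include hd K in
theorem pq_disj [Finite G] {j : ℕ} (hj : j < 16) (h : cd F d j ∈ pqSub F d) : j = 0 := by
  obtain ⟨i, hi, hfix⟩ := List.any_eq_true.1 K.fix
  rw [List.mem_range] at hi
  simp only [Bool.and_eq_true, beq_iff_eq, List.all_eq_true, List.mem_range, Bool.or_eq_true,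
    bne_iff_ne] at hfix
  obtain ⟨⟨hp, hq⟩, hm⟩ := hfix
  obtain ⟨l, hl, hle⟩ := exists_word_of_mem F hd h
  have hfl : ∀ l : List ℕ, (∀ g ∈ l, g < 2) → evalW 8 genTab (pqWord d l) i = i := by
    intro l hl
    induction l with
    | nil => rfl
    | cons a l ih =>
      rw [show a :: l = [a] ++ l from rfl, pqWord_append, evalW_append,
        ih fun g hg => hl g (List.mem_cons_of_mem _ hg)]
      have ha := hl a List.mem_cons_self
      interval_cases a
      · simpa [pqWord] using hp
      · simpa [pqWord] using hq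
  refine ((hm j hj).resolve_right fun hne => hne ?_)
  have h2 := congrArg (fun z => F.ρ z) (Subtype.ext hle :
    ((pqWord d l).map F.x).prod = ((cdWord d j).map F.x).prod)
  simp only [ρ_prod F _ (pqWord_lt hd l), ρ_prod F _ (cdWord_lt hd j)] at h2
  have h3 := congrArg (fun σ : Equiv.Perm (Fin 240) => (σ ⟨i, hi⟩).1) h2
  simp only [xP] at h3
  rw [prod_apply genTab_ok _ (by simpa [genTab] using pqWord_lt hd l),
    prod_apply genTab_ok _ (by simpa [genTab] using cdWord_lt hd j), hfl l hl] at h3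
  exact h3.symm

/-- A map agreeing with another on the basis agrees everywhere. -/
theorem ext4_congr {f g : ℕ → ℕ} (h1 : f 1 = g 1) (h : basisSame f g = true) (j : ℕ) :
    ext4 f j = ext4 g j := by
  simp only [basisSame, Bool.and_eq_true, beq_iff_eq] at h
  simp only [ext4, h1, h.1.1, h.1.2, h.2]

/-- An additive map is determined by the four basic values. -/
theorem additive_eq_ext4 {f : ℕ → ℕ} (h0 : f 0 = 0)
    (h : ∀ a < 16, ∀ b < 16, f (a ^^^ b) = f a ^^^ f b) {j : ℕ} (hj : j < 16) : f j = ext4 f j := by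
  have hid : ∀ j < 16, ext4 id j = j := by decide +kernel
  have hc : ∀ (b : Bool) (x : ℕ), f (bif b then x else 0) = bif b then f x else 0 := fun b x => by
    cases b <;> simp [h0]
  have hlt : ∀ (b : Bool) (x : ℕ), x < 16 → (bif b then x else 0) < 16 := fun b x hx => by
    cases b <;> simp [hx]
  have e : f j = f (ext4 id j) := by rw [hid j hj]
  rw [e]
  simp only [ext4, id]
  have h1 := hlt (j.testBit 0) 1 (by norm_num)
  have h2 := hlt (j.testBit 1) 2 (by norm_num)
  have h3 := hlt (j.testBit 2) 4 (by norm_num)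
  have h4 := hlt (j.testBit 3) 8 (by norm_num)
  rw [h _ (Nat.xor_lt_two_pow (n := 4) (Nat.xor_lt_two_pow (n := 4) h1 h2) h3) _ h4,
    h _ (Nat.xor_lt_two_pow (n := 4) h1 h2) _ h3, h _ h1 _ h2, hc, hc, hc, hc]

include hd ht K in
/-- The main local statement. -/
theorem exists_new_letter [Finite G] (hgl : gl < 5) (hone : cd F d 1 = t) (h256 : ¬ 256 ∣ Nat.card G)
    (hform : ∀ h ∈ centralizer ({t} : Set G), conjSub h (sideSub F hd ht) = sideSub F hd ht →
      ∃ j < 16, ∃ l ∈ d.lwords, h = cd F d j * el F (pqWord d l))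
    (g : G) (hgt : g * t * g⁻¹ = cd F d 2) (hgU : conjSub g (sideSub F hd ht) = sideSub F hd ht) :
    ∃ w : G, ∀ l : List ℕ, (∀ a ∈ l, a ∈ ([0, 1, 2, gl, 5] : List ℕ)) →
      ((List.range 16).all fun i => affW d l i == i) = true → (l.map (val F w)).prod = 1 := by
  classical
  have hlw : ∀ l ∈ d.lwords, ∀ a ∈ l, a < 2 := fun l hl a ha =>
    of_decide_eq_true (List.all_eq_true.1 (List.all_eq_true.1 K.lwords l hl) a ha)
  set U := sideSub F hd ht with hU
  set A := pqSub F d with hA
  have hUmem : ∀ j < 16, cd F d j ∈ U := fun j hj => ⟨j, hj, rfl⟩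
  let N : Subgroup G := normalizer (U : Set G)
  have hN : ∀ n, n ∈ N ↔ conjSub n U = U := fun n => mem_normalizer_iff_map_conj_eq
  have hnconj : ∀ n ∈ N, ∀ i < 16, ∃ j < 16, n * cd F d i * n⁻¹ = cd F d j := fun n hn i hi => by
    have h := mem_normalizer_iff.1 hn (cd F d i)
    obtain ⟨j, hj, e⟩ := h.1 (hUmem i hi)
    exact ⟨j, hj, e.symm⟩
  have hcdinv : ∀ j < 16, (cd F d j)⁻¹ = cd F d j := fun j hj => inv_eq_of_mul_eq_one_right (by
    rw [cd_mul F hd ht hj hj, Nat.xor_self]; rfl)
  have hUN : U ≤ N := le_normalizer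
  have hAN : A ≤ N := by
    rw [hA, pqSub, closure_le]
    intro v hv
    have key : ∀ a < 2, el F (pqWord d [a]) ∈ N := fun a ha => by
      rw [hN]
      refine Subgroup.eq_of_le_of_card_ge ?_ ?_
      · rintro _ ⟨_, ⟨j, hj, rfl⟩, rfl⟩
        refine ⟨linW d [a] j, linW_lt K.tabs.1 [a] (by simpa using ha) hj, ?_⟩
        rw [MulEquiv.coe_toMonoidHom, MulAut.conj_apply, conj_cd F hd K [a] (by simpa using ha) hj,
          mul_inv_cancel_right]
      · rw [conjSub, Nat.card_congr (U.equivMapOfInjective (MulAut.conj _).toMonoidHom (MulAut.conj _).injective).toEquiv]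
    simp only [Set.mem_insert_iff, Set.mem_singleton_iff] at hv
    rcases hv with rfl | rfl
    · exact key 0 (by norm_num)
    · exact key 1 (by norm_num)
  have hcentU : ∀ k : G, (∀ i < 16, k * cd F d i = cd F d i * k) → k ∈ U := by
    intro k hk
    have hkC : k ∈ centralizer ({t} : Set G) := by
      rw [mem_centralizer_singleton_iff, ← hone]
      exact hk 1 (by norm_num)
    have hkN : conjSub k U = U := by
      refine Subgroup.eq_of_le_of_card_ge ?_ ?_
      · rintro _ ⟨_, ⟨j, hj, rfl⟩, rfl⟩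
        rw [MulEquiv.coe_toMonoidHom, MulAut.conj_apply, hk j hj, mul_inv_cancel_right]
        exact hUmem j hj
      · rw [conjSub, Nat.card_congr (U.equivMapOfInjective (MulAut.conj _).toMonoidHom (MulAut.conj _).injective).toEquiv]
    obtain ⟨j, hj, l, hl, rfl⟩ := hform k hkC hkN
    have hlin : ∀ i < 16, linW d l i = i := by
      intro i hi
      have h := hk i hi
      have hlt := linW_lt K.tabs.1 l (hlw l hl) hi
      rw [mul_assoc, conj_cd F hd K l (hlw l hl) hi, ← mul_assoc, ← mul_assoc, cd_mul F hd ht hj hlt,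
        cd_mul F hd ht hi hj] at h
      have h' := cd_injOn F hd ht (Nat.xor_lt_two_pow (n := 4) hj hlt)
        (Nat.xor_lt_two_pow (n := 4) hi hj) (mul_right_cancel h)
      rw [Nat.xor_comm i j] at h'
      exact Nat.xor_right_injective h'
    have hf := List.all_eq_true.1 K.faith l hl
    rw [show basisSame (linW d l) id = true by
      simp [basisSame, hlin 2 (by norm_num), hlin 4 (by norm_num), hlin 8 (by norm_num)]] at hf
    rw [el_eq F (l' := []) (pqWord_lt hd l) (by simp) (by simpa using hf), el_nil, mul_one]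
    exact hUmem j hj
  -- the splitting
  let UA : Subgroup G := U ⊔ A
  have hUAN : UA ≤ N := sup_le hUN hAN
  have hUAel : ∀ z ∈ UA, ∃ j < 16, ∃ a ∈ A, z = cd F d j * a := by
    intro z hz
    have hn : A ≤ normalizer (U : Set G) := hAN
    rw [← SetLike.mem_coe, coe_mul_of_right_le_normalizer_left _ _ hn] at hz
    obtain ⟨u, ⟨j, hj, rfl⟩, a, ha, rfl⟩ := hz
    exact ⟨j, hj, a, ha, rfl⟩
  have h128 : 128 ∣ Nat.card UA := by
    have hd8 := K.d8
    simp only [Bool.and_eq_true, List.all_eq_true, List.mem_range, decide_eq_true_eq, Bool.or_eq_true,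
      beq_iff_eq, Bool.not_eq_true'] at hd8
    obtain ⟨-, hd8⟩ := hd8
    let e : Fin 8 → G := fun i => el F (pqWord d (d.d8.getD i []))
    let m : Fin 8 → Fin 8 → Fin 8 := fun i k => ⟨_, ((hd8 i i.2).2 k k.2).1.1⟩
    have he : ∀ i k : Fin 8, e i * e k = e (m i k) := fun i k => by
      obtain ⟨⟨-, h2⟩, -⟩ := (hd8 i i.2).2 k k.2
      rw [el_pq_mul F hd, show pqWord d (d.d8.getD i [] ++ d.d8.getD k []) =
        pqWord d (d.d8.getD i []) ++ pqWord d (d.d8.getD k []) from pqWord_append d _ _]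
      exact el_eq F (fun a ha => (List.mem_append.1 ha).elim (pqWord_lt hd _ a) (pqWord_lt hd _ a))
        (pqWord_lt hd _) h2
    have hinj : Function.Injective e := fun i k h => by
      by_contra hne
      have h2 := ((hd8 i i.2).2 k k.2).2.resolve_left (fun h => hne (Fin.ext h))
      exact el_ne F (pqWord_lt hd _) (pqWord_lt hd _) h2 h
    have hsurjm : ∀ i, Function.Surjective (m i) := fun i => Finite.injective_iff_surjective.1
      fun k k' h => hinj (mul_left_cancel ((he i k).trans ((congrArg e h).trans (he i k').symm)))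
    have hone' : ∃ z, e z = 1 := by
      obtain ⟨r, hr⟩ := hsurjm 0 0
      exact ⟨r, mul_eq_left.1 ((he 0 r).trans (congrArg e hr))⟩
    let Q : Subgroup G :=
      { carrier := Set.range e
        mul_mem' := by rintro _ _ ⟨i, rfl⟩ ⟨k, rfl⟩; exact ⟨m i k, (he i k).symm⟩
        one_mem' := hone'
        inv_mem' := by
          rintro _ ⟨i, rfl⟩
          obtain ⟨z, hz⟩ := hone'
          obtain ⟨r, hr⟩ := hsurjm i z
          exact ⟨r, (inv_eq_of_mul_eq_one_right (by rw [he, hr, hz])).symm⟩ }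
    have hQA : Q ≤ A := by
      rintro _ ⟨i, rfl⟩
      exact el_pq_mem F hd _ fun a ha => (hd8 i i.2).1 a ha
    let emb : Fin 16 × Fin 8 → (U ⊔ Q : Subgroup G) := fun p =>
      ⟨cd F d p.1 * e p.2, mul_mem (mem_sup_left (hUmem _ p.1.2)) (mem_sup_right ⟨p.2, rfl⟩)⟩
    have hembi : Function.Injective emb := by
      rintro ⟨i, k⟩ ⟨i', k'⟩ h
      have h1 : cd F d i * e k = cd F d i' * e k' := congrArg Subtype.val h
      have h2 : cd F d ((i' : ℕ) ^^^ i) ∈ A := by
        rw [← cd_mul F hd ht i'.2 i.2, ← mul_inv_cancel_right (cd F d i' * cd F d i) (e k)]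
        refine mul_mem ?_ (inv_mem (hQA ⟨k, rfl⟩))
        rw [mul_assoc, h1, ← mul_assoc, cd_mul F hd ht i'.2 i'.2, Nat.xor_self]
        exact mul_mem (show (1 : G) ∈ A from one_mem A) (hQA ⟨k', rfl⟩)
      have h0 := pq_disj F hd K (Nat.xor_lt_two_pow (n := 4) i'.2 i.2) h2
      obtain rfl : i' = i := Fin.ext (Nat.xor_eq_zero_iff.1 h0)
      rw [hinj (mul_left_cancel h1)]
    have hsur : Function.Surjective emb := by
      rintro ⟨z, hz⟩
      rw [← SetLike.mem_coe, coe_mul_of_right_le_normalizer_left _ _ (hQA.trans hAN)] at hz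
      obtain ⟨u, ⟨j, hj, rfl⟩, q, ⟨k, rfl⟩, rfl⟩ := hz
      exact ⟨(⟨j, hj⟩, k), rfl⟩
    have hc : Nat.card (U ⊔ Q : Subgroup G) = 128 := by
      rw [← Nat.card_congr (Equiv.ofBijective emb ⟨hembi, hsur⟩)]
      simp
    rw [← hc]
    exact Subgroup.card_dvd_of_le (sup_le_sup_left hQA U)
  have hcardU : Nat.card U = 16 := by
    let f : Fin 16 → U := fun j => ⟨cd F d j, hUmem j j.2⟩
    have hf : Function.Bijective f := ⟨fun i j h => Fin.ext (cd_injOn F hd ht i.2 j.2
      (congrArg (fun z : U => (z : G)) h)), fun ⟨z, j, hj, e⟩ => ⟨⟨j, hj⟩, Subtype.ext e⟩⟩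
    rw [← Nat.card_congr (Equiv.ofBijective f hf), Nat.card_fin]
  haveI hnormal : (U.subgroupOf N).Normal := normal_in_normalizer
  haveI : IsMulCommutative (U.subgroupOf N) := ⟨⟨by
    rintro ⟨⟨x, hx⟩, hxU⟩ ⟨⟨y, hy⟩, hyU⟩
    obtain ⟨i, hi, hie⟩ := hxU
    obtain ⟨j, hj, hje⟩ := hyU
    refine Subtype.ext (Subtype.ext ?_)
    show x * y = y * x
    rw [show x = cd F d i from hie.symm, show y = cd F d j from hje.symm]
    rw [cd_mul F hd ht hi hj, cd_mul F hd ht hj hi, Nat.xor_comm]⟩⟩
  have hcop : (Nat.card (U.subgroupOf N)).Coprime (UA.subgroupOf N).index := by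
    rw [Nat.card_congr (subgroupOfEquivOfLe hUN).toEquiv, hcardU, show (16 : ℕ) = 2 ^ 4 by norm_num]
    refine Nat.Coprime.pow_left _ (Nat.coprime_two_left.2 ?_)
    rw [← Nat.not_even_iff_odd, even_iff_two_dvd]
    intro h2
    refine h256 (dvd_trans ?_ (Subgroup.card_subgroup_dvd_card N))
    rw [← (UA.subgroupOf N).card_mul_index, Nat.card_congr (subgroupOfEquivOfLe hUAN).toEquiv,
      show 256 = 128 * 2 by norm_num]
    exact Nat.mul_dvd_mul h128 h2
  have hAU : A.subgroupOf N ⊓ U.subgroupOf N = ⊥ := by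
    rw [eq_bot_iff]
    rintro ⟨z, hz⟩ ⟨h1, j, hj, hje⟩
    have h0 : j = 0 := pq_disj F hd K hj (by rw [hje]; exact h1)
    subst h0
    rw [mem_bot]
    exact Subtype.ext hje.symm
  have hsup : U.subgroupOf N ⊔ A.subgroupOf N = UA.subgroupOf N := (subgroupOf_sup hUN hAN).symm
  obtain ⟨H, hH⟩ := Cfsg.Agent.Lib.Cores.Gaschutz.exists_complement (G := N) (K := U.subgroupOf N)
    (U := UA.subgroupOf N) (A := A.subgroupOf N) (hsup ▸ le_sup_left) hcop hAU hsup
  set C₀ : Subgroup G := H.map N.subtype with hC₀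
  have hC₀N : C₀ ≤ N := map_subtype_le H
  have hC₀disj : ∀ i < 16, cd F d i ∈ C₀ → cd F d i = 1 := by
    rintro i hi ⟨z, hz, hze⟩
    have : z = 1 := disjoint_def.1 hH.disjoint (show z ∈ U.subgroupOf N from ⟨i, hi, hze.symm⟩) hz
    rw [← hze, this]; rfl
  have hC₀span : ∀ n ∈ N, ∃ j < 16, (cd F d j)⁻¹ * n ∈ C₀ := by
    intro n hn
    obtain ⟨⟨u, h⟩, huh⟩ := hH.2 ⟨n, hn⟩
    obtain ⟨j, hj, hje⟩ := (u.2 : ((u : N) : G) ∈ U)
    refine ⟨j, hj, (h : N), h.2, ?_⟩
    have h3 : ((u : N) : G) * ((h : N) : G) = n := congrArg Subtype.val huh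
    rw [hje, ← h3, Subgroup.coe_subtype, inv_mul_cancel_left]
  -- the affine model of `U A`
  have hsplitA : Split (cd F d) A UA :=
    { mul := fun i hi j hj => cd_mul F hd ht hi hj
      inj := fun i hi j hj => cd_injOn F hd ht hi hj
      le := le_sup_right
      mem := fun i hi => mem_sup_left (hUmem i hi)
      normal := fun n hn i hi => hnconj n (hUAN hn) i hi
      disj := fun i hi h => by rw [pq_disj F hd K hi h]; rfl
      span := fun n hn => by
        obtain ⟨j, hj, a, ha, rfl⟩ := hUAel n hn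
        exact ⟨j, hj, by rwa [inv_mul_cancel_left]⟩
      faithful := fun k hk h => by
        obtain ⟨j, hj, e⟩ := hcentU k h
        rw [← e, pq_disj F hd K hj (by rw [e]; exact hk)]; rfl }
  obtain ⟨β, hβi, hβt, hβc⟩ := hsplitA.exists_action
  have hβw : ∀ l (hl : ∀ a ∈ l, a < 2) (h : el F (pqWord d l) ∈ UA) (i : Fin 16),
      ((β ⟨el F (pqWord d l), h⟩ i : Fin 16) : ℕ) = linW d l i := by
    intro l hl h i
    refine cd_injOn F hd ht (β _ i).2 (linW_lt K.tabs.1 l hl i.2) ?_
    rw [hβc _ (el_pq_mem F hd l hl) h i, conj_cd F hd K l hl i.2, mul_inv_cancel_right]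
  -- move the complement onto `A`
  have hpA : ∀ l : List ℕ, (∀ a ∈ l, a < 2) → el F (pqWord d l) ∈ A := fun l hl => el_pq_mem F hd l hl
  have h01 : ∀ a < 2, ∀ g ∈ [a], g < 2 := fun a ha g hg => (List.mem_singleton.1 hg).symm ▸ ha
  obtain ⟨ja, hja, hka⟩ := hC₀span _ (hAN (hpA [0] (h01 0 (by norm_num))))
  obtain ⟨jb, hjb, hkb⟩ := hC₀span _ (hAN (hpA [1] (h01 1 (by norm_num))))
  have hrelhold : (relPQ.all fun r => (List.range 16).all fun i => affPQ d ja jb r i == i) = true := by
    refine List.all_eq_true.2 fun r hr => List.all_eq_true.2 fun i hi => beq_iff_eq.2 ?_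
    have hi' := List.mem_range.1 hi
    have hr2 : ∀ a ∈ r, a < 2 := by revert r; decide
    have hval : ∀ r : List ℕ, (∀ a ∈ r, a < 2) → ∃ z : UA,
        (z : G) ∈ C₀ ∧ (∀ i : Fin 16, ((β z i : Fin 16) : ℕ) = affPQ d ja jb r i) ∧
          ∃ u < 16, (z : G) = cd F d u * el F (pqWord d r) := by
      intro r hr
      induction r with
      | nil => exact ⟨1, one_mem _, fun i => by simp [affPQ], 0, by norm_num, by simp [cd, cdWord, pqWord, el_nil]⟩
      | cons a r ih =>
        obtain ⟨z, hzC, hzv, u, hu, hze⟩ := ih fun b hb => hr b (List.mem_cons_of_mem _ hb)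
        have ha := hr a List.mem_cons_self
        have hj : ∃ j < 16, (cd F d j)⁻¹ * el F (pqWord d [a]) ∈ C₀ ∧
            ∀ v, (if a = 0 then ja ^^^ linW d [0] v else jb ^^^ linW d [1] v) = j ^^^ linW d [a] v := by
          interval_cases a
          · exact ⟨ja, hja, hka, fun v => rfl⟩
          · exact ⟨jb, hjb, hkb, fun v => rfl⟩
        obtain ⟨j, hj, hjC, hjv⟩ := hj
        let zj : UA := ⟨cd F d j, mem_sup_left (hUmem j hj)⟩
        let za : UA := ⟨el F (pqWord d [a]), mem_sup_right (hpA [a] (h01 a ha))⟩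
        refine ⟨zj * za * z, ?_, fun i => ?_, ?_⟩
        · show cd F d j * el F (pqWord d [a]) * (z : G) ∈ C₀
          refine mul_mem ?_ hzC
          rwa [hcdinv j hj] at hjC
        · rw [map_mul, map_mul, Equiv.Perm.mul_apply, Equiv.Perm.mul_apply, hβt j hj, hβw [a] (h01 a ha), hzv]
          show _ = if a = 0 then ja ^^^ linW d [0] (affPQ d ja jb r i) else jb ^^^ linW d [1] (affPQ d ja jb r i)
          rw [hjv]
        · have hlt := linW_lt K.tabs.1 [a] (h01 a ha) hu
          refine ⟨j ^^^ linW d [a] u, Nat.xor_lt_two_pow (n := 4) hj hlt, ?_⟩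
          show cd F d j * el F (pqWord d [a]) * (z : G) = _
          rw [hze, ← cd_mul F hd ht hj hlt, show a :: r = [a] ++ r from rfl, ← el_pq_mul F hd,
            mul_assoc (cd F d j), ← mul_assoc (el F (pqWord d [a])), conj_cd F hd K [a] (h01 a ha) hu]
          simp only [mul_assoc]
    obtain ⟨z, hzC, hzv, u, hu, hze⟩ := hval r hr2
    have h1 : el F (pqWord d r) = 1 :=
      el_eq F (pqWord_lt hd r) (by simp) (List.all_eq_true.1 K.rels r hr)
    rw [h1, mul_one] at hze
    have hz1 : z = 1 := Subtype.ext (by rw [hze]; exact hC₀disj u hu (hze ▸ hzC))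
    have := hzv ⟨i, hi'⟩
    rw [hz1, map_one] at this
    exact this.symm
  have hcompl := List.all_eq_true.1 (List.all_eq_true.1 K.compl ja (List.mem_range.2 hja)) jb
    (List.mem_range.2 hjb)
  rw [hrelhold] at hcompl
  simp only [Bool.not_true, Bool.false_or, List.any_eq_true, List.mem_range, Bool.and_eq_true,
    beq_iff_eq] at hcompl
  obtain ⟨u, hu, hja', hjb'⟩ := hcompl
  set C := conjSub (cd F d u) C₀ with hC
  have hmemC : ∀ z, z ∈ C ↔ cd F d u * z * cd F d u ∈ C₀ := by
    intro z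
    rw [hC, conjSub, Subgroup.mem_map_equiv, MulAut.conj_symm_apply, hcdinv u hu]
  have hAC : A ≤ C := by
    rw [hA, pqSub, closure_le]
    have key : ∀ a j, a < 2 → j = u ^^^ linW d [a] u → (cd F d j)⁻¹ * el F (pqWord d [a]) ∈ C₀ →
        el F (pqWord d [a]) ∈ C := by
      intro a j ha hj hC0
      have hlt := linW_lt K.tabs.1 [a] (h01 a ha) hu
      rw [hj, hcdinv _ (Nat.xor_lt_two_pow (n := 4) hu hlt), ← cd_mul F hd ht hu hlt, mul_assoc,
        ← conj_cd F hd K [a] (h01 a ha) hu, ← mul_assoc] at hC0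
      exact (hmemC _).2 hC0
    intro v hv
    simp only [Set.mem_insert_iff, Set.mem_singleton_iff] at hv
    rcases hv with rfl | rfl
    · exact key 0 ja (by norm_num) hja' hka
    · exact key 1 jb (by norm_num) hjb' hkb
  have huN : cd F d u ∈ N := hUN (hUmem u hu)
  have hsplit : Split (cd F d) C N :=
    { mul := fun i hi j hj => cd_mul F hd ht hi hj
      inj := fun i hi j hj => cd_injOn F hd ht hi hj
      le := fun z hz => by
        have h := hC₀N ((hmemC z).1 hz)
        rwa [Subgroup.mul_mem_cancel_right _ huN, Subgroup.mul_mem_cancel_left _ huN] at h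
      mem := fun i hi => hUN (hUmem i hi)
      normal := hnconj
      disj := fun i hi h => by
        have h' := (hmemC _).1 h
        rw [cd_mul F hd ht hu hi, cd_mul F hd ht (Nat.xor_lt_two_pow (n := 4) hu hi) hu,
          Nat.xor_comm u i, Nat.xor_assoc, Nat.xor_self, Nat.xor_zero] at h'
        exact hC₀disj i hi h'
      span := fun n hn => by
        obtain ⟨j, hj, h⟩ := hC₀span (cd F d u * n * cd F d u) (mul_mem (mul_mem huN hn) huN)
        refine ⟨j, hj, (hmemC _).2 ?_⟩
        rw [hcdinv j hj] at h ⊢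
        have e : cd F d u * cd F d j = cd F d j * cd F d u := by
          rw [cd_mul F hd ht hu hj, cd_mul F hd ht hj hu, Nat.xor_comm]
        rw [← mul_assoc, e, mul_assoc (cd F d j), mul_assoc (cd F d j)]
        exact h
      faithful := fun k hk h => by
        obtain ⟨j, hj, e⟩ := hcentU k h
        rw [← e] at hk
        have hmul : cd F d u * cd F d j * cd F d u = cd F d j := by
          rw [cd_mul F hd ht hu hj, cd_mul F hd ht (Nat.xor_lt_two_pow (n := 4) hu hj) hu,
            Nat.xor_comm u j, Nat.xor_assoc, Nat.xor_self, Nat.xor_zero]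
        have h' := (hmemC _).1 hk
        rw [hmul] at h'
        rw [← e]
        exact hC₀disj j hj h' }
  obtain ⟨α, hαi, hαt, hαc⟩ := hsplit.exists_action
  have hαw : ∀ l (hl : ∀ a ∈ l, a < 2) (h : el F (pqWord d l) ∈ N) (i : Fin 16),
      ((α ⟨el F (pqWord d l), h⟩ i : Fin 16) : ℕ) = linW d l i := by
    intro l hl h i
    refine cd_injOn F hd ht (α _ i).2 (linW_lt K.tabs.1 l hl i.2) ?_
    rw [hαc _ (hAC (hpA l hl)) h i, conj_cd F hd K l hl i.2, mul_inv_cancel_right]
  -- elements of the complement act by additive maps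
  have hlinear : ∀ k (hk : k ∈ C) (j : Fin 16), ∀ f : ℕ → ℕ,
      (∀ i : Fin 16, f i = ((α ⟨k, hsplit.le hk⟩ i : Fin 16) : ℕ)) → f j = ext4 f j := by
    intro k hk j f hf
    have hhom : ∀ a b : Fin 16, ∀ hab : a.1 ^^^ b.1 < 16, f (a.1 ^^^ b.1) = f a ^^^ f b := by
      intro a b hab
      have e : f (a.1 ^^^ b.1) = f (⟨a.1 ^^^ b.1, hab⟩ : Fin 16).1 := rfl
      rw [e, hf, hf a, hf b]
      refine cd_injOn F hd ht (Fin.is_lt _) (Nat.xor_lt_two_pow (n := 4) (Fin.is_lt _) (Fin.is_lt _)) ?_
      rw [← cd_mul F hd ht (Fin.is_lt _) (Fin.is_lt _), hαc k hk, hαc k hk, hαc k hk,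
        ← cd_mul F hd ht a.2 b.2]
      group
    have hnat : ∀ a < 16, ∀ b < 16, f (a ^^^ b) = f a ^^^ f b := fun a ha b hb =>
      hhom ⟨a, ha⟩ ⟨b, hb⟩ (Nat.xor_lt_two_pow (n := 4) ha hb)
    have h0 : f 0 = 0 := by
      have h := hnat 0 (by norm_num) 0 (by norm_num)
      rwa [Nat.xor_self, Nat.xor_self] at h
    exact additive_eq_ext4 h0 hnat j.2
  -- the element moving `t`
  obtain ⟨j1, hj1, hk1⟩ := hsplit.span g ((hN g).2 hgU)
  set k := (cd F d j1)⁻¹ * g with hkdef
  let f : ℕ → ℕ := fun i => if h : i < 16 then ((α ⟨k, hsplit.le hk1⟩ ⟨i, h⟩ : Fin 16) : ℕ) else 0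
  have hf : ∀ i : Fin 16, f i = ((α ⟨k, hsplit.le hk1⟩ i : Fin 16) : ℕ) := fun i => by
    simp only [f, dif_pos i.2]
  have hflt : ∀ i, f i < 16 := fun i => by
    simp only [f]; split_ifs with h
    · exact Fin.is_lt _
    · norm_num
  have hf1 : f 1 = 2 := by
    rw [show f 1 = f (1 : Fin 16).1 from rfl, hf]
    refine cd_injOn F hd ht (Fin.is_lt _) (by norm_num) ?_
    rw [hαc k hk1]
    show k * cd F d 1 * k⁻¹ = cd F d 2
    rw [hone, hkdef, mul_assoc (cd F d j1)⁻¹ g t, mul_inv_rev, inv_inv, ← hgt]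
    have hcomm : cd F d j1 * cd F d 2 = cd F d 2 * cd F d j1 := by
      rw [cd_mul F hd ht hj1 (by norm_num), cd_mul F hd ht (by norm_num) hj1, Nat.xor_comm]
    calc (cd F d j1)⁻¹ * (g * t) * (g⁻¹ * cd F d j1) = (cd F d j1)⁻¹ * (g * t * g⁻¹ * cd F d j1) := by group
      _ = g * t * g⁻¹ := by rw [hgt, ← hcomm, inv_mul_cancel_left]
  have hlv := K.linV_ok
  simp only [Bool.and_eq_true, beq_iff_eq, decide_eq_true_eq, List.all_eq_true, List.mem_range] at hlv
  obtain ⟨⟨hl1, htr⟩, hlinv⟩ := hlv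
  have hfadd : ∀ i < 16, f i = ext4 f i := fun i hi => hlinear k hk1 ⟨i, hi⟩ f hf
  have hlVlt : ∀ i < 16, linV d i < 16 := fun i hi => by
    have := (decodeP 16 4 d.lin ⟨i, hi⟩).2
    rwa [decodeP_apply K.tabs.2] at this
  -- the quotient by the model map fixes the first element
  let g0 : ℕ → ℕ := fun i => linV d (f i)
  have hg01 : g0 1 = 1 := by
    have h := (hlinv 1 (by norm_num)).1
    simp only [g0, hf1]
    rwa [hl1] at h
  have hg0lt : ∀ i, g0 i < 16 := fun i => hlVlt _ (hflt i)
  have hlxor : ∀ a < 16, ∀ b < 16, linV d (a ^^^ b) = linV d a ^^^ linV d b := by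
    intro a ha b hb
    rw [(hlinv _ (Nat.xor_lt_two_pow (n := 4) ha hb)).2, (hlinv a ha).2, (hlinv b hb).2]
    simp only [ext4, Nat.testBit_xor]
    have hc : ∀ (p q : Bool) (x : ℕ),
        (bif (p ^^ q) then x else 0) = (bif p then x else 0) ^^^ (bif q then x else 0) := by
      intro p q x; cases p <;> cases q <;> simp
    simp only [hc]
    ac_rfl
  have hfxor : ∀ a < 16, ∀ b < 16, f (a ^^^ b) = f a ^^^ f b := by
    intro a ha b hb
    rw [hfadd _ (Nat.xor_lt_two_pow (n := 4) ha hb), hfadd a ha, hfadd b hb]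
    simp only [ext4, Nat.testBit_xor]
    have hc : ∀ (p q : Bool) (x : ℕ),
        (bif (p ^^ q) then x else 0) = (bif p then x else 0) ^^^ (bif q then x else 0) := by
      intro p q x; cases p <;> cases q <;> simp
    simp only [hc]
    ac_rfl
  have hg0xor : ∀ a < 16, ∀ b < 16, g0 (a ^^^ b) = g0 a ^^^ g0 b := fun a ha b hb => by
    simp only [g0]
    rw [hfxor a ha b hb, hlxor _ (hflt a) _ (hflt b)]
  have hg0inj : ∀ a < 16, ∀ b < 16, g0 a = g0 b → a = b := by
    intro a ha b hb h
    have h1 : f a = f b := by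
      rw [← (hlinv _ (hflt a)).1, ← (hlinv _ (hflt b)).1]
      exact congrArg (linV d) h
    rw [show a = (⟨a, ha⟩ : Fin 16).1 from rfl, show b = (⟨b, hb⟩ : Fin 16).1 from rfl, hf, hf] at h1
    exact congrArg Fin.val ((α ⟨k, hsplit.le hk1⟩).injective (Fin.ext h1))
  have hindep : indep (imgCode g0) = true := by
    have h2 := hg0lt 2; have h4 := hg0lt 4; have h8 := hg0lt 8
    have ea : imgCode g0 % 16 / 2 = g0 2 / 2 := by simp only [imgCode]; omega
    have eb : imgCode g0 / 16 % 16 / 2 = g0 4 / 2 := by simp only [imgCode]; omega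
    have ec : imgCode g0 / 256 / 2 = g0 8 / 2 := by simp only [imgCode]; omega
    have hne : ∀ x, x < 16 → x ≠ 0 → x ≠ 1 → g0 x / 2 ≠ 0 := by
      intro x hx hx0 hx1 h
      have hlt := hg0lt x
      have : g0 x = 0 ∨ g0 x = 1 := by omega
      rcases this with h' | h'
      · refine hx0 (hg0inj x hx 0 (by norm_num) (h'.trans ?_))
        have := hg0xor 0 (by norm_num) 0 (by norm_num)
        simpa using this.symm
      · exact hx1 (hg0inj x hx 1 (by norm_num) (h'.trans hg01.symm))
    have hdiv : ∀ a b : ℕ, (a ^^^ b) / 2 = a / 2 ^^^ b / 2 := fun a b => by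
      refine Nat.eq_of_testBit_eq fun i => ?_
      simp [Nat.testBit_div_two, Nat.testBit_xor]
    have n2 := hne 2 (by norm_num) (by norm_num) (by norm_num)
    have n4 := hne 4 (by norm_num) (by norm_num) (by norm_num)
    have n8 := hne 8 (by norm_num) (by norm_num) (by norm_num)
    have n6 : g0 2 / 2 ^^^ g0 4 / 2 ≠ 0 := by
      rw [← hdiv, ← hg0xor 2 (by norm_num) 4 (by norm_num)]
      exact hne _ (by decide) (by decide) (by decide)
    have n10 : g0 2 / 2 ^^^ g0 8 / 2 ≠ 0 := by
      rw [← hdiv, ← hg0xor 2 (by norm_num) 8 (by norm_num)]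
      exact hne _ (by decide) (by decide) (by decide)
    have n12 : g0 4 / 2 ^^^ g0 8 / 2 ≠ 0 := by
      rw [← hdiv, ← hg0xor 4 (by norm_num) 8 (by norm_num)]
      exact hne _ (by decide) (by decide) (by decide)
    have n14 : g0 2 / 2 ^^^ g0 4 / 2 ^^^ g0 8 / 2 ≠ 0 := by
      rw [← hdiv, ← hdiv, ← hg0xor 2 (by norm_num) 4 (by norm_num), ← hg0xor _ (by decide) 8 (by norm_num)]
      exact hne _ (by decide) (by decide) (by decide)
    rw [indep, ea, eb, ec]
    simp only [Bool.and_eq_true, bne_iff_ne]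
    refine ⟨⟨⟨⟨⟨⟨n2, n4⟩, fun h => n6 ?_⟩, n8⟩, fun h => n10 ?_⟩, fun h => n12 ?_⟩, fun h => n14 ?_⟩ <;>
      simp [h]
  have hcode : imgCode g0 < 4096 := by
    have := hg0lt 2; have := hg0lt 4; have := hg0lt 8
    simp only [imgCode]; omega
  have hfound : imgCode g0 ∈ foundCodes d := by
    rw [← testBit_maskOf, K.found, testBit_maskOf, List.mem_filter]
    exact ⟨List.mem_range.2 hcode, hindep⟩
  simp only [foundCodes, List.mem_flatMap, List.mem_map, List.mem_range] at hfound
  obtain ⟨l, hl, r, hr, hcode'⟩ := hfound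
  have hrk : ∀ r < 8, ∀ j < 16, rk r j < 16 ∧ rk r (rk r j) = j ∧ rk r 1 = 1 := by decide +kernel
  have hbasis : g0 2 = rk r (linW d l 2) ∧ g0 4 = rk r (linW d l 4) ∧ g0 8 = rk r (linW d l 8) := by
    have h2 := hg0lt 2; have h4 := hg0lt 4; have h8 := hg0lt 8
    have k2 := (hrk r hr _ (linW_lt K.tabs.1 l (hlw l hl) (show 2 < 16 by norm_num))).1
    have k4 := (hrk r hr _ (linW_lt K.tabs.1 l (hlw l hl) (show 4 < 16 by norm_num))).1
    have k8 := (hrk r hr _ (linW_lt K.tabs.1 l (hlw l hl) (show 8 < 16 by norm_num))).1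
    simp only [imgCode] at hcode'
    omega
  have hl11 : linW d l 1 = 1 := by
    have h := conj_cd F hd K l (hlw l hl) (show 1 < 16 by norm_num)
    refine cd_injOn F hd ht (linW_lt K.tabs.1 l (hlw l hl) (by norm_num)) (by norm_num) ?_
    have hc : el F (pqWord d l) * cd F d 1 = cd F d 1 * el F (pqWord d l) := by
      rw [hone]; exact mem_centralizer_singleton_iff.1 (el_mem F _)
    exact mul_right_cancel (h.symm.trans hc)
  have hfull : ∀ i < 16, f i = linV d (rk r (linW d l i)) := by
    have hb1 : f 1 = linV d (rk r (linW d l 1)) := by rw [hf1, hl11, (hrk r hr 1 (by norm_num)).2.2, hl1]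
    have key : ∀ x : ℕ, g0 x = rk r (linW d l x) → f x = linV d (rk r (linW d l x)) := fun x h => by
      rw [← h]; exact ((hlinv _ (hflt x)).1).symm
    intro i hi
    have hext := List.all_eq_true.1 (List.all_eq_true.1 (List.all_eq_true.1 K.ext l hl) r
      (List.mem_range.2 hr)) i (List.mem_range.2 hi)
    rw [hfadd i hi, beq_iff_eq.1 hext]
    refine ext4_congr hb1 ?_ i
    simp [basisSame, key 2 hbasis.1, key 4 hbasis.2.1, key 8 hbasis.2.2]
  -- correct `k` by the element of the complement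
  set k' := k * (el F (pqWord d l))⁻¹ with hk'
  have hk'C : k' ∈ C := mul_mem hk1 (inv_mem (hAC (hpA l (hlw l hl))))
  have hk'v : ∀ i : Fin 16, ((α ⟨k', hsplit.le hk'C⟩ i : Fin 16) : ℕ) = linV d (rk r i) := by
    intro i
    have hlN : el F (pqWord d l) ∈ N := hsplit.le (hAC (hpA l (hlw l hl)))
    obtain ⟨i', rfl⟩ := (α ⟨_, hlN⟩).surjective i
    have e : (⟨k', hsplit.le hk'C⟩ : N) * ⟨_, hlN⟩ = ⟨k, hsplit.le hk1⟩ :=
      Subtype.ext (by simp [hk'])
    rw [← Equiv.Perm.mul_apply, ← map_mul, e, ← hf, hfull _ i'.2, hαw l (hlw l hl) hlN]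
  have hr0 : r = 0 := by
    by_contra hr0
    have hw := List.all_eq_true.1 K.wit r (List.mem_range.2 hr)
    simp only [Bool.or_eq_true, beq_iff_eq, hr0, false_or, Bool.and_eq_true, List.all_eq_true,
      decide_eq_true_eq, Bool.not_eq_true'] at hw
    obtain ⟨⟨hw1, hw3⟩, hwl⟩ := hw
    set wl := d.wit.getD r [] with hwl'
    have hval : ∀ wl : List ℕ, (∀ a ∈ wl, a < 3) → ∃ z : N, (z : G) ∈ C ∧
        ∀ i : Fin 16, ((α z i : Fin 16) : ℕ) = candW d r wl i := by
      intro wl hwl
      induction wl with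
      | nil => exact ⟨1, one_mem _, fun i => by simp [candW]⟩
      | cons a wl ih =>
        obtain ⟨z, hzC, hzv⟩ := ih fun b hb => hwl b (List.mem_cons_of_mem _ hb)
        have ha := hwl a List.mem_cons_self
        have hstep : ∃ y : N, (y : G) ∈ C ∧ ∀ i : Fin 16, ((α y i : Fin 16) : ℕ) =
            if a = 0 then linV d (rk r i) else linW d [a - 1] i := by
          interval_cases a
          · exact ⟨⟨k', hsplit.le hk'C⟩, hk'C, fun i => by simpa using hk'v i⟩
          · exact ⟨⟨_, hsplit.le (hAC (hpA [0] (by simp)))⟩, hAC (hpA [0] (by simp)),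
              fun i => by simpa using hαw [0] (by simp) _ i⟩
          · exact ⟨⟨_, hsplit.le (hAC (hpA [1] (by simp)))⟩, hAC (hpA [1] (by simp)),
              fun i => by simpa using hαw [1] (by simp) _ i⟩
        obtain ⟨y, hyC, hyv⟩ := hstep
        refine ⟨y * z, mul_mem hyC hzC, fun i => ?_⟩
        rw [map_mul, Equiv.Perm.mul_apply, hyv, hzv]
        rfl
    obtain ⟨z, hzC, hzv⟩ := hval wl hw3
    have hzt : (z : G) ∈ centralizer ({t} : Set G) := by
      rw [mem_centralizer_singleton_iff]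
      have h1 := hαc z hzC z.2 1
      rw [Subtype.coe_eta, hzv 1] at h1
      change cd F d (candW d r wl 1) = (z : G) * cd F d 1 * (z : G)⁻¹ at h1
      rw [hw1, hone] at h1
      exact (eq_mul_inv_iff_mul_eq.1 h1).symm
    obtain ⟨j, hj, l', hl', hze⟩ := hform z hzt ((hN _).1 z.2)
    have hsame : ∀ i : Fin 16, candW d r wl i = linW d l' i := by
      intro i
      rw [← hzv i]
      refine cd_injOn F hd ht (Fin.is_lt _) (linW_lt K.tabs.1 l' (hlw l' hl') i.2) ?_
      have h2 := hαc z hzC z.2 i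
      rw [Subtype.coe_eta] at h2
      rw [h2, hze, mul_inv_rev, mul_assoc (cd F d j), conj_cd F hd K l' (hlw l' hl') i.2]
      have hlt := linW_lt K.tabs.1 l' (hlw l' hl') i.2
      have hc : cd F d j * cd F d (linW d l' i) = cd F d (linW d l' i) * cd F d j := by
        rw [cd_mul F hd ht hj hlt, cd_mul F hd ht hlt hj, Nat.xor_comm]
      calc cd F d j * (cd F d (linW d l' i) * el F (pqWord d l')) *
            ((el F (pqWord d l'))⁻¹ * (cd F d j)⁻¹)
          = cd F d j * cd F d (linW d l' i) * (cd F d j)⁻¹ := by group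
        _ = _ := by rw [hc, mul_inv_cancel_right]
    have h5 := hwl l' hl'
    rw [show basisSame (candW d r wl) (linW d l') = true by
      simp [basisSame, show candW d r wl 2 = linW d l' 2 from hsame 2,
        show candW d r wl 4 = linW d l' 4 from hsame 4, show candW d r wl 8 = linW d l' 8 from hsame 8]] at h5
    exact Bool.noConfusion h5
  subst hr0
  set w := cd F d d.tr * k' with hw
  have hwN : w ∈ N := mul_mem (hUN (hUmem _ htr)) (hsplit.le hk'C)
  refine ⟨w, fun l hl haff => ?_⟩
  have hrk0 : ∀ i, rk 0 i = i := fun i => by simp [rk]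
  have hletters := List.all_eq_true.1 K.letters
  have hvalA : ∀ l : List ℕ, (∀ a ∈ l, a ∈ ([0, 1, 2, gl, 5] : List ℕ)) → ∀ hm : (l.map (val F w)).prod ∈ N,
      ∀ i : Fin 16, ((α ⟨_, hm⟩ i : Fin 16) : ℕ) = affW d l i := by
    intro l hl
    induction l with
    | nil =>
      intro hm i
      rw [show (⟨_, hm⟩ : N) = 1 from Subtype.ext rfl, map_one]
      rfl
    | cons a l ih =>
      intro hm i
      have hlet : ∃ hv : val F w a ∈ N, ∀ i : Fin 16, ((α ⟨_, hv⟩ i : Fin 16) : ℕ) = letA d a i := by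
        have ha := hl a List.mem_cons_self
        by_cases h5 : a = 5
        · subst h5
          refine ⟨hwN, fun i => ?_⟩
          have e : (⟨val F w 5, hwN⟩ : N) = ⟨cd F d d.tr, hUN (hUmem _ htr)⟩ * ⟨k', hsplit.le hk'C⟩ :=
            Subtype.ext rfl
          rw [e, map_mul, Equiv.Perm.mul_apply, hαt d.tr htr, hk'v, hrk0]
          rfl
        · have ha' : a ∈ ([0, 1, 2, gl] : List ℕ) := by
            simp only [List.mem_cons, List.not_mem_nil, or_false] at ha ⊢
            omega
          have h := hletters a ha'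
          simp only [Bool.and_eq_true, decide_eq_true_eq, List.all_eq_true] at h
          set e := d.dec.getD (if a < 3 then a else 3) (0, []) with he
          obtain ⟨⟨he1, he2⟩, heq⟩ := h
          have ha5 : a < 5 := by
            simp only [List.mem_cons, List.not_mem_nil, or_false] at ha'
            omega
          have hlw6 : ∀ g ∈ letterWords.getD a [], g < 6 := by
            interval_cases a <;> decide
          have hv : val F w a = cd F d e.1 * el F (pqWord d e.2) := by
            rw [val, if_pos ha5, cd, ← el_append]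
            exact el_eq F hlw6 (fun g hg => (List.mem_append.1 hg).elim (cdWord_lt hd _ g)
              (pqWord_lt hd _ g)) heq
          have hm1 : el F (pqWord d e.2) ∈ N := hAN (hpA _ he2)
          refine ⟨by rw [hv]; exact mul_mem (hUN (hUmem _ he1)) hm1, fun i => ?_⟩
          have e' : (⟨val F w a, by rw [hv]; exact mul_mem (hUN (hUmem _ he1)) hm1⟩ : N) =
              ⟨cd F d e.1, hUN (hUmem _ he1)⟩ * ⟨_, hm1⟩ := Subtype.ext hv
          rw [e', map_mul, Equiv.Perm.mul_apply, hαt e.1 he1, hαw e.2 he2]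
          rw [letA, if_neg h5]
      obtain ⟨hv, hvv⟩ := hlet
      have hm' : (l.map (val F w)).prod ∈ N := by
        rw [List.map_cons, List.prod_cons] at hm
        exact (Subgroup.mul_mem_cancel_left _ hv).1 hm
      have e : (⟨_, hm⟩ : N) = ⟨_, hv⟩ * ⟨_, hm'⟩ := Subtype.ext (by simp)
      rw [e, map_mul, Equiv.Perm.mul_apply, hvv, ih (fun b hb => hl b (List.mem_cons_of_mem _ hb))]
      rfl
  have hall : ∀ l : List ℕ, (∀ a ∈ l, a ∈ ([0, 1, 2, gl, 5] : List ℕ)) → (l.map (val F w)).prod ∈ N := by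
    intro l hl
    refine list_prod_mem fun x hx => ?_
    obtain ⟨a, ha, rfl⟩ := List.mem_map.1 hx
    have ha' := hl a ha
    by_cases h5 : a = 5
    · subst h5; exact hwN
    · have ha4 : a ∈ ([0, 1, 2, gl] : List ℕ) := by
        simp only [List.mem_cons, List.not_mem_nil, or_false] at ha' ⊢
        omega
      have ha5 : a < 5 := by
        simp only [List.mem_cons, List.not_mem_nil, or_false] at ha4
        omega
      have h := hletters a ha4
      simp only [Bool.and_eq_true, decide_eq_true_eq, List.all_eq_true] at h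
      obtain ⟨⟨he1, he2⟩, heq⟩ := h
      have hlw6 : ∀ g ∈ letterWords.getD a [], g < 6 := by interval_cases a <;> decide
      rw [val, if_pos ha5, el_eq F hlw6 (fun g hg => (List.mem_append.1 hg).elim (cdWord_lt hd _ g)
        (pqWord_lt hd _ g)) heq, el_append]
      exact mul_mem (hUN (hUmem _ he1)) (hAN (hpA _ he2))
  have hN' := hall l hl
  have hid : α ⟨_, hN'⟩ = 1 := Equiv.ext fun i => Fin.ext <| by
    rw [hvalA l hl hN' i]
    exact beq_iff_eq.1 (List.all_eq_true.1 haff i (List.mem_range.2 i.2))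
  have h1 := hαi (hid.trans (map_one α).symm)
  exact congrArg Subtype.val h1

end Cfsg.Agent.Lib.McLAmalgam
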