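import Cfsg.Agent.Lib.McLAmalgam.MainChecks
import Cfsg.Agent.Lib.McLAmalgam.Local
import Cfsg.Agent.Lib.McLAmalgam.Fusion

/-!
The two local models glue to a six-tuple satisfying the relators of the amalgam.
-/

set_option autoImplicit false
set_option maxRecDepth 20000
set_option linter.style.haveILetI false

namespace Cfsg.Agent.Lib.McLAmalgam

open Cfsg Subgroup Cfsg.Agent.Lib.Computation

variable {G : Type*} [Group G] {t : G} (F : Frame ↥(Subgroup.centralizer ({t} : Set G)))

/-- The tabulated coordinates of a setting. -/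
structure Coords (E : Setting t) : Prop where
  hV : E.V = subV F
  hW : E.W = subW F
  hs : E.s = cd F sideV 2
  formV : ∀ h ∈ centralizer ({t} : Set G), conjSub h (subV F) = subV F →
    ∃ j < 16, ∃ l ∈ sideV.lwords, h = cd F sideV j * el F (pqWord sideV l)
  formW : ∀ h ∈ centralizer ({t} : Set G), conjSub h (subW F) = subW F →
    ∃ j < 16, ∃ l ∈ sideW.lwords, h = cd F sideW j * el F (pqWord sideW l)

theorem el_tau_eq (ht : orderOf t = 2)
    (hc : Nat.card (Subgroup.center ↥(centralizer ({t} : Set G))) = 2) : el F [0, 1, 0, 1] = t := by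
  have hcen : ((([0, 1, 0, 1] : List ℕ).map F.x).prod) ∈ Subgroup.center ↥(centralizer ({t} : Set G)) := by
    rw [Subgroup.mem_center_iff]
    intro g
    have hg : g ∈ Subgroup.closure {g | ∃ i < 6, g = F.x i} := by rw [F.gen]; exact Subgroup.mem_top g
    induction hg using Subgroup.closure_induction with
    | mem v hv =>
      obtain ⟨i, hi, rfl⟩ := hv
      refine Subtype.ext ?_
      have h := el_eq F (l := [0, 1, 0, 1, i]) (l' := [i, 0, 1, 0, 1]) (by simpa using hi) (by simpa using hi)
        (gen_tau_comm i hi)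
      rw [show [0, 1, 0, 1, i] = [0, 1, 0, 1] ++ [i] from rfl, show [i, 0, 1, 0, 1] = [i] ++ [0, 1, 0, 1] from rfl,
        el_append, el_append] at h
      simpa [el] using h.symm
    | one => simp
    | mul a b _ _ ha hb => rw [mul_assoc, hb, ← mul_assoc, ha, mul_assoc]
    | inv a _ ha => exact inv_mul_eq_iff_eq_mul.2 (by rw [← mul_assoc, ha, mul_inv_cancel_right])
  have htm : t ∈ centralizer ({t} : Set G) := mem_centralizer_singleton_iff.2 rfl
  have htc : (⟨t, htm⟩ : ↥(centralizer ({t} : Set G))) ∈ Subgroup.center ↥(centralizer ({t} : Set G)) := by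
    rw [Subgroup.mem_center_iff]
    exact fun g => Subtype.ext (mem_centralizer_singleton_iff.1 g.2)
  obtain ⟨z, hz⟩ : ∃ z, z = (([0, 1, 0, 1] : List ℕ).map F.x).prod := ⟨_, rfl⟩
  rw [← hz] at hcen
  have hz1 : z ≠ 1 := fun h => el_ne F (l := [0, 1, 0, 1]) (l' := []) (by simp) (by simp) gen_tau_ne
    (congrArg Subtype.val (hz.symm.trans h))
  have ht1 : (⟨t, htm⟩ : ↥(centralizer ({t} : Set G))) ≠ 1 := fun h => by
    rw [show t = 1 from congrArg Subtype.val h, orderOf_one] at ht
    omega
  obtain ⟨y, hy⟩ := (Nat.card_eq_two_iff' (1 : ↥(Subgroup.center ↥(centralizer ({t} : Set G))))).1 hc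
  have e1 := hy.2 ⟨z, hcen⟩ fun h => hz1 (congrArg Subtype.val h)
  have e2 := hy.2 ⟨_, htc⟩ fun h => ht1 (congrArg Subtype.val h)
  rw [el, ← hz]
  exact congrArg (fun u => ((u : ↥(centralizer ({t} : Set G))) : G))
    (congrArg Subtype.val (e1.trans e2.symm))

theorem expand_lt {l : List ℕ} (hl : ∀ g ∈ l, g < 5) : ∀ a ∈ expand l, a < 6 := by
  intro a ha
  obtain ⟨g, hg, hag⟩ := List.mem_flatMap.1 ha
  exact letterWords_lt g (hl g hg) a hag

theorem val_prod (w : G) {l : List ℕ} (hl : ∀ g ∈ l, g < 5) :
    (l.map (val F w)).prod = el F (expand l) := by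
  induction l with
  | nil => rfl
  | cons a l ih =>
    rw [List.map_cons, List.prod_cons, ih fun g hg => hl g (List.mem_cons_of_mem _ hg), val,
      if_pos (hl a List.mem_cons_self), ← el_append]
    rfl

theorem el_rev_mul {v : List ℕ} (hv : ∀ g ∈ v, g < 5) :
    el F (expand v.reverse) * el F (expand v) = 1 := by
  induction v with
  | nil => simp [expand, el_nil]
  | cons a v ih =>
    have h5 := hv a List.mem_cons_self
    have h2 : el F (expand [a]) * el F (expand [a]) = 1 := by
      rw [← el_append]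
      refine el_eq F (l' := []) (fun g hg => (List.mem_append.1 hg).elim
        (expand_lt (by simpa using h5) g) (expand_lt (by simpa using h5) g)) (by simp) ?_
      have h := letters_sq a h5
      simpa [expand] using h
    have e : expand (a :: v).reverse = expand v.reverse ++ expand [a] := by
      simp [expand, List.flatMap_append]
    rw [e, show expand (a :: v) = expand [a] ++ expand v by simp [expand], el_append, el_append,
      mul_assoc, ← mul_assoc (el F (expand [a])), h2, one_mul]
    exact ih fun g hg => hv g (List.mem_cons_of_mem _ hg)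

/-- An involution that conjugates the value of `v` to the value of `v'`. -/
theorem conj_of_word (w : G) (hw : w * w = 1) {v v' : List ℕ} (hv : ∀ g ∈ v, g < 5)
    (hv' : ∀ g ∈ v', g < 5) (h : (([5] ++ v ++ [5] ++ v'.reverse).map (val F w)).prod = 1) :
    w * el F (expand v) * w⁻¹ = el F (expand v') := by
  simp only [List.map_append, List.prod_append, val_prod F w hv,
    val_prod F w (l := v'.reverse) (fun g hg => hv' g (List.mem_reverse.1 hg))] at h
  rw [show ([5].map (val F w)).prod = w by simp [val]] at h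
  have h2 : el F (expand v'.reverse) = (el F (expand v'))⁻¹ :=
    eq_inv_of_mul_eq_one_left (el_rev_mul F hv')
  rw [h2, mul_inv_eq_one] at h
  rw [inv_eq_of_mul_eq_one_right hw, h]

theorem commute_span {d : SideData} (hd : sideLetters d = true) (off : ℕ) (hs : spanOK d off = true)
    (hoff : off + 4 ≤ common.length) {z : G}
    (hz : ∀ e ∈ common, z * el F (expand e.1) = el F (expand e.1) * z) (j : ℕ) :
    z * cd F d j = cd F d j * z := by
  have hbasic : ∀ i < 4, Commute z (el F (d.uw.getD i [])) := by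
    intro i hi
    have h := List.all_eq_true.1 hs i (List.mem_range.2 hi)
    obtain ⟨m, -, hm⟩ := List.any_eq_true.1 h
    have key : ∀ ks : List ℕ, (∀ k ∈ ks, k < 4) →
        (∀ a ∈ ks.flatMap (fun k => expand (common.getD (off + k) ([], [], [], [])).1), a < 6) ∧
        Commute z (el F (ks.flatMap fun k => expand (common.getD (off + k) ([], [], [], [])).1)) := by
      intro ks
      induction ks with
      | nil => intro _; exact ⟨by simp, by simp [el_nil]⟩
      | cons a ks ih =>
        intro hks
        obtain ⟨h1, h2⟩ := ih fun k hk => hks k (List.mem_cons_of_mem _ hk)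
        have ha : off + a < common.length := by have := hks a List.mem_cons_self; omega
        have hmem : common.getD (off + a) ([], [], [], []) ∈ common := by
          rw [List.getD_eq_getElem _ _ ha]; exact List.getElem_mem ha
        have hc := List.all_eq_true.1 common_ok _ hmem
        simp only [commonEntry, Bool.and_eq_true, List.all_eq_true, decide_eq_true_eq] at hc
        have hlt : ∀ g ∈ (common.getD (off + a) ([], [], [], [])).1, g < 5 := fun g hg => by
          have := hc.1.1.1.1.1 _ List.mem_cons_self g hg; omega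
        refine ⟨?_, ?_⟩
        · intro g hg
          rw [List.flatMap_cons, List.mem_append] at hg
          exact hg.elim (expand_lt hlt g) (h1 g)
        · rw [List.flatMap_cons, el_append]
          exact Commute.mul_right (hz _ hmem) h2
    obtain ⟨h1, h2⟩ := key ((List.range 4).filter fun k => m.testBit k)
      fun k hk => List.mem_range.1 (List.mem_filter.1 hk).1
    rw [← el_eq F h1 (uw_lt hd i) hm]
    exact h2
  show Commute z (el F (cdWord d j))
  rw [cdWord]
  have key : ∀ ks : List ℕ, (∀ k ∈ ks, k < 4) → Commute z (el F (ks.flatMap fun k => d.uw.getD k [])) := by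
    intro ks
    induction ks with
    | nil => intro _; simp [el_nil]
    | cons a ks ih =>
      intro hks
      rw [List.flatMap_cons, el_append]
      exact Commute.mul_right (hbasic a (hks a List.mem_cons_self))
        (ih fun k hk => hks k (List.mem_cons_of_mem _ hk))
  exact key _ fun k hk => List.mem_range.1 (List.mem_filter.1 hk).1

variable [Finite G]

theorem not_256_dvd (E : Setting t) (ht : orderOf t = 2) : ¬ 256 ∣ Nat.card G := by
  intro h
  rw [← E.S.card_mul_index, E.S_card, show 256 = 128 * 2 by norm_num] at h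
  exact Nat.not_even_iff_odd.2 (E.odd_index ht)
    (even_iff_two_dvd.2 (Nat.dvd_of_mul_dvd_mul_left (by norm_num) h))

/-- The six-tuple. -/
theorem exists_tuple (ht : orderOf t = 2)
    (hc : Nat.card (Subgroup.center ↥(centralizer ({t} : Set G))) = 2)
    (E : Setting t) (C : Coords F E)
    (hgV : ∃ g, g * t * g⁻¹ = E.s ∧ conjSub g E.V = E.V)
    (hgW : ∃ g, g * t * g⁻¹ = E.s ∧ conjSub g E.W = E.W) :
    ∃ w : G, w * t * w⁻¹ = E.s ∧ w * w = 1 ∧ ∀ l ∈ Cert.rels, (l.map (val F w)).prod = 1 := by
  obtain ⟨gV, hgV, hgV'⟩ := hgV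
  obtain ⟨gW, hgW, hgW'⟩ := hgW
  obtain ⟨c2, cV1, cW1⟩ := cdWord_two
  have htau := el_tau_eq F ht hc
  have hoV : cd F sideV 1 = t := by rw [cd, cV1, htau]
  have hoW : cd F sideW 1 = t := by rw [cd, cW1, htau]
  have hsW : E.s = cd F sideW 2 := by rw [C.hs, cd, cd, c2]
  have h256 := not_256_dvd E ht
  rw [C.hV] at hgV'
  rw [C.hW] at hgW'
  rw [C.hs] at hgV
  rw [hsW] at hgW
  obtain ⟨w1, h1⟩ := exists_new_letter F sideLetters_ok.1 sideTable_ok.1 localOK_V (by norm_num) hoV h256
    C.formV gV hgV hgV'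
  obtain ⟨w2, h2⟩ := exists_new_letter F sideLetters_ok.2 sideTable_ok.2 localOK_W (by norm_num) hoW h256
    C.formW gW hgW hgW'
  have hw1 : w1 * w1 = 1 := by simpa [val] using h1 [5, 5] (by simp) (by decide +kernel)
  have hw2 : w2 * w2 = 1 := by simpa [val] using h2 [5, 5] (by simp) (by decide +kernel)
  have hcm : ∀ e ∈ common, (∀ g ∈ e.1, g < 5) ∧ w1 * el F (expand e.1) * w1⁻¹ = el F (expand e.2.1) ∧
      w2 * el F (expand e.1) * w2⁻¹ = el F (expand e.2.1) := by
    intro e he
    have hc := List.all_eq_true.1 common_ok e he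
    simp only [commonEntry, Bool.and_eq_true, List.all_eq_true, decide_eq_true_eq,
      List.contains_eq_mem] at hc
    obtain ⟨⟨⟨⟨⟨hM, hP⟩, e1⟩, e2⟩, aM⟩, aP⟩ := hc
    have m1 : ∀ g ∈ e.1, g < 4 := hM _ List.mem_cons_self
    have m2 : ∀ g ∈ e.2.1, g < 4 := hM _ (List.mem_cons_of_mem _ List.mem_cons_self)
    have p1 : ∀ g ∈ e.2.2.1, g ∈ ([0, 1, 2, 4] : List ℕ) := hP _ List.mem_cons_self
    have p2 : ∀ g ∈ e.2.2.2, g ∈ ([0, 1, 2, 4] : List ℕ) :=
      hP _ (List.mem_cons_of_mem _ List.mem_cons_self)
    have to5 : ∀ g ∈ ([0, 1, 2, 4] : List ℕ), g < 5 := by decide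
    have hm1 : ∀ g ∈ e.1, g < 5 := fun g hg => by have := m1 g hg; omega
    have hm2 : ∀ g ∈ e.2.1, g < 5 := fun g hg => by have := m2 g hg; omega
    refine ⟨hm1, conj_of_word F w1 hw1 hm1 hm2 (h1 _ ?_ aM), ?_⟩
    · intro a ha
      have h4 : ∀ a < 4, a ∈ ([0, 1, 2, 3, 5] : List ℕ) := by decide
      simp only [List.mem_append, List.mem_singleton, List.mem_reverse] at ha
      rcases ha with ((rfl | ha) | rfl) | ha
      exacts [by simp, h4 a (m1 a ha), by simp, h4 a (m2 a ha)]
    · have q1 : el F (expand e.1) = el F (expand e.2.2.1) :=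
        el_eq F (expand_lt hm1) (expand_lt fun g hg => to5 g (p1 g hg)) e1
      have q2 : el F (expand e.2.1) = el F (expand e.2.2.2) :=
        el_eq F (expand_lt hm2) (expand_lt fun g hg => to5 g (p2 g hg)) e2
      rw [q1, q2]
      refine conj_of_word F w2 hw2 (fun g hg => to5 g (p1 g hg)) (fun g hg => to5 g (p2 g hg)) (h2 _ ?_ aP)
      intro a ha
      have h4 : ∀ a ∈ ([0, 1, 2, 4] : List ℕ), a ∈ ([0, 1, 2, 4, 5] : List ℕ) := by decide
      simp only [List.mem_append, List.mem_singleton, List.mem_reverse] at ha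
      rcases ha with ((rfl | ha) | rfl) | ha
      exacts [by simp, h4 a (p1 a ha), by simp, h4 a (p2 a ha)]
  -- both conjugations carry `t` to `s`
  have hts : w1 * t * w1⁻¹ = E.s ∧ w2 * t * w2⁻¹ = E.s := by
    have hmem : common.getD 0 ([], [], [], []) ∈ common := by decide
    obtain ⟨hlt, a1, a2⟩ := hcm _ hmem
    have hlt' : ∀ g ∈ (common.getD 0 ([], [], [], [])).2.1, g < 5 := by decide
    rw [el_eq F (expand_lt hlt) (cdWord_lt sideLetters_ok.1 1) common_first.1,
      el_eq F (expand_lt hlt') (cdWord_lt sideLetters_ok.1 2) common_first.2] at a1 a2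
    rw [show el F (cdWord sideV 1) = t from hoV] at a1 a2
    exact ⟨a1.trans C.hs.symm, a2.trans C.hs.symm⟩
  have hi1 : w1⁻¹ = w1 := inv_eq_of_mul_eq_one_right hw1
  have hi2 : w2⁻¹ = w2 := inv_eq_of_mul_eq_one_right hw2
  have hz : ∀ e ∈ common, w1⁻¹ * w2 * el F (expand e.1) = el F (expand e.1) * (w1⁻¹ * w2) := by
    intro e he
    obtain ⟨-, a1, a2⟩ := hcm e he
    rw [← mul_inv_eq_iff_eq_mul, mul_inv_rev, inv_inv]
    calc w1⁻¹ * w2 * el F (expand e.1) * (w2⁻¹ * w1) = w1⁻¹ * (w2 * el F (expand e.1) * w2⁻¹) * w1 := by group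
      _ = el F (expand e.1) := by rw [a2, ← a1]; group
  set dd := w1⁻¹ * w2 with hdd
  have hdV : ∀ j, dd * cd F sideV j = cd F sideV j * dd :=
    commute_span F sideLetters_ok.1 0 span_ok.1 (by decide) hz
  have hdW : ∀ j, dd * cd F sideW j = cd F sideW j * dd :=
    commute_span F sideLetters_ok.2 4 span_ok.2 (by decide) hz
  have hdC : dd ∈ centralizer ({t} : Set G) := by
    rw [mem_centralizer_singleton_iff, ← hoV]
    exact hdV 1
  have hdmem : dd ∈ E.V ⊓ E.W := by
    refine Subgroup.mem_inf.2 ⟨E.self_cent_V dd hdC fun v hv => ?_, E.self_cent_W dd hdC fun v hv => ?_⟩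
    · rw [C.hV] at hv
      obtain ⟨j, -, rfl⟩ := hv
      exact hdV j
    · rw [C.hW] at hv
      obtain ⟨j, -, rfl⟩ := hv
      exact hdW j
  have hsq : dd * dd = 1 := E.hV.sq dd (Subgroup.mem_inf.1 hdmem).1
  have hfix : w1 * dd * w1⁻¹ = dd := by
    have hdi : dd⁻¹ = dd := inv_eq_of_mul_eq_one_right hsq
    conv_rhs => rw [← hdi]
    rw [hdd, mul_inv_rev, inv_inv, hi2, mul_inv_cancel_left, hi1]
  have htne : E.s ≠ t := E.s_ne
  have hws : w1 * E.s * w1⁻¹ = t := by
    rw [← hts.1, hi1]
    calc w1 * (w1 * t * w1) * w1 = (w1 * w1) * t * (w1 * w1) := by group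
      _ = t := by rw [hw1, one_mul, mul_one]
  have key : w2 = w1 ∨ w2 = t * w1 * t⁻¹ := by
    rcases E.inter dd hdmem with h | h | h | h
    · left
      rw [hdd] at h
      exact (inv_mul_eq_one.1 h).symm
    · exfalso
      rw [h] at hfix
      exact htne (hts.1.symm.trans hfix)
    · exfalso
      rw [h] at hfix
      exact htne (hfix.symm.trans hws)
    · right
      have hti : t⁻¹ = t := inv_eq_of_mul_eq_one_right (by rw [← pow_two, ← ht, pow_orderOf_eq_one])
      have : w2 = w1 * (t * E.s) := by rw [← h, hdd, mul_inv_cancel_left]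
      rw [this, ← hts.1]
      have hst : t * E.s = E.s * t := by
        have := mem_centralizer_singleton_iff.1 (E.S_le E.S_mem.2)
        exact this.symm
      rw [hts.1, hst, ← hts.1, hi1, hti]
      calc w1 * (w1 * t * w1 * t) = (w1 * w1) * (t * w1 * t) := by group
        _ = t * w1 * t := by rw [hw1, one_mul]
  refine ⟨w2, hts.2, hw2, fun l hl => ?_⟩
  have hr := List.all_eq_true.1 rels_ok l hl
  simp only [Bool.or_eq_true, Bool.and_eq_true, List.all_eq_true, decide_eq_true_eq, inAlph,
    List.contains_eq_mem] at hr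
  rcases hr with (⟨h5, he⟩ | ⟨hM, ha⟩) | ⟨hP, ha⟩
  · rw [val_prod F w2 h5]
    exact el_eq F (l' := []) (expand_lt h5) (by simp) he
  · rcases key with h | h
    · rw [h]; exact h1 l hM ha
    · have hv : ∀ a ∈ l, val F w2 a = MulAut.conj t (val F w1 a) := by
        intro a ha'
        have : a < 5 ∨ a = 5 := by
          have := hM a ha'
          simp only [List.mem_cons, List.not_mem_nil, or_false] at this
          omega
        rcases this with h5 | rfl
        · simp only [val, if_pos h5, MulAut.conj_apply]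
          rw [← mem_centralizer_singleton_iff.1 (el_mem F _), mul_inv_cancel_right]
        · simp [val, h]
      rw [List.map_congr_left hv, show (fun a => MulAut.conj t (val F w1 a)) =
        (MulAut.conj t) ∘ (val F w1) from rfl, ← List.map_map, ← map_list_prod, h1 l hM ha, map_one]
  · exact h2 l hP ha

end Cfsg.Agent.Lib.McLAmalgam
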