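import Cfsg.Agent.Lib.McLAmalgam.CoordsChecks
import Cfsg.Agent.Lib.McLAmalgam.Tuple

/-!
The tabulated subgroups form a setting: classification of the elementary subgroups of order sixteen through
`t` in the double cover of `A₈`, their normalisers and a Sylow subgroup.
-/

set_option autoImplicit false
set_option maxRecDepth 20000
set_option linter.style.haveILetI false

namespace Cfsg.Agent.Lib.McLAmalgam

open Cfsg Subgroup Cfsg.Agent.Lib.Computation

theorem val_xor8 : ∀ a b : Fin 8, ((a ^^^ b : Fin 8) : ℕ) = (a : ℕ) ^^^ (b : ℕ) := by decide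

theorem half_two_mul : ∀ k : Fin 8, half (2 * (k : ℕ)) = k := by decide

theorem xor8_cancel : ∀ a b : Fin 8, a ^^^ b ^^^ b = a := by decide

theorem xor8_comm : ∀ a b : Fin 8, a ^^^ b = b ^^^ a := by decide

theorem xor8_self : ∀ a : Fin 8, a ^^^ a = 0 := by decide

theorem zero_xor8 : ∀ a : Fin 8, 0 ^^^ a = a := by decide

theorem xor8_eq_zero : ∀ a b : Fin 8, a ^^^ b = 0 → a = b := by decide

theorem code3_inj {f g : Fin 8 → Fin 8} (h : code3 f = code3 g) : f 1 = g 1 ∧ f 2 = g 2 ∧ f 4 = g 4 := by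
  simp only [code3] at h
  have := (f 1).isLt; have := (f 2).isLt; have := (f 4).isLt
  have := (g 1).isLt; have := (g 2).isLt; have := (g 4).isLt
  refine ⟨Fin.ext ?_, Fin.ext ?_, Fin.ext ?_⟩ <;> omega

theorem additive8_ext {f g : Fin 8 → Fin 8} (hf : ∀ a b, f (a ^^^ b) = f a ^^^ f b)
    (hg : ∀ a b, g (a ^^^ b) = g a ^^^ g b) (h : f 1 = g 1 ∧ f 2 = g 2 ∧ f 4 = g 4) (i : Fin 8) :
    f i = g i := by
  obtain ⟨h1, h2, h4⟩ := h
  have hi : i = 1 ^^^ 1 ∨ i = 1 ∨ i = 2 ∨ i = 4 ∨ i = 1 ^^^ 2 ∨ i = 1 ^^^ 4 ∨ i = 2 ^^^ 4 ∨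
      i = 1 ^^^ 2 ^^^ 4 := by
    revert i; decide
  rcases hi with rfl | rfl | rfl | rfl | rfl | rfl | rfl | rfl
  exacts [by rw [hf, hg, h1], h1, h2, h4, by rw [hf, hg, h1, h2], by rw [hf, hg, h1, h4],
    by rw [hf, hg, h2, h4], by rw [hf, hg, hf, hg, h1, h2, h4]]

theorem indep3_code {f : Fin 8 → Fin 8} (hf : ∀ a b, f (a ^^^ b) = f a ^^^ f b)
    (hinj : Function.Injective f) : code3 f < 512 ∧ indep3 (code3 f) = true := by
  have := (f 1).isLt; have := (f 2).isLt; have := (f 4).isLt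
  have e1 : code3 f % 8 = (f 1 : ℕ) := by simp only [code3]; omega
  have e2 : code3 f / 8 % 8 = (f 2 : ℕ) := by simp only [code3]; omega
  have e4 : code3 f / 64 = (f 4 : ℕ) := by simp only [code3]; omega
  refine ⟨by simp only [code3]; omega, ?_⟩
  have f0 : f 0 = 0 := by rw [← xor8_self 1, hf, xor8_self, xor8_self]
  have ne : ∀ a b : Fin 8, a ≠ b → ((f a : Fin 8) : ℕ) ≠ (f b : ℕ) := fun a b hab h =>
    hab (hinj (Fin.ext h))
  rw [indep3, e1, e2, e4]
  simp only [Bool.and_eq_true, bne_iff_ne]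
  refine ⟨⟨⟨⟨⟨⟨?_, ?_⟩, ne 2 1 (by decide)⟩, ?_⟩, ne 4 1 (by decide)⟩, ne 4 2 (by decide)⟩, ?_⟩
  · simpa [f0] using ne 1 0 (by decide)
  · simpa [f0] using ne 2 0 (by decide)
  · simpa [f0] using ne 4 0 (by decide)
  · rw [← val_xor8, ← hf]; exact ne 4 _ (by decide)

variable {d : SideData} {c : Equiv.Perm (Fin 8)}

theorem PermOK.mul_self (P : PermOK d c) : c * c = 1 := Equiv.ext P.invol

theorem PermOK.inv_eq (P : PermOK d c) : c⁻¹ = c := inv_eq_of_mul_eq_one_right P.mul_self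

theorem PermOK.lact_add (P : PermOK d c) {l : List ℕ} (hl : l ∈ d.lwords) (a b : Fin 8) :
    lact d c l (a ^^^ b) = lact d c l a ^^^ lact d c l b :=
  beq_iff_eq.1 (List.all_eq_true.1 (List.all_eq_true.1 (List.all_eq_true.1 P.add l hl) a
    (List.mem_finRange a)) b (List.mem_finRange b))

/-- A permutation normalising the regular group is a translation times a tabulated element. -/
theorem PermOK.norm_form (P : PermOK d c) (ρ : Equiv.Perm (Fin 8))
    (h : ∀ k, ∃ k', ρ * (c * tr k * c) * ρ⁻¹ = c * tr k' * c) :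
    ∃ a, ∃ l ∈ d.lwords, ∀ i, ρ i = c (c (ev8 (pqWord d l) i) ^^^ a) := by
  obtain ⟨σ, hσ⟩ : ∃ σ : Equiv.Perm (Fin 8), ∀ i, σ i = c (ρ (c i)) := ⟨c * ρ * c, fun _ => rfl⟩
  have hshift : ∀ k i, σ (i ^^^ k) = σ i ^^^ (σ k ^^^ σ 0) := by
    intro k i
    obtain ⟨k', hk'⟩ := h k
    rw [mul_inv_eq_iff_eq_mul] at hk'
    have key : ∀ y, σ (y ^^^ k) = σ y ^^^ k' := fun y => by
      have := Equiv.congr_fun hk' (c y)
      simp only [Equiv.Perm.mul_apply, tr_apply, P.invol] at this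
      rw [hσ, this, P.invol, hσ]
    have hk0 := key 0
    rw [zero_xor8] at hk0
    rw [key, hk0, xor8_comm (σ 0) k', xor8_cancel]
  obtain ⟨L, hL⟩ : ∃ L : Fin 8 → Fin 8, ∀ i, L i = σ i ^^^ σ 0 := ⟨_, fun _ => rfl⟩
  have hassoc : ∀ a b e : Fin 8, a ^^^ (b ^^^ e) ^^^ e = (a ^^^ e) ^^^ (b ^^^ e) := by decide
  have hLadd : ∀ a b, L (a ^^^ b) = L a ^^^ L b := fun a b => by
    rw [hL, hL, hL, hshift, hassoc]
  have hLinj : Function.Injective L := fun a b hab => by
    rw [hL, hL] at hab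
    have := congrArg (· ^^^ σ 0) hab
    simp only [xor8_cancel] at this
    exact σ.injective this
  obtain ⟨hlt, hind⟩ := indep3_code hLadd hLinj
  have hmem : code3 L ∈ d.lwords.map fun l => code3 (lact d c l) := by
    rw [← testBit_maskOf, P.found, testBit_maskOf, List.mem_filter]
    exact ⟨List.mem_range.2 hlt, hind⟩
  obtain ⟨l, hl, hcode⟩ := List.mem_map.1 hmem
  have hagree := additive8_ext hLadd (P.lact_add hl) (code3_inj hcode.symm)
  refine ⟨σ 0 ^^^ gact d c l 0, l, hl, fun i => ?_⟩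
  have h1 := hagree (c i)
  rw [hL, hσ, P.invol, lact, gact, P.invol] at h1
  have hx : ∀ a b e f : Fin 8, a ^^^ b = e ^^^ f → a = e ^^^ (b ^^^ f) := by decide
  rw [← hx _ _ _ _ h1, P.invol]

variable {G : Type*} [Group G] {t : G} (F : Frame ↥(Subgroup.centralizer ({t} : Set G)))

/-- The permutation of eight points. -/
def p8 : ↥(centralizer ({t} : Set G)) →* Equiv.Perm (Fin 8) :=
  (alternatingGroup (Fin 8)).subtype.comp F.π

/-- A word as an element of the centraliser. -/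
def cl (l : List ℕ) : ↥(centralizer ({t} : Set G)) := (l.map F.x).prod

theorem coe_cl (l : List ℕ) : (cl F l : G) = el F l := rfl

theorem p8_cl {l : List ℕ} (hl : ∀ g ∈ l, g < 6) (i : Fin 8) : p8 F (cl F l) i = ev8 l i := by
  refine Fin.ext ?_
  have h := π_apply F l hl i
  have hlt : evalW 4 cycTab l i < 8 := h ▸ Fin.is_lt _
  show ((F.π (l.map F.x).prod : Equiv.Perm (Fin 8)) i : ℕ) = _
  rw [h, ev8, Fin.val_ofNat, Nat.mod_eq_of_lt hlt]

theorem p8_ker {z : ↥(centralizer ({t} : Set G))} (h : p8 F z = 1) : z = 1 ∨ z = cl F [0, 1, 0, 1] := by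
  rcases (F.ker_π z).1 (Subtype.ext h) with h1 | h1
  · exact Or.inl h1
  · exact Or.inr (by rw [h1]; simp [cl, pow_two, mul_assoc])

theorem sign_p8 (z : ↥(centralizer ({t} : Set G))) : Equiv.Perm.sign (p8 F z) = 1 :=
  Equiv.Perm.mem_alternatingGroup.1 (F.π z).2

theorem p8_surj {σ : Equiv.Perm (Fin 8)} (h : Equiv.Perm.sign σ = 1) : ∃ z, p8 F z = σ := by
  have hr : F.π.range = ⊤ := by
    rw [eq_top_iff, ← ShortPresSLn.closure_carm 6, Subgroup.closure_le]
    rintro _ ⟨i, hi, rfl⟩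
    exact ⟨F.x i, F.π_x i hi⟩
  obtain ⟨z, hz⟩ := hr.ge (Subgroup.mem_top ⟨σ, Equiv.Perm.mem_alternatingGroup.2 h⟩)
  exact ⟨z, congrArg Subtype.val hz⟩

theorem p8_cd (hd : sideLetters d = true) (P : PermOK d c) {j : ℕ} (hj : j < 16) :
    p8 F (cl F (cdWord d j)) = c * tr (half j) * c := by
  refine Equiv.ext fun i => ?_
  rw [p8_cl F (cdWord_lt hd j), P.trans j hj]
  rfl

theorem exists_of_p8 (hd : sideLetters d = true) (ht : sideTable d = true) (P : PermOK d c)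
    {z : ↥(centralizer ({t} : Set G))} {k : Fin 8} (h : p8 F z = c * tr k * c) :
    ∃ j < 16, (z : G) = cd F d j := by
  have hk : 2 * (k : ℕ) < 16 := by have := k.isLt; omega
  have h1 : p8 F ((cl F (cdWord d (2 * (k : ℕ))))⁻¹ * z) = 1 := by
    rw [map_mul, map_inv, p8_cd F hd P hk, half_two_mul, h, inv_mul_cancel]
  rcases p8_ker F h1 with h2 | h2
  · exact ⟨_, hk, by rw [← inv_mul_eq_one.1 h2]; rfl⟩
  · refine ⟨2 * (k : ℕ) ^^^ 1, Nat.xor_lt_two_pow (n := 4) hk (by norm_num), ?_⟩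
    rw [inv_mul_eq_iff_eq_mul] at h2
    rw [← cd_mul F hd ht hk (by norm_num), h2, Subgroup.coe_mul, coe_cl, coe_cl]
    simp [cd, P.first]

theorem mem_sideSub_of_p8 (hd : sideLetters d = true) (ht : sideTable d = true) (P : PermOK d c)
    {z : ↥(centralizer ({t} : Set G))} {k : Fin 8} (h : p8 F z = c * tr k * c) :
    (z : G) ∈ sideSub F hd ht := by
  obtain ⟨j, hj, he⟩ := exists_of_p8 F hd ht P h
  exact ⟨j, hj, he.symm⟩

theorem el_tau (hord : orderOf t = 2) : el F [0, 1, 0, 1] = t := by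
  have P := permOK_V
  have hd := sideLetters_ok.1
  have htm : t ∈ centralizer ({t} : Set G) := mem_centralizer_singleton_iff.2 rfl
  obtain ⟨z0, hz0⟩ : ∃ z : ↥(centralizer ({t} : Set G)), (z : G) = t := ⟨⟨t, htm⟩, rfl⟩
  have hcomm : ∀ z : ↥(centralizer ({t} : Set G)), p8 F z * p8 F z0 = p8 F z0 * p8 F z := fun z => by
    rw [← map_mul, ← map_mul]
    refine congrArg _ (Subtype.ext ?_)
    rw [Subgroup.coe_mul, Subgroup.coe_mul, hz0]
    exact mem_centralizer_singleton_iff.1 z.2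
  obtain ⟨e, he⟩ : ∃ e, e = p8 F z0 := ⟨_, rfl⟩
  rw [← he] at hcomm
  have htr : ∀ i, e i = i ^^^ e 0 := by
    intro i
    have hj : 2 * (i : ℕ) < 16 := by have := i.isLt; omega
    have h := Equiv.congr_fun (hcomm (cl F (cdWord sideV (2 * (i : ℕ))))) 0
    rw [p8_cd F hd P hj, half_two_mul] at h
    simp only [one_mul, mul_one, Equiv.Perm.mul_apply, tr_apply, zero_xor8] at h
    rw [← h, xor8_comm]
  have hfix : e 0 = 0 := by
    refine P.fixed _ (List.all_eq_true.2 fun l hl => beq_iff_eq.2 ?_)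
    have hl' : ∀ g ∈ pqWord sideV l, g < 6 := pqWord_lt hd l
    have h := Equiv.congr_fun (hcomm (cl F (pqWord sideV l))) 0
    simp only [Equiv.Perm.mul_apply, p8_cl F hl'] at h
    rw [htr (ev8 _ _)] at h
    simp only [lact, gact, Equiv.Perm.one_apply]
    rw [h, xor8_comm (ev8 _ _), xor8_cancel]
  have he1 : e = 1 := Equiv.ext fun i => by
    rw [htr, hfix]; revert i; decide
  rcases p8_ker F (he.symm.trans he1) with h | h
  · exfalso
    rw [h, Subgroup.coe_one] at hz0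
    rw [← hz0, orderOf_one] at hord
    omega
  · rw [← coe_cl, ← h, hz0]

theorem mul_cd_inv (hd : sideLetters d = true) (ht : sideTable d = true) {j : ℕ} (hj : j < 16) :
    (cd F d j)⁻¹ = cd F d j := by
  refine inv_eq_of_mul_eq_one_right ?_
  rw [cd_mul F hd ht hj hj, Nat.xor_self]
  rfl

theorem card_sideSub [Finite G] (hd : sideLetters d = true) (ht : sideTable d = true) :
    Nat.card (sideSub F hd ht) = 16 := by
  let f : Fin 16 → sideSub F hd ht := fun j => ⟨cd F d j, ⟨j, j.2, rfl⟩⟩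
  have hf : Function.Bijective f := ⟨fun i j h => Fin.ext (cd_injOn F hd ht i.2 j.2
    (congrArg (fun z : sideSub F hd ht => (z : G)) h)), fun ⟨_, j, hj, e⟩ => ⟨⟨j, hj⟩, Subtype.ext e⟩⟩
  rw [← Nat.card_congr (Equiv.ofBijective f hf), Nat.card_fin]

theorem elem16_sideSub [Finite G] (hd : sideLetters d = true) (ht : sideTable d = true) (P : PermOK d c)
    (hord : orderOf t = 2) : Elem16 t (sideSub F hd ht) := by
  refine ⟨card_sideSub F hd ht, ⟨1, by norm_num, ?_⟩, ?_⟩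
  · rw [cd, P.first, el_tau F hord]
  · rintro _ ⟨j, hj, rfl⟩
    rw [cd_mul F hd ht hj hj, Nat.xor_self]
    rfl

/-- The self-centralising property. -/
theorem self_cent (hd : sideLetters d = true) (ht : sideTable d = true) (P : PermOK d c) (g : G)
    (hg : g ∈ centralizer ({t} : Set G)) (h : ∀ v ∈ sideSub F hd ht, g * v = v * g) :
    g ∈ sideSub F hd ht := by
  obtain ⟨σ, hσ⟩ : ∃ σ, σ = c * p8 F ⟨g, hg⟩ * c := ⟨_, rfl⟩
  have hρ : p8 F ⟨g, hg⟩ = c * σ * c := by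
    rw [hσ, ← mul_assoc, ← mul_assoc, P.mul_self, one_mul, mul_assoc, P.mul_self, mul_one]
  have key : ∀ i, σ i = i ^^^ σ 0 := by
    intro i
    have hj : 2 * (i : ℕ) < 16 := by have := i.isLt; omega
    have hc : (⟨g, hg⟩ : ↥(centralizer ({t} : Set G))) * cl F (cdWord d (2 * (i : ℕ))) =
        cl F (cdWord d (2 * (i : ℕ))) * ⟨g, hg⟩ := Subtype.ext (h _ ⟨_, hj, rfl⟩)
    have h1 := congrArg (fun z => c * p8 F z * c) hc
    simp only [map_mul, p8_cd F hd P hj, half_two_mul, hρ] at h1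
    have h2 := Equiv.congr_fun h1 0
    simp only [Equiv.Perm.mul_apply, P.invol, tr_apply, zero_xor8] at h2
    rw [h2, xor8_comm]
  refine mem_sideSub_of_p8 F hd ht P (z := ⟨g, hg⟩) (k := σ 0) ?_
  rw [hρ, show σ = tr (σ 0) from Equiv.ext key]
  rw [show tr (tr (σ 0) 0) = tr (σ 0) by rw [tr_apply, zero_xor8]]

theorem p8_conj_side (hd : sideLetters d = true) (ht : sideTable d = true) (P : PermOK d c)
    {d' : SideData} {c' : Equiv.Perm (Fin 8)} (hd' : sideLetters d' = true) (ht' : sideTable d' = true)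
    (P' : PermOK d' c') {h : G} (hh : h ∈ centralizer ({t} : Set G))
    (hU : conjSub h (sideSub F hd ht) = sideSub F hd' ht') (k : Fin 8) :
    ∃ k', p8 F ⟨h, hh⟩ * (c * tr k * c) * (p8 F ⟨h, hh⟩)⁻¹ = c' * tr k' * c' := by
  have hk : 2 * (k : ℕ) < 16 := by have := k.isLt; omega
  have hm : h * cd F d (2 * (k : ℕ)) * h⁻¹ ∈ sideSub F hd' ht' := by
    rw [← hU]; exact ⟨_, ⟨_, hk, rfl⟩, rfl⟩
  obtain ⟨j, hj, he⟩ := hm
  refine ⟨half j, ?_⟩
  rw [← half_two_mul k, ← p8_cd F hd P hk, ← p8_cd F hd' P' hj, ← map_mul, ← map_inv, ← map_mul]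
  exact congrArg _ (Subtype.ext he.symm)

/-- The normaliser inside the centraliser. -/
theorem side_form (hd : sideLetters d = true) (ht : sideTable d = true) (P : PermOK d c)
    (h : G) (hh : h ∈ centralizer ({t} : Set G))
    (hU : conjSub h (sideSub F hd ht) = sideSub F hd ht) :
    ∃ j < 16, ∃ l ∈ d.lwords, h = cd F d j * el F (pqWord d l) := by
  obtain ⟨a, l, hl, hρ⟩ := P.norm_form (p8 F ⟨h, hh⟩) fun k => p8_conj_side F hd ht P hd ht P hh hU k
  have hl' := pqWord_lt hd l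
  have e : p8 F (⟨h, hh⟩ * (cl F (pqWord d l))⁻¹) = c * tr a * c := by
    rw [map_mul, map_inv, mul_inv_eq_iff_eq_mul]
    refine Equiv.ext fun i => ?_
    rw [hρ, Equiv.Perm.mul_apply, p8_cl F hl']
    rfl
  obtain ⟨j, hj, he⟩ := exists_of_p8 F hd ht P e
  refine ⟨j, hj, l, hl, ?_⟩
  rw [← he, Subgroup.coe_mul, Subgroup.coe_inv, coe_cl, inv_mul_cancel_right]

/-- No element of the centraliser carries the first class to the second. -/
theorem side_not_conj (h : G) (hh : h ∈ centralizer ({t} : Set G)) : conjSub h (subV F) ≠ subW F := by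
  intro hU
  obtain ⟨a, l, hl, hρ⟩ := permOK_V.norm_form (swap01 * p8 F ⟨h, hh⟩) fun k => by
    obtain ⟨k', hk'⟩ := p8_conj_side F sideLetters_ok.1 sideTable_ok.1 permOK_V sideLetters_ok.2
      sideTable_ok.2 permOK_W hh hU k
    refine ⟨k', ?_⟩
    rw [one_mul, mul_one] at hk'
    calc swap01 * p8 F ⟨h, hh⟩ * (1 * tr k * 1) * (swap01 * p8 F ⟨h, hh⟩)⁻¹
        = swap01 * (p8 F ⟨h, hh⟩ * tr k * (p8 F ⟨h, hh⟩)⁻¹) * swap01⁻¹ := by group
      _ = 1 * tr k' * 1 := by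
        rw [hk', permOK_W.inv_eq, ← mul_assoc, ← mul_assoc, swap01_mul_self, one_mul, mul_assoc,
          swap01_mul_self]
  have e : swap01 * p8 F ⟨h, hh⟩ = tr a * p8 F (cl F (pqWord sideV l)) := Equiv.ext fun i => by
    rw [hρ, Equiv.Perm.mul_apply, p8_cl F (pqWord_lt sideLetters_ok.1 l)]
    rfl
  have hs := congrArg Equiv.Perm.sign e
  rw [Equiv.Perm.sign_mul, Equiv.Perm.sign_mul, sign_swap01, sign_tr, sign_p8, sign_p8] at hs
  exact absurd hs (by decide)

end Cfsg.Agent.Lib.McLAmalgam
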