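import Mathlib

/-!
Six generators of the double cover of `A₈` as permutations of 240 points, and their images on eight points.
-/

set_option autoImplicit false

namespace Cfsg.Agent.Lib.McLAmalgam

/-- The generators on 240 points. -/
def genTab : List ℕ :=
  [0x7ba7060270877a855e04ab8334c6c87ea89fbebd19af0da6121e5a76aada377107dd7f107c64e95d9b950e1327ea627909ce2dd3ed3c904a54ec99e665533f91d2cb40419dbc9a1c1a0f423d5926c0332f2be5cc67683b303922e2e0e3327774800c4755ef3a1d51c2ba6d8a166fb34f3e941bae8bc9a1b1b05f18b9a29e15524cb7e848c5d5c3a9c7a3811f000888d1d44be1a0236a66bf2a50216e01eb614d8f975682e70a5b2435d7dbd9d6312c1178cd0386b5844e9660cf8d935c17a50bde75dcac72057dc46973896c49388c8eca4325df29ee452e92e4d0632846ad9cd86b442098b858c136bb57b4a4b6b214,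
   0x9c9e0dbd04a6bfafc605b09bea4093cf845dec6a733e945fae205e62357b7e17bb5a7ae881712730186bce4a85d4de4f8b4bdd89e048a04988d5a4d1d354d64dcc422d2b28468a3974e32232232c2926d814557f3ba875343aaadc707683b87253977c13e93f31242f80581e1f681d1befb4b238696dba6f8ce115411a453dd94ec0cd8fe795d243d09da5c7a2c2a1079fb6c1acabc5c4c306a3667d6c573c216e78e51c11599179259690e682d7a702a909ca01e48e9a8dedebb30800b5bc0f0b030e635c60615b10b912b756650ab192dfcb0c86db3364672e99ee7747bec9c8ad374c8750da982a52443616e25119,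
   0x96936e8d194da58e9b87de895ccd8624271aa89ca6b59f6018bd122378026285a0691c5e7f6b64b409b19954950679eb2dcb3ddde1ea88d9e6e9425632db7c2b47df65c133c36dbc36b2b6105777d82fb8e0076739717a61bf16aa66445a6c3055223b9068752076b7bb1db3a9ad6a0bbea2b0c615c5ac3e7eb9405b48a33853d750832a312e3f25dc298235d44549a18f43c44a4f4c730372c85f5d080f00ed74a4ba9258e398590e11d1eeccda018aced3d628ecd5e79a410ac99d0d84ca8ccf8197527d919404ae058b9e63e851e4d2c7d0e226e5c06f46ef0c80c23a174e2cafab7b14a71e7034131b3c4b1f3721,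
   0x841773857574a94a78aa4c8125917e63242280131f6a121516237a263079316271662161722c1167878882298603d98e8f09df06cbcdc8c54e0a890bd0d5dccc0cd4d2996da2a14b470770e195e6e92edbd302dde0da34ed3c3b10ea645c4f3d595a3227e5e82f58571e6f6b36b8449cb7a450b4b6b2ad1bbebc1a9498bb4633ec550e3fef9a5b40b951a6389bb3b0a70448003754c0bfc6c7a84369af8dce2de27f6c8b568a972860cf96e46eeede014dd60549459d8c939208a0aca552189eb5357d1d5f5d1c5e39ae19bd3e41bac99fc3cac4e7ebe3d1420f0dc2b1c120a3d7abd8537c7b77836576902b143a682a,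
   0xce9b81a4c852bd1855a89c274f4184355351e8a2179e97aebb44713620234c13981916b86214261d918b59404d96a91c9d924986b1cb09b58eeecc01e6edd733e79ae42e630f6eb3c50c8f666721653de02d6474b6d8ab391b377588472c6b1f2f7c2a2b32ea3a316f68e2226a70b28dc4e3d4b7ac8c04a1036c45e5d25b3e3825c1db4ec728d0bc5cec78bf99ba9389d6c9d1a34bc3a700decdafaa128a57157e765a5d7258e9306179955f2434857fb4d50ea6b960cf82c27d9f0502c6940da57bdabe7a801e83ad5e870773e1dc080a0beb06d977efdd6d56111069df50ca54a0483c29903bd343c042461ab03f4a,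
   0x549c9390b0164f4b7b1743c8e6534aa662bb353cafbc9b1cbdb8a73b7a2c1fab50a16b5c19707c1e13422736144e21951a2b6d8f2e6548152d24989ae7267e7651d233e95d419f571d5bb25664dd3158324783226f756677e1ad73df6806d169da04e2d8dcc710aae55eba0739c4b7cbb955c361b3459e0fb5ebb40ec0c6c230d9e8d7c563ccecedcf52855fcd94c9d4a346d06ae0380b25494cb1128d99db67ac710da46e97a87f7986d328877288892329848b604d9d095982a21896a9ceca8ede81ae017802036ca5a00008ee059291e4d58c7411800ce30ad67d8aefbf402a1b3a3437ea5a3f3d20c12f443ebeb6]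

/-- The three-cycles `(0 1 i+2)`. -/
def cycTab : List ℕ :=
  [0x76543021, 0x76540231, 0x76503241, 0x76043251, 0x70543261, 0x6543271]

end Cfsg.Agent.Lib.McLAmalgam
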