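import Cfsg.Prelude.Def_SporadicB
import Cfsg.Agent.Lib.McLAmalgam.Code
import Cfsg.Agent.Lib.McLAmalgam.GenData
import Cfsg.Agent.Lib.ShortPresSLn.Carmichael

/-!
A non-split double cover of `A₈` has six generators that map to `(0 1 i+2)` and act faithfully on 240
points as the tabulated permutations.
-/

set_option autoImplicit false
set_option maxRecDepth 20000
set_option linter.style.haveILetI false

namespace Cfsg.Agent.Lib.McLAmalgam

open Cfsg Cfsg.Agent.Lib.Computation Cfsg.Agent.Lib.ShortPresSLn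

/-- The generators as permutations of 240 points. -/
noncomputable def xP : ℕ → Equiv.Perm (Fin 240) := letP 240 8 genTab

theorem genTab_ok : okTab 240 8 genTab = true := by decide +kernel

theorem cycTab_ok : okTab 8 4 cycTab = true := by decide +kernel

theorem cyc_eq : ∀ i < 6, ∀ j : Fin 8, ((carmPerm 6 i j : Fin 8) : ℕ) = getW 4 (cycTab.getD i 0) j := by
  decide +kernel

theorem carm_val {i : ℕ} (hi : i < 6) : (carm 6 i : Equiv.Perm (Fin 8)) = letP 8 4 cycTab i := by
  refine Equiv.ext fun j => Fin.ext ?_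
  rw [letP, decodeP_apply (okPerm_getD cycTab_ok (by simpa [cycTab] using hi))]
  exact cyc_eq i hi j

theorem carm_prod (l : List ℕ) (hl : ∀ g ∈ l, g < 6) :
    ((l.map (carm 6)).prod : Equiv.Perm (Fin 8)) = (l.map (letP 8 4 cycTab)).prod := by
  rw [Subgroup.val_list_prod, List.map_map]
  exact congrArg List.prod (List.map_congr_left fun g hg => carm_val (hl g hg))

/-- Words equal on eight points give equal products of three-cycles. -/
theorem carm_prod_eq {l l' : List ℕ} (hl : ∀ g ∈ l, g < 6) (hl' : ∀ g ∈ l', g < 6)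
    (he : eqW 8 4 cycTab l l' = true) : (l.map (carm 6)).prod = (l'.map (carm 6)).prod := by
  refine Subtype.ext ?_
  rw [carm_prod l hl, carm_prod l' hl']
  exact prod_eq cycTab_ok (by simpa [cycTab] using hl) (by simpa [cycTab] using hl') he

theorem gen_cube : ∀ i < 6, eqW 240 8 genTab [i, i, i] [] = true := by decide +kernel

theorem gen_sq : ∀ i < 6, ∀ j < 6, i ≠ j → eqW 240 8 genTab [i, j, i, j] [0, 1, 0, 1] = true := by
  decide +kernel

theorem gen_tau : eqW 240 8 genTab [0, 1, 0, 1, 0, 1, 0, 1] [] = true := by decide +kernel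

theorem gen_tau_ne : eqW 240 8 genTab [0, 1, 0, 1] [] = false := by decide +kernel

theorem gen_tau_comm : ∀ i < 6, eqW 240 8 genTab [0, 1, 0, 1, i] [i, 0, 1, 0, 1] = true := by
  decide +kernel

/-- Conjugating words moving each pair of indices to `{0, 1}`. -/
def pairTab : List (ℕ × ℕ × List ℕ) :=
  [(0, 1, []), (0, 2, [0, 1, 2, 0, 1]), (0, 3, [0, 1, 3, 0, 1]), (0, 4, [0, 1, 4, 0, 1]),
   (0, 5, [0, 1, 5, 0, 1]), (1, 2, [0, 2, 1, 0, 2]), (1, 3, [0, 2, 3, 0, 2]), (1, 4, [0, 2, 4, 0, 2]),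
   (1, 5, [0, 2, 5, 0, 2]), (2, 3, [0, 1, 2, 3, 0, 1]), (2, 4, [0, 1, 2, 4, 0, 1]),
   (2, 5, [0, 1, 2, 5, 0, 1]), (3, 4, [0, 1, 3, 4, 0, 1]), (3, 5, [0, 1, 3, 5, 0, 1]),
   (4, 5, [0, 1, 4, 5, 0, 1])]

theorem pairTab_mem : ∀ i < 6, ∀ j < 6, i < j → ∃ p ∈ pairTab, p.1 = i ∧ p.2.1 = j := by decide

theorem pairTab_ok : ∀ p ∈ pairTab, p.1 < 6 ∧ p.2.1 < 6 ∧ (∀ g ∈ p.2.2, g < 6) ∧
    ((eqW 8 4 cycTab (p.2.2 ++ [p.1]) (0 :: p.2.2) = true ∧
      eqW 8 4 cycTab (p.2.2 ++ [p.2.1]) (1 :: p.2.2) = true) ∨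
     (eqW 8 4 cycTab (p.2.2 ++ [p.1]) (1 :: p.2.2) = true ∧
      eqW 8 4 cycTab (p.2.2 ++ [p.2.1]) (0 :: p.2.2) = true)) := by
  decide +kernel

/-- The generators of a double cover of `A₈` with their two representations. -/
structure Frame (H : Type*) [Group H] where
  x : ℕ → H
  π : H →* alternatingGroup (Fin 8)
  ρ : H →* Equiv.Perm (Fin 240)
  π_x : ∀ i < 6, π (x i) = carm 6 i
  ρ_x : ∀ i < 6, ρ (x i) = xP i
  ρ_inj : Function.Injective ρ
  gen : Subgroup.closure {g | ∃ i < 6, g = x i} = ⊤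
  ker_π : ∀ g, π g = 1 ↔ g = 1 ∨ g = (x 0 * x 1) ^ 2
  card : Nat.card H = 40320

theorem eq_of_cube {H : Type*} [Group H] {Z : Subgroup H} (hZ : ∀ z ∈ Z, z * z = 1)
    (hc : ∀ z ∈ Z, ∀ g : H, g * z = z * g) {a b : H} (ha : a ^ 3 = 1) (hb : b ^ 3 = 1)
    (hab : a⁻¹ * b ∈ Z) : a = b := by
  have h1 : a * (a⁻¹ * b) = b := mul_inv_cancel_left a b
  have h2 : (a⁻¹ * b) ^ 3 = 1 := by
    have := congrArg (· ^ 3) h1
    rw [(show Commute a (a⁻¹ * b) from hc _ hab a).mul_pow, ha, one_mul, hb] at this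
    exact this
  rw [pow_succ, pow_two, hZ _ hab, one_mul] at h2
  rw [← h1, h2, mul_one]

theorem exists_lifts {H : Type*} [Group H] [Finite H]
    (hH : IsNonsplitDoubleCover H (alternatingGroup (Fin 8))) :
    ∃ (π : H →* alternatingGroup (Fin 8)) (x : ℕ → H) (τ : H), Function.Surjective π ∧
      π.ker = Subgroup.center H ∧ (∀ g, g ∈ Subgroup.center H ↔ g = 1 ∨ g = τ) ∧ τ ≠ 1 ∧
      (∀ i < 6, π (x i) = carm 6 i) ∧ (∀ i < 6, x i ^ 3 = 1) ∧
      ∀ i < 6, ∀ j < 6, i ≠ j → (x i * x j) ^ 2 = τ := by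
  classical
  obtain ⟨hZ2, ⟨e⟩, hns⟩ := hH
  set Z := Subgroup.center H with hZ
  let π : H →* alternatingGroup (Fin 8) := e.toMonoidHom.comp (QuotientGroup.mk' Z)
  have hsurj : Function.Surjective π := e.surjective.comp (QuotientGroup.mk'_surjective Z)
  have hker : π.ker = Z := by
    ext g
    rw [MonoidHom.mem_ker]
    show e (QuotientGroup.mk' Z g) = 1 ↔ g ∈ Z
    rw [MulEquiv.map_eq_one_iff]
    exact QuotientGroup.eq_one_iff g
  haveI : Fact (Nat.Prime 2) := ⟨Nat.prime_two⟩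
  obtain ⟨τ, hτZ, hτ⟩ : ∃ τ ∈ Z, τ ≠ 1 := by
    by_contra h
    push Not at h
    have : Z = ⊥ := by
      rw [Subgroup.eq_bot_iff_forall]; exact h
    rw [this, Subgroup.card_bot] at hZ2
    omega
  have hmem : ∀ g, g ∈ Z ↔ g = 1 ∨ g = τ := by
    intro g
    refine ⟨fun hg => ?_, ?_⟩
    · by_contra hne
      push Not at hne
      haveI : Fintype Z := Fintype.ofFinite _
      have h3 : ({1, ⟨τ, hτZ⟩, ⟨g, hg⟩} : Finset Z).card = 3 := by
        refine Finset.card_eq_three.2 ⟨1, ⟨τ, hτZ⟩, ⟨g, hg⟩, ?_, ?_, ?_, rfl⟩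
        · exact fun h => hτ (congrArg Subtype.val h).symm
        · exact fun h => hne.1 (congrArg Subtype.val h).symm
        · exact fun h => hne.2 (congrArg Subtype.val h).symm
      have := Finset.card_le_univ ({1, ⟨τ, hτZ⟩, ⟨g, hg⟩} : Finset Z)
      rw [← Nat.card_eq_fintype_card, hZ2, h3] at this
      omega
    · rintro (rfl | rfl)
      exacts [one_mem Z, hτZ]
  have hsq : ∀ z ∈ Z, z * z = 1 := by
    intro z hz
    have := pow_card_eq_one' (x := (⟨z, hz⟩ : Z))
    rw [hZ2, pow_two] at this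
    exact congrArg Subtype.val this
  have hcen : ∀ z ∈ Z, ∀ g : H, g * z = z * g := fun z hz g => Subgroup.mem_center_iff.1 hz g
  have hlift : ∀ i, ∃ y : H, π y = carm 6 i ∧ y ^ 3 = 1 := by
    intro i
    obtain ⟨y, hy⟩ := hsurj (carm 6 i)
    rcases Nat.lt_or_ge i 6 with hi | hi
    swap
    · refine ⟨1, ?_, one_pow 3⟩
      rw [map_one]
      exact Subtype.ext (by show (1 : Equiv.Perm (Fin 8)) = carmPerm 6 i; rw [carmPerm, dif_neg (by omega)])
    have h3 : y ^ 3 ∈ Z := by
      rw [← hker, MonoidHom.mem_ker, map_pow, hy, (carm_rel 6).cube i hi]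
    rcases (hmem _).1 h3 with h | h
    · exact ⟨y, hy, h⟩
    · refine ⟨y * τ, ?_, ?_⟩
      · rw [map_mul, hy, MonoidHom.mem_ker.1 (hker.ge hτZ), mul_one]
      · rw [(show Commute y τ from hcen τ hτZ y).mul_pow, h, pow_succ τ, pow_two, hsq τ hτZ, one_mul,
          hsq τ hτZ]
  choose x hx hx3 using hlift
  -- all squares of products agree with the first one
  have hconj : ∀ i < 6, ∀ j < 6, i < j → (x i * x j) ^ 2 = (x 0 * x 1) ^ 2 := by
    intro i hi j hj hij
    obtain ⟨p, hp, rfl, rfl⟩ := pairTab_mem i hi j hj hij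
    obtain ⟨h1, h2, hw, hor⟩ := pairTab_ok p hp
    set g := (p.2.2.map x).prod with hg
    have hπg : π g = (p.2.2.map (carm 6)).prod := by
      rw [hg, map_list_prod, List.map_map]
      exact congrArg List.prod (List.map_congr_left fun a _ => hx a)
    have key : ∀ a b : ℕ, a < 6 → b < 6 → eqW 8 4 cycTab (p.2.2 ++ [a]) (b :: p.2.2) = true →
        g * x a * g⁻¹ = x b := by
      intro a b ha hb he
      refine eq_of_cube hsq hcen (by rw [conj_pow, hx3, mul_one, mul_inv_cancel]) (hx3 b) ?_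
      have := carm_prod_eq (fun c hc => (List.mem_append.1 hc).elim (hw c)
        fun h => (List.mem_singleton.1 h).symm ▸ ha)
        (fun c hc => (List.mem_cons.1 hc).elim (fun h => h.symm ▸ hb) (hw c)) he
      rw [List.map_append, List.prod_append, List.map_cons, List.prod_cons, List.map_cons,
        List.prod_cons, List.map_nil, List.prod_nil, mul_one, ← hπg, ← hx a, ← hx b, ← map_mul,
        ← map_mul] at this
      rw [← hker, MonoidHom.mem_ker, map_mul, map_inv, map_mul, map_inv, this, map_mul]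
      group
    have hz : ∀ a b : ℕ, a < 6 → b < 6 → a ≠ b → g * (x a * x b) ^ 2 * g⁻¹ = (x a * x b) ^ 2 := by
      intro a b ha hb hab
      have hmemZ : (x a * x b) ^ 2 ∈ Z := by
        rw [← hker, MonoidHom.mem_ker, map_pow, map_mul, hx, hx, (carm_rel 6).sq a ha b hb hab]
      rw [hcen _ hmemZ g, mul_inv_cancel_right]
    rw [← hz _ _ h1 h2 (Nat.ne_of_lt hij), ← conj_pow]
    rcases hor with ⟨ha, hb⟩ | ⟨ha, hb⟩
    · rw [← key _ _ h1 (by norm_num) ha, ← key _ _ h2 (by norm_num) hb]; group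
    · have h01 : (x 1 * x 0) ^ 2 = (x 0 * x 1) ^ 2 := by
        have hmemZ : (x 0 * x 1) ^ 2 ∈ Z := by
          rw [← hker, MonoidHom.mem_ker, map_pow, map_mul, hx, hx,
            (carm_rel 6).sq 0 (by norm_num) 1 (by norm_num) (by norm_num)]
        calc (x 1 * x 0) ^ 2 = (x 0)⁻¹ * (x 0 * x 1) ^ 2 * x 0 := by simp [pow_two, mul_assoc]
          _ = _ := by rw [hcen _ hmemZ (x 0)⁻¹, inv_mul_cancel_right]
      rw [← h01, ← key _ _ h1 (by norm_num) ha, ← key _ _ h2 (by norm_num) hb]; group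
  have hsqs : ∀ i < 6, ∀ j < 6, i ≠ j → (x i * x j) ^ 2 = (x 0 * x 1) ^ 2 := by
    intro i hi j hj hij
    rcases lt_or_gt_of_ne hij with h | h
    · exact hconj i hi j hj h
    · have h1 := hconj j hj i hi h
      have hmemZ : (x j * x i) ^ 2 ∈ Z := by
        rw [← hker, MonoidHom.mem_ker, map_pow, map_mul, hx, hx, (carm_rel 6).sq j hj i hi (Ne.symm hij)]
      calc (x i * x j) ^ 2 = x i * (x j * x i) ^ 2 * (x i)⁻¹ := by simp [pow_two, mul_assoc]
        _ = _ := by rw [hcen _ hmemZ (x i), mul_inv_cancel_right, h1]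
  refine ⟨π, x, τ, hsurj, hker, hmem, hτ, fun i _ => hx i, fun i _ => hx3 i, fun i hi j hj hij => ?_⟩
  rw [hsqs i hi j hj hij]
  have h01 : (x 0 * x 1) ^ 2 ∈ Z := by
    rw [← hker, MonoidHom.mem_ker, map_pow, map_mul, hx, hx,
      (carm_rel 6).sq 0 (by norm_num) 1 (by norm_num) (by norm_num)]
  refine ((hmem _).1 h01).resolve_left fun h => ?_
  -- otherwise a complement
  have R : CarmRel 6 x := ⟨fun i _ => hx3 i, fun a ha b hb hab => by rw [hsqs a ha b hb hab, h]⟩
  obtain ⟨θ, hθ⟩ := exists_hom R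
  have hπθ : π.comp θ = MonoidHom.id _ := by
    refine MonoidHom.eq_of_eqOn_dense (closure_carm 6) ?_
    rintro _ ⟨i, hi, rfl⟩
    show π (θ (carm 6 i)) = carm 6 i
    rw [hθ i hi, hx]
  refine hns θ.range ((Subgroup.isComplement'_of_disjoint_and_mul_eq_univ ?_ ?_))
  · rw [Subgroup.disjoint_def]
    rintro z hz ⟨a, rfl⟩
    have ha : π (θ a) = a := DFunLike.congr_fun hπθ a
    rw [MonoidHom.mem_ker.1 (hker.ge hz)] at ha
    rw [← ha, map_one]
  · refine Set.eq_univ_of_forall fun g => ⟨g * (θ (π g))⁻¹, ?_, θ (π g), ⟨π g, rfl⟩, by group⟩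
    rw [SetLike.mem_coe, ← hker, MonoidHom.mem_ker, map_mul, map_inv,
      show π (θ (π g)) = π g from DFunLike.congr_fun hπθ _, mul_inv_cancel]

theorem prod_pair {H K : Type*} [Group H] [Group K] (f : ℕ → H × K) (l : List ℕ) :
    ((l.map f).prod).1 = (l.map fun i => (f i).1).prod := by
  induction l with
  | nil => rfl
  | cons a l ih => simp [ih]

theorem exists_frame {H : Type*} [Group H] [Finite H]
    (hH : IsNonsplitDoubleCover H (alternatingGroup (Fin 8))) : Nonempty (Frame H) := by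
  classical
  obtain ⟨π, x, τ, hsurj, hker, hmem, hτ, hx, hx3, hxsq⟩ := exists_lifts hH
  have hgen : Subgroup.closure {g | ∃ i < 6, g = x i} = ⊤ := by
    set L := Subgroup.closure {g | ∃ i < 6, g = x i} with hL
    have hxL : ∀ i < 6, x i ∈ L := fun i hi => Subgroup.subset_closure ⟨i, hi, rfl⟩
    have hτL : τ ∈ L := by
      rw [← hxsq 0 (by norm_num) 1 (by norm_num) (by norm_num)]
      exact L.pow_mem (L.mul_mem (hxL 0 (by norm_num)) (hxL 1 (by norm_num))) 2
    have hmap : L.map π = ⊤ := by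
      rw [eq_top_iff, ← closure_carm 6, Subgroup.closure_le]
      rintro _ ⟨i, hi, rfl⟩
      exact ⟨x i, hxL i hi, hx i hi⟩
    refine eq_top_iff.2 fun g _ => ?_
    obtain ⟨l, hl, hlg⟩ := (hmap.ge (Subgroup.mem_top (π g)) : π g ∈ L.map π)
    have : l⁻¹ * g ∈ Subgroup.center H := by
      rw [← hker, MonoidHom.mem_ker, map_mul, map_inv, hlg, inv_mul_cancel]
    rcases (hmem _).1 this with h | h
    · rw [inv_mul_eq_one.1 h] at hl; exact hl
    · rw [← mul_inv_cancel_left l g, h]; exact L.mul_mem hl hτL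
  have hlen : ∀ {l : List ℕ}, (∀ g ∈ l, g < 6) → ∀ g ∈ l, g < genTab.length := fun h g hg => by
    simpa [genTab] using h g hg
  have hP : ∀ l l' : List ℕ, (∀ g ∈ l, g < 6) → (∀ g ∈ l', g < 6) → eqW 240 8 genTab l l' = true →
      (l.map xP).prod = (l'.map xP).prod :=
    fun l l' h h' he => prod_eq genTab_ok (hlen h) (hlen h') he
  set tP := (xP 0 * xP 1) ^ 2 with htP
  let y : ℕ → Equiv.Perm (Fin 240) × H := fun i => (xP i, x i)
  set D := Subgroup.closure {g | ∃ i < 6, g = y i} with hD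
  have hyD : ∀ i < 6, y i ∈ D := fun i hi => Subgroup.subset_closure ⟨i, hi, rfl⟩
  let T : Equiv.Perm (Fin 240) × H := (tP, τ)
  have hTD : T ∈ D := by
    have : T = (y 0 * y 1) ^ 2 := Prod.ext rfl (hxsq 0 (by norm_num) 1 (by norm_num) (by norm_num)).symm
    rw [this]
    exact D.pow_mem (D.mul_mem (hyD 0 (by norm_num)) (hyD 1 (by norm_num))) 2
  have htP2 : tP * tP = 1 := by
    have h := hP [0, 1, 0, 1, 0, 1, 0, 1] [] (by decide) (by decide) gen_tau
    simp only [List.map_cons, List.map_nil, List.prod_cons, List.prod_nil, mul_one] at h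
    rw [htP, pow_two]; simpa [mul_assoc] using h
  have hτ2 : τ * τ = 1 := by
    have := pow_card_eq_one' (x := (⟨τ, (hmem τ).2 (Or.inr rfl)⟩ : Subgroup.center H))
    rw [hH.1, pow_two] at this
    exact congrArg Subtype.val this
  set ZT : Subgroup D := Subgroup.zpowers ⟨T, hTD⟩ with hZT
  have hTc : ∀ d ∈ D, d * T = T * d := by
    intro d hd
    induction hd using Subgroup.closure_induction with
    | mem v hv =>
      obtain ⟨i, hi, rfl⟩ := hv
      refine Prod.ext ?_ (Subgroup.mem_center_iff.1 ((hmem τ).2 (Or.inr rfl)) _)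
      have h := hP [0, 1, 0, 1, i] [i, 0, 1, 0, 1] (by simpa using hi) (by simpa using hi)
        (gen_tau_comm i hi)
      simp only [List.map_cons, List.map_nil, List.prod_cons, List.prod_nil, mul_one] at h
      show xP i * tP = tP * xP i
      rw [htP, pow_two]
      simpa [mul_assoc] using h.symm
    | one => simp
    | mul a b _ _ ha hb => exact (show Commute a T from ha).mul_left hb
    | inv a _ ha => exact (show Commute a T from ha).inv_left
  haveI : ZT.Normal := by
    refine ⟨fun n hn g => ?_⟩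
    obtain ⟨k, rfl⟩ := Subgroup.mem_zpowers_iff.1 hn
    have hc : Commute g (⟨T, hTD⟩ : D) := Subtype.ext (hTc g g.2)
    rw [(hc.zpow_right k).eq, mul_inv_cancel_right]
    exact hn
  have hRD : CarmRel 6 (fun i => if h : i < 6 then QuotientGroup.mk' ZT ⟨y i, hyD i h⟩ else 1) := by
    refine ⟨fun i hi => ?_, fun i hi j hj hij => ?_⟩
    · rw [dif_pos hi, ← map_pow]
      refine (QuotientGroup.eq_one_iff _).2 ?_
      suffices (⟨y i, hyD i hi⟩ : D) ^ 3 = 1 by rw [this]; exact one_mem ZT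
      refine Subtype.ext ?_
      show (xP i, x i) ^ 3 = 1
      refine Prod.ext ?_ (hx3 i hi)
      have h := hP [i, i, i] [] (by simpa using hi) (by simp) (gen_cube i hi)
      simpa [y, pow_succ, mul_assoc] using h
    · rw [dif_pos hi, dif_pos hj, ← map_mul, ← map_pow]
      refine (QuotientGroup.eq_one_iff _).2 ?_
      suffices ((⟨y i, hyD i hi⟩ : D) * ⟨y j, hyD j hj⟩) ^ 2 = ⟨T, hTD⟩ by
        rw [this]; exact Subgroup.mem_zpowers _
      refine Subtype.ext ?_
      show ((xP i, x i) * (xP j, x j)) ^ 2 = (tP, τ)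
      refine Prod.ext ?_ (hxsq i hi j hj hij)
      have h := hP [i, j, i, j] [0, 1, 0, 1] (by simp [hi, hj]) (by decide) (gen_sq i hi j hj hij)
      simp only [List.map_cons, List.map_nil, List.prod_cons, List.prod_nil, mul_one] at h
      show (xP i * xP j) ^ 2 = tP
      rw [htP, pow_two, pow_two]; simpa [mul_assoc] using h
  obtain ⟨hfin, hle⟩ := hRD.finite_and_card_le
  have htopq : Subgroup.closure
      {g | ∃ i < 6, g = if h : i < 6 then QuotientGroup.mk' ZT ⟨y i, hyD i h⟩ else 1} = ⊤ := by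
    have h1 : Subgroup.closure {d : D | ∃ i, ∃ h : i < 6, d = ⟨y i, hyD i h⟩} = ⊤ := by
      refine Subgroup.map_injective (Subgroup.subtype_injective D) ?_
      rw [MonoidHom.map_closure, ← MonoidHom.range_eq_map, Subgroup.range_subtype]
      conv_rhs => rw [hD]
      congr 1
      ext g
      constructor
      · rintro ⟨d, ⟨i, h, rfl⟩, rfl⟩
        exact ⟨i, h, rfl⟩
      · rintro ⟨i, h, rfl⟩
        exact ⟨_, ⟨i, h, rfl⟩, rfl⟩
    rw [eq_top_iff, ← Subgroup.map_top_of_surjective _ (QuotientGroup.mk'_surjective ZT), ← h1,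
      MonoidHom.map_closure]
    refine Subgroup.closure_mono ?_
    rintro _ ⟨_, ⟨i, h, rfl⟩, rfl⟩
    exact ⟨i, h, by rw [dif_pos h]⟩
  rw [htopq] at hfin hle
  haveI : Finite (D ⧸ ZT) := @Finite.of_equiv _ _ hfin Subgroup.topEquiv.toEquiv
  rw [Subgroup.card_top] at hle
  have hZT : Nat.card ZT ≤ 2 := by
    rw [Nat.card_zpowers]
    refine orderOf_le_of_pow_eq_one (by norm_num) ?_
    rw [pow_two]
    exact Subtype.ext (Prod.ext htP2 hτ2)
  have hDle : Nat.card D ≤ 40320 := by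
    rw [Subgroup.card_eq_card_quotient_mul_card_subgroup ZT]
    have : Nat.card (D ⧸ ZT) ≤ 20160 := by
      norm_num [Nat.factorial] at hle
      omega
    calc Nat.card (D ⧸ ZT) * Nat.card ZT ≤ 20160 * 2 := Nat.mul_le_mul this hZT
      _ = 40320 := by norm_num
  let f : D →* H := (MonoidHom.snd _ _).comp D.subtype
  have hfs : Function.Surjective f := by
    rw [← MonoidHom.range_eq_top, eq_top_iff, ← hgen, Subgroup.closure_le]
    rintro _ ⟨i, hi, rfl⟩
    exact ⟨⟨y i, hyD i hi⟩, rfl⟩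
  have hA : Nat.card (alternatingGroup (Fin 8)) = 20160 := by
    rw [nat_card_alternatingGroup, Nat.card_fin]; norm_num [Nat.factorial]
  have hcH : Nat.card H = 40320 := by
    rw [Subgroup.card_eq_card_quotient_mul_card_subgroup (Subgroup.center H), hH.1,
      Nat.card_congr hH.2.1.some.toEquiv, hA]
  haveI : Finite D := by
    haveI : Finite ZT := by
      refine Nat.finite_of_card_ne_zero ?_
      rw [Nat.card_zpowers]
      exact orderOf_ne_zero_iff.2 (isOfFinOrder_iff_pow_eq_one.2 ⟨2, by norm_num, by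
        rw [pow_two]; exact Subtype.ext (Prod.ext htP2 hτ2)⟩)
    exact Finite.of_equiv _ (Subgroup.groupEquivQuotientProdSubgroup (s := ZT)).symm
  have hbij : Function.Bijective f :=
    (Nat.bijective_iff_surjective_and_card f).2 ⟨hfs, le_antisymm (hDle.trans hcH.ge)
      (Nat.card_le_card_of_surjective f hfs)⟩
  let fe := MulEquiv.ofBijective f hbij
  let ρ : H →* Equiv.Perm (Fin 240) := ((MonoidHom.fst _ _).comp D.subtype).comp fe.symm.toMonoidHom
  have hρx : ∀ i < 6, ρ (x i) = xP i := by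
    intro i hi
    have : fe.symm (x i) = ⟨y i, hyD i hi⟩ := fe.symm_apply_eq.2 rfl
    show ((fe.symm (x i) : D) : Equiv.Perm (Fin 240) × H).1 = xP i
    rw [this]
  have hρτ : ρ τ = tP := by
    rw [← hxsq 0 (by norm_num) 1 (by norm_num) (by norm_num), map_pow, map_mul, hρx 0 (by norm_num),
      hρx 1 (by norm_num)]
  have htP1 : tP ≠ 1 := by
    intro h
    have := eqW_of_prod_eq (n := 240) (w := 8) genTab_ok (l := [0, 1, 0, 1]) (l' := [])
      (by decide) (by decide) (by
        show ([0, 1, 0, 1].map xP).prod = (([] : List ℕ).map xP).prod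
        rw [htP, pow_two] at h
        simpa [mul_assoc] using h)
    rw [gen_tau_ne] at this
    exact Bool.false_ne_true this
  have hρinj : Function.Injective ρ := by
    rw [← MonoidHom.ker_eq_bot_iff]
    haveI : IsSimpleGroup (alternatingGroup (Fin 8)) := alternatingGroup.isSimpleGroup (by simp)
    have hn : (ρ.ker.map π).Normal := (MonoidHom.normal_ker ρ).map π hsurj
    have hτker : τ ∉ ρ.ker := fun h => htP1 (hρτ ▸ MonoidHom.mem_ker.1 h)
    rcases hn.eq_bot_or_eq_top with h | h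
    · rw [Subgroup.eq_bot_iff_forall]
      intro g hg
      have : π g = 1 := by
        have := Subgroup.mem_map_of_mem π hg
        rwa [h, Subgroup.mem_bot] at this
      rcases (hmem g).1 (hker ▸ MonoidHom.mem_ker.2 this) with h' | h'
      · exact h'
      · exact absurd (h' ▸ hg) hτker
    · exfalso
      refine hH.2.2 ρ.ker (Subgroup.isComplement'_of_disjoint_and_mul_eq_univ ?_ ?_)
      · rw [Subgroup.disjoint_def]
        intro z hz hzk
        exact ((hmem z).1 hz).resolve_right fun h' => hτker (h' ▸ hzk)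
      · refine Set.eq_univ_of_forall fun g => ?_
        obtain ⟨k, hk, hkg⟩ := (h.ge (Subgroup.mem_top (π g)) : π g ∈ ρ.ker.map π)
        refine ⟨g * k⁻¹, ?_, k, hk, by group⟩
        rw [SetLike.mem_coe, ← hker, MonoidHom.mem_ker, map_mul, map_inv, hkg, mul_inv_cancel]
  refine ⟨{ x := x, π := π, ρ := ρ, π_x := hx, ρ_x := hρx, ρ_inj := hρinj, gen := hgen, card := hcH,
            ker_π := fun g => ?_ }⟩
  rw [← MonoidHom.mem_ker, hker, hmem, hxsq 0 (by norm_num) 1 (by norm_num) (by norm_num)]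

end Cfsg.Agent.Lib.McLAmalgam
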