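import Cfsg.Agent.Lib.McLAmalgam.Side

/-!
The checks needed to identify the normaliser of one of the elementary subgroups of order sixteen.
-/

set_option autoImplicit false
set_option maxRecDepth 20000
set_option Elab.async false

namespace Cfsg.Agent.Lib.McLAmalgam

open Cfsg.Agent.Lib.Computation

/-- The action of a word in the two generators on the sixteen elements. -/
def linW (d : SideData) (l : List ℕ) (j : ℕ) : ℕ := evalW 4 [d.ap, d.aq] l j

/-- The new letter on the sixteen elements. -/
def linV (d : SideData) (j : ℕ) : ℕ := getW 4 d.lin j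

/-- The maps inducing the identity modulo the first element. -/
def rk (k j : ℕ) : ℕ :=
  j ^^^ ((k.testBit 0 && j.testBit 1) ^^ (k.testBit 1 && j.testBit 2) ^^ (k.testBit 2 && j.testBit 3)).toNat

/-- Relators of the two generators of the complement. -/
def relPQ : List (List ℕ) :=
  [[0, 0, 0, 0, 0, 0, 0], [1, 1], [0, 1, 0, 1, 0, 1],
   [0, 1, 0, 0, 0, 0, 0, 0, 1, 0, 1, 0, 0, 0, 0, 0, 0, 1, 0, 1, 0, 0, 0, 0, 0, 0, 1, 0, 1, 0, 0, 0, 0, 0, 0, 1]]

/-- An affine value of a relator word. -/
def affPQ (d : SideData) (a b : ℕ) (r : List ℕ) (i : ℕ) : ℕ :=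
  r.foldr (fun g v => if g = 0 then a ^^^ linW d [0] v else b ^^^ linW d [1] v) i

/-- A word in a candidate map and the two generators. -/
def candW (d : SideData) (k : ℕ) (l : List ℕ) (i : ℕ) : ℕ :=
  l.foldr (fun g v => if g = 0 then linV d (rk k v) else linW d [g - 1] v) i

/-- The four images determining a map. -/
def basisSame (f g : ℕ → ℕ) : Bool := f 2 == g 2 && f 4 == g 4 && f 8 == g 8

/-- The code of the images of the last three basic elements. -/
def imgCode (f : ℕ → ℕ) : ℕ := f 2 + 16 * f 4 + 256 * f 8

/-- Independence modulo the first element. -/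
def indep (v : ℕ) : Bool :=
  let a := v % 16 / 2
  let b := v / 16 % 16 / 2
  let c := v / 256 / 2
  a != 0 && b != 0 && b != a && c != 0 && c != a && c != b && c != (a ^^^ b)

/-- The set of codes as a bit mask. -/
def maskOf (l : List ℕ) : ℕ := l.foldr (fun v m => 2 ^ v ||| m) 0

theorem testBit_maskOf {l : List ℕ} {v : ℕ} : (maskOf l).testBit v = true ↔ v ∈ l := by
  induction l with
  | nil => simp [maskOf]
  | cons a l ih =>
    have : maskOf (a :: l) = 2 ^ a ||| maskOf l := rfl
    rw [this, Nat.testBit_lor, Bool.or_eq_true, ih, Nat.testBit_two_pow, decide_eq_true_eq, List.mem_cons,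
      eq_comm (a := a)]

/-- The maps fixing the first element found from the table. -/
def foundCodes (d : SideData) : List ℕ :=
  d.lwords.flatMap fun l => (List.range 8).map fun k => imgCode fun j => rk k (linW d l j)

/-- An additive map from its values. -/
def ext4 (f : ℕ → ℕ) (j : ℕ) : ℕ :=
  (bif j.testBit 0 then f 1 else 0) ^^^ (bif j.testBit 1 then f 2 else 0) ^^^
    (bif j.testBit 2 then f 4 else 0) ^^^ (bif j.testBit 3 then f 8 else 0)

/-- A letter of the local alphabet as an affine map. -/
def letA (d : SideData) (g v : ℕ) : ℕ :=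
  if g = 5 then d.tr ^^^ linV d v
  else
    let e := d.dec.getD (if g < 3 then g else 3) (0, [])
    e.1 ^^^ linW d e.2 v

/-- A word of the local alphabet as an affine map. -/
def affW (d : SideData) (l : List ℕ) (i : ℕ) : ℕ := l.foldr (letA d) i

/-- The checks. -/
structure LocalOK (d : SideData) (gl : ℕ) : Prop where
  tabs : okTab 16 4 [d.ap, d.aq] = true ∧ okPerm 16 4 d.lin = true
  conj : (List.range 16).all (fun j =>
    eqW 240 8 genTab (d.pw ++ cdWord d j) (cdWord d (linW d [0] j) ++ d.pw) &&
    eqW 240 8 genTab (d.qw ++ cdWord d j) (cdWord d (linW d [1] j) ++ d.qw)) = true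
  fix : (List.range 240).any (fun i => evalW 8 genTab d.pw i == i && evalW 8 genTab d.qw i == i &&
    (List.range 16).all fun j => j == 0 || evalW 8 genTab (cdWord d j) i != i) = true
  lwords : d.lwords.all (fun l => l.all fun g => decide (g < 2)) = true
  faith : d.lwords.all (fun l => !basisSame (linW d l) id || eqW 240 8 genTab (pqWord d l) []) = true
  rels : relPQ.all (fun r => eqW 240 8 genTab (pqWord d r) []) = true
  compl : (List.range 16).all (fun a => (List.range 16).all fun b =>
    !(relPQ.all fun r => (List.range 16).all fun i => affPQ d a b r i == i) ||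
    (List.range 16).any fun u => a == u ^^^ linW d [0] u && b == u ^^^ linW d [1] u) = true
  d8 : (d.d8.length == 8 && (List.range 8).all fun i => (d.d8.getD i []).all (fun g => decide (g < 2)) &&
    (List.range 8).all fun k => decide ((d.d8mul.getD i []).getD k 0 < 8) &&
      eqW 240 8 genTab (pqWord d (d.d8.getD i []) ++ pqWord d (d.d8.getD k []))
        (pqWord d (d.d8.getD ((d.d8mul.getD i []).getD k 0) [])) &&
      (i == k || !eqW 240 8 genTab (pqWord d (d.d8.getD i [])) (pqWord d (d.d8.getD k [])))) = true
  found : maskOf (foundCodes d) = maskOf ((List.range 4096).filter indep)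
  ext : d.lwords.all (fun l => (List.range 8).all fun k => (List.range 16).all fun j =>
    linV d (rk k (linW d l j)) == ext4 (fun i => linV d (rk k (linW d l i))) j) = true
  linV_ok : (linV d 1 == 2 && decide (d.tr < 16) && (List.range 16).all fun j =>
    linV d (linV d j) == j && linV d j == ext4 (linV d) j) = true
  wit : (List.range 8).all (fun k => k == 0 || (candW d k (d.wit.getD k []) 1 == 1 &&
    (d.wit.getD k []).all (fun g => decide (g < 3)) &&
    d.lwords.all fun l => !basisSame (candW d k (d.wit.getD k [])) (linW d l))) = true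
  letters : ([0, 1, 2, gl] : List ℕ).all (fun g =>
    let e := d.dec.getD (if g < 3 then g else 3) (0, [])
    decide (e.1 < 16) && e.2.all (fun i => decide (i < 2)) &&
    eqW 240 8 genTab (letterWords.getD g []) (cdWord d e.1 ++ pqWord d e.2)) = true

set_option maxHeartbeats 4000000 in
theorem localOK_V : LocalOK sideV 3 := by
  constructor <;> decide +kernel

set_option maxHeartbeats 4000000 in
theorem localOK_W : LocalOK sideW 4 := by
  constructor <;> decide +kernel

end Cfsg.Agent.Lib.McLAmalgam
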