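import Mathlib

/-!
Tables for the two classes of elementary abelian subgroups of order sixteen in the double cover of `A₈`
and for the letters of the presentation of the amalgam.
-/

set_option autoImplicit false

namespace Cfsg.Agent.Lib.McLAmalgam

/-- The tables of one class. -/
structure SideData where
  /-- words of the four basic elements -/
  uw : List (List ℕ)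
  /-- words of two generators of a complement in the stabiliser -/
  pw : List ℕ
  qw : List ℕ
  /-- the relabelling of eight points -/
  sig : ℕ
  /-- the elements of the complement -/
  lwords : List (List ℕ)
  /-- the action of the two generators -/
  ap : ℕ
  aq : ℕ
  /-- the action and translation of the new letter -/
  lin : ℕ
  tr : ℕ
  /-- the other letters -/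
  dec : List (ℕ × List ℕ)
  /-- eight elements of the complement forming a subgroup, with products -/
  d8 : List (List ℕ)
  d8mul : List (List ℕ)
  /-- decomposition of the basic elements of the other class -/
  other : List (ℕ × ℕ)
  /-- witnesses excluding the seven wrong linear maps -/
  wit : List (List ℕ)

/-- The tables. -/
def sideV : SideData where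
  uw := [[0, 1, 0, 1], [0, 1, 1, 0, 2, 4, 3, 5, 2, 4], [0, 1, 2, 3, 4, 5, 2, 3],
    [0, 1, 4, 5, 0, 1, 2, 3]]
  pw := [5, 0, 3, 4, 2]
  qw := [0, 3, 1, 2, 0, 3, 5, 4]
  sig := 0x76543210
  lwords := [[], [0], [1], [0, 0], [0, 1], [1, 0], [0, 0, 0], [0, 0, 1], [0, 1, 0], [1, 0, 0], [1, 0, 1],
    [0, 0, 0, 0], [0, 0, 0, 1], [0, 0, 1, 0], [0, 1, 0, 0], [0, 1, 0, 1], [1, 0, 0, 0],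
    [1, 0, 0, 1], [1, 0, 1, 0], [0, 0, 0, 0, 0], [0, 0, 0, 0, 1], [0, 0, 0, 1, 0],
    [0, 0, 1, 0, 0], [0, 0, 1, 0, 1], [0, 1, 0, 0, 0], [0, 1, 0, 0, 1], [1, 0, 0, 0, 0],
    [1, 0, 0, 0, 1], [1, 0, 0, 1, 0], [1, 0, 1, 0, 0], [1, 0, 1, 0, 1], [0, 0, 0, 0, 0, 1],
    [0, 0, 0, 0, 1, 0], [0, 0, 0, 1, 0, 0], [0, 0, 0, 1, 0, 1], [0, 0, 1, 0, 0, 0],
    [0, 0, 1, 0, 0, 1], [0, 1, 0, 0, 0, 0], [0, 1, 0, 0, 0, 1], [0, 1, 0, 0, 1, 0],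
    [1, 0, 0, 0, 0, 0], [1, 0, 0, 0, 0, 1], [1, 0, 0, 0, 1, 0], [1, 0, 0, 1, 0, 0],
    [1, 0, 0, 1, 0, 1], [1, 0, 1, 0, 0, 0], [1, 0, 1, 0, 0, 1], [0, 0, 0, 0, 0, 1, 0],
    [0, 0, 0, 0, 1, 0, 0], [0, 0, 0, 0, 1, 0, 1], [0, 0, 0, 1, 0, 0, 0], [0, 0, 0, 1, 0, 0, 1],
    [0, 0, 1, 0, 0, 0, 0], [0, 0, 1, 0, 0, 0, 1], [0, 0, 1, 0, 0, 1, 0], [0, 1, 0, 0, 0, 0, 0],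
    [0, 1, 0, 0, 0, 0, 1], [0, 1, 0, 0, 0, 1, 0], [0, 1, 0, 0, 1, 0, 0], [1, 0, 0, 0, 0, 1, 0],
    [1, 0, 0, 0, 1, 0, 0], [1, 0, 0, 0, 1, 0, 1], [1, 0, 0, 1, 0, 0, 0], [1, 0, 0, 1, 0, 0, 1],
    [1, 0, 1, 0, 0, 0, 0], [1, 0, 1, 0, 0, 0, 1], [0, 0, 0, 0, 0, 1, 0, 0],
    [0, 0, 0, 0, 0, 1, 0, 1], [0, 0, 0, 0, 1, 0, 0, 0], [0, 0, 0, 0, 1, 0, 0, 1],
    [0, 0, 0, 1, 0, 0, 0, 0], [0, 0, 0, 1, 0, 0, 0, 1], [0, 0, 0, 1, 0, 0, 1, 0],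
    [0, 0, 1, 0, 0, 0, 0, 0], [0, 0, 1, 0, 0, 0, 0, 1], [0, 0, 1, 0, 0, 0, 1, 0],
    [0, 0, 1, 0, 0, 1, 0, 0], [0, 1, 0, 0, 0, 0, 1, 0], [0, 1, 0, 0, 0, 1, 0, 0],
    [0, 1, 0, 0, 0, 1, 0, 1], [0, 1, 0, 0, 1, 0, 0, 0], [0, 1, 0, 0, 1, 0, 0, 1],
    [1, 0, 0, 0, 0, 1, 0, 0], [1, 0, 0, 0, 0, 1, 0, 1], [1, 0, 0, 0, 1, 0, 0, 0],
    [1, 0, 0, 0, 1, 0, 0, 1], [1, 0, 0, 1, 0, 0, 0, 0], [1, 0, 0, 1, 0, 0, 0, 1],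
    [1, 0, 0, 1, 0, 0, 1, 0], [1, 0, 1, 0, 0, 0, 0, 0], [1, 0, 1, 0, 0, 0, 0, 1],
    [1, 0, 1, 0, 0, 0, 1, 0], [0, 0, 0, 0, 0, 1, 0, 0, 0], [0, 0, 0, 0, 0, 1, 0, 0, 1],
    [0, 0, 0, 0, 1, 0, 0, 0, 0], [0, 0, 0, 0, 1, 0, 0, 0, 1], [0, 0, 0, 0, 1, 0, 0, 1, 0],
    [0, 0, 0, 1, 0, 0, 0, 0, 0], [0, 0, 0, 1, 0, 0, 0, 0, 1], [0, 0, 0, 1, 0, 0, 0, 1, 0],
    [0, 0, 0, 1, 0, 0, 1, 0, 0], [0, 0, 1, 0, 0, 0, 0, 1, 0], [0, 0, 1, 0, 0, 0, 1, 0, 1],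
    [0, 0, 1, 0, 0, 1, 0, 0, 0], [0, 0, 1, 0, 0, 1, 0, 0, 1], [0, 1, 0, 0, 0, 0, 1, 0, 0],
    [0, 1, 0, 0, 0, 0, 1, 0, 1], [0, 1, 0, 0, 0, 1, 0, 0, 0], [0, 1, 0, 0, 0, 1, 0, 0, 1],
    [0, 1, 0, 0, 1, 0, 0, 0, 0], [0, 1, 0, 0, 1, 0, 0, 0, 1], [1, 0, 0, 0, 0, 1, 0, 0, 0],
    [1, 0, 0, 0, 0, 1, 0, 0, 1], [1, 0, 0, 0, 1, 0, 0, 0, 0], [1, 0, 0, 0, 1, 0, 0, 1, 0],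
    [1, 0, 0, 1, 0, 0, 0, 0, 0], [1, 0, 0, 1, 0, 0, 0, 0, 1], [1, 0, 0, 1, 0, 0, 1, 0, 0],
    [1, 0, 1, 0, 0, 0, 0, 1, 0], [1, 0, 1, 0, 0, 0, 1, 0, 1], [0, 0, 0, 0, 0, 1, 0, 0, 0, 0],
    [0, 0, 0, 0, 0, 1, 0, 0, 0, 1], [0, 0, 0, 0, 0, 1, 0, 0, 1, 0],
    [0, 0, 0, 0, 1, 0, 0, 0, 0, 0], [0, 0, 0, 0, 1, 0, 0, 0, 1, 0],
    [0, 0, 0, 0, 1, 0, 0, 1, 0, 0], [0, 0, 0, 1, 0, 0, 0, 0, 1, 0],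
    [0, 0, 0, 1, 0, 0, 0, 1, 0, 1], [0, 0, 0, 1, 0, 0, 1, 0, 0, 0],
    [0, 0, 0, 1, 0, 0, 1, 0, 0, 1], [0, 0, 1, 0, 0, 0, 0, 1, 0, 0],
    [0, 0, 1, 0, 0, 0, 0, 1, 0, 1], [0, 0, 1, 0, 0, 1, 0, 0, 0, 0],
    [0, 0, 1, 0, 0, 1, 0, 0, 0, 1], [0, 1, 0, 0, 0, 0, 1, 0, 0, 0],
    [0, 1, 0, 0, 0, 0, 1, 0, 0, 1], [0, 1, 0, 0, 0, 1, 0, 0, 0, 0],
    [0, 1, 0, 0, 0, 1, 0, 0, 1, 0], [0, 1, 0, 0, 1, 0, 0, 0, 0, 0],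
    [0, 1, 0, 0, 1, 0, 0, 0, 0, 1], [1, 0, 0, 0, 0, 1, 0, 0, 1, 0],
    [1, 0, 0, 0, 1, 0, 0, 0, 0, 0], [1, 0, 0, 0, 1, 0, 0, 1, 0, 0],
    [1, 0, 0, 1, 0, 0, 0, 0, 1, 0], [1, 0, 0, 1, 0, 0, 1, 0, 0, 0],
    [1, 0, 0, 1, 0, 0, 1, 0, 0, 1], [1, 0, 1, 0, 0, 0, 0, 1, 0, 0],
    [1, 0, 1, 0, 0, 0, 0, 1, 0, 1], [0, 0, 0, 0, 0, 1, 0, 0, 0, 1, 0],
    [0, 0, 0, 0, 1, 0, 0, 0, 1, 0, 1], [0, 0, 0, 0, 1, 0, 0, 1, 0, 0, 0],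
    [0, 0, 0, 1, 0, 0, 0, 0, 1, 0, 0], [0, 0, 0, 1, 0, 0, 1, 0, 0, 0, 0],
    [0, 0, 0, 1, 0, 0, 1, 0, 0, 0, 1], [0, 0, 1, 0, 0, 0, 0, 1, 0, 0, 0],
    [0, 0, 1, 0, 0, 0, 0, 1, 0, 0, 1], [0, 1, 0, 0, 0, 0, 1, 0, 0, 1, 0],
    [0, 1, 0, 0, 0, 1, 0, 0, 0, 0, 0], [0, 1, 0, 0, 0, 1, 0, 0, 1, 0, 0],
    [0, 1, 0, 0, 1, 0, 0, 0, 0, 1, 0], [1, 0, 0, 0, 1, 0, 0, 1, 0, 0, 1],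
    [1, 0, 0, 1, 0, 0, 0, 0, 1, 0, 0], [1, 0, 0, 1, 0, 0, 1, 0, 0, 0, 1],
    [0, 0, 0, 0, 0, 1, 0, 0, 0, 1, 0, 1], [0, 0, 0, 0, 1, 0, 0, 1, 0, 0, 0, 0],
    [0, 0, 0, 0, 1, 0, 0, 1, 0, 0, 0, 1], [0, 0, 0, 1, 0, 0, 0, 0, 1, 0, 0, 1],
    [0, 1, 0, 0, 0, 1, 0, 0, 1, 0, 0, 1]]
  ap := 0xdc982367abef5410
  aq := 0xefdc6754ab982310
  lin := 0x7564b9a8fdec3120
  tr := 8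
  dec := [(12, [1]), (1, [0, 1, 0, 0, 1, 0, 0, 0, 1]), (10, [0, 0, 1, 0, 0, 0, 0, 1, 0, 0]), (4, [1, 0, 0, 1, 0])]
  d8 := [[], [1], [0, 0, 0, 0, 1, 0, 0, 0], [0, 1, 0, 0, 0, 1, 0, 0], [0, 0, 0, 0, 1, 0, 0, 0, 1],
    [0, 1, 0, 0, 0, 1, 0, 0, 1], [1, 0, 0, 0, 0, 1, 0, 0, 0], [0, 0, 0, 1, 0, 0, 0, 0, 1, 0]]
  d8mul := [[0, 1, 2, 3, 4, 5, 6, 7], [1, 0, 6, 5, 7, 3, 2, 4], [2, 4, 0, 6, 1, 7, 3, 5],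
    [3, 5, 4, 0, 2, 1, 7, 6], [4, 2, 3, 7, 5, 6, 0, 1], [5, 3, 7, 1, 6, 0, 4, 2],
    [6, 7, 1, 2, 0, 4, 5, 3], [7, 6, 5, 4, 3, 2, 1, 0]]
  other := [(0, 0), (1, 0), (2, 0), (3, 0), (3, 7), (2, 7), (1, 7), (0, 7), (0, 2), (1, 2), (2, 2), (3, 2), (3, 5), (2, 5), (1, 5), (0, 5)]
  wit := [[], [0, 0, 0], [0, 0], [0, 0, 0], [0, 1, 0, 0, 2, 1, 0], [0, 0, 0], [0, 0], [0, 0, 0]]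

/-- The tables. -/
def sideW : SideData where
  uw := [[0, 1, 0, 1], [0, 1, 1, 0, 2, 4, 3, 5, 2, 4], [1, 0, 2, 3, 4, 5, 2, 3],
    [0, 1, 4, 5, 0, 1, 3, 2]]
  pw := [4, 2, 5, 0, 3]
  qw := [1, 0, 2, 5, 1, 3, 4, 5]
  sig := 0x76543201
  lwords := [[], [0], [1], [0, 0], [0, 1], [1, 0], [0, 0, 0], [0, 0, 1], [0, 1, 0], [1, 0, 0], [1, 0, 1],
    [0, 0, 0, 0], [0, 0, 0, 1], [0, 0, 1, 0], [0, 1, 0, 0], [0, 1, 0, 1], [1, 0, 0, 0],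
    [1, 0, 0, 1], [1, 0, 1, 0], [0, 0, 0, 0, 0], [0, 0, 0, 0, 1], [0, 0, 0, 1, 0],
    [0, 0, 1, 0, 0], [0, 0, 1, 0, 1], [0, 1, 0, 0, 0], [0, 1, 0, 0, 1], [1, 0, 0, 0, 0],
    [1, 0, 0, 0, 1], [1, 0, 0, 1, 0], [1, 0, 1, 0, 0], [1, 0, 1, 0, 1], [0, 0, 0, 0, 0, 1],
    [0, 0, 0, 0, 1, 0], [0, 0, 0, 1, 0, 0], [0, 0, 0, 1, 0, 1], [0, 0, 1, 0, 0, 0],
    [0, 0, 1, 0, 0, 1], [0, 1, 0, 0, 0, 0], [0, 1, 0, 0, 0, 1], [0, 1, 0, 0, 1, 0],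
    [1, 0, 0, 0, 0, 0], [1, 0, 0, 0, 0, 1], [1, 0, 0, 0, 1, 0], [1, 0, 0, 1, 0, 0],
    [1, 0, 0, 1, 0, 1], [1, 0, 1, 0, 0, 0], [1, 0, 1, 0, 0, 1], [0, 0, 0, 0, 0, 1, 0],
    [0, 0, 0, 0, 1, 0, 0], [0, 0, 0, 0, 1, 0, 1], [0, 0, 0, 1, 0, 0, 0], [0, 0, 0, 1, 0, 0, 1],
    [0, 0, 1, 0, 0, 0, 0], [0, 0, 1, 0, 0, 0, 1], [0, 0, 1, 0, 0, 1, 0], [0, 1, 0, 0, 0, 0, 0],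
    [0, 1, 0, 0, 0, 0, 1], [0, 1, 0, 0, 0, 1, 0], [0, 1, 0, 0, 1, 0, 0], [1, 0, 0, 0, 0, 1, 0],
    [1, 0, 0, 0, 1, 0, 0], [1, 0, 0, 0, 1, 0, 1], [1, 0, 0, 1, 0, 0, 0], [1, 0, 0, 1, 0, 0, 1],
    [1, 0, 1, 0, 0, 0, 0], [1, 0, 1, 0, 0, 0, 1], [0, 0, 0, 0, 0, 1, 0, 0],
    [0, 0, 0, 0, 0, 1, 0, 1], [0, 0, 0, 0, 1, 0, 0, 0], [0, 0, 0, 0, 1, 0, 0, 1],
    [0, 0, 0, 1, 0, 0, 0, 0], [0, 0, 0, 1, 0, 0, 0, 1], [0, 0, 0, 1, 0, 0, 1, 0],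
    [0, 0, 1, 0, 0, 0, 0, 0], [0, 0, 1, 0, 0, 0, 0, 1], [0, 0, 1, 0, 0, 0, 1, 0],
    [0, 0, 1, 0, 0, 1, 0, 0], [0, 1, 0, 0, 0, 0, 1, 0], [0, 1, 0, 0, 0, 1, 0, 0],
    [0, 1, 0, 0, 0, 1, 0, 1], [0, 1, 0, 0, 1, 0, 0, 0], [0, 1, 0, 0, 1, 0, 0, 1],
    [1, 0, 0, 0, 0, 1, 0, 0], [1, 0, 0, 0, 0, 1, 0, 1], [1, 0, 0, 0, 1, 0, 0, 0],
    [1, 0, 0, 0, 1, 0, 0, 1], [1, 0, 0, 1, 0, 0, 0, 0], [1, 0, 0, 1, 0, 0, 0, 1],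
    [1, 0, 0, 1, 0, 0, 1, 0], [1, 0, 1, 0, 0, 0, 0, 0], [1, 0, 1, 0, 0, 0, 0, 1],
    [1, 0, 1, 0, 0, 0, 1, 0], [0, 0, 0, 0, 0, 1, 0, 0, 0], [0, 0, 0, 0, 0, 1, 0, 0, 1],
    [0, 0, 0, 0, 1, 0, 0, 0, 0], [0, 0, 0, 0, 1, 0, 0, 0, 1], [0, 0, 0, 0, 1, 0, 0, 1, 0],
    [0, 0, 0, 1, 0, 0, 0, 0, 0], [0, 0, 0, 1, 0, 0, 0, 0, 1], [0, 0, 0, 1, 0, 0, 0, 1, 0],
    [0, 0, 0, 1, 0, 0, 1, 0, 0], [0, 0, 1, 0, 0, 0, 0, 1, 0], [0, 0, 1, 0, 0, 0, 1, 0, 1],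
    [0, 0, 1, 0, 0, 1, 0, 0, 0], [0, 0, 1, 0, 0, 1, 0, 0, 1], [0, 1, 0, 0, 0, 0, 1, 0, 0],
    [0, 1, 0, 0, 0, 0, 1, 0, 1], [0, 1, 0, 0, 0, 1, 0, 0, 0], [0, 1, 0, 0, 0, 1, 0, 0, 1],
    [0, 1, 0, 0, 1, 0, 0, 0, 0], [0, 1, 0, 0, 1, 0, 0, 0, 1], [1, 0, 0, 0, 0, 1, 0, 0, 0],
    [1, 0, 0, 0, 0, 1, 0, 0, 1], [1, 0, 0, 0, 1, 0, 0, 0, 0], [1, 0, 0, 0, 1, 0, 0, 1, 0],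
    [1, 0, 0, 1, 0, 0, 0, 0, 0], [1, 0, 0, 1, 0, 0, 0, 0, 1], [1, 0, 0, 1, 0, 0, 1, 0, 0],
    [1, 0, 1, 0, 0, 0, 0, 1, 0], [1, 0, 1, 0, 0, 0, 1, 0, 1], [0, 0, 0, 0, 0, 1, 0, 0, 0, 0],
    [0, 0, 0, 0, 0, 1, 0, 0, 0, 1], [0, 0, 0, 0, 0, 1, 0, 0, 1, 0],
    [0, 0, 0, 0, 1, 0, 0, 0, 0, 0], [0, 0, 0, 0, 1, 0, 0, 0, 1, 0],
    [0, 0, 0, 0, 1, 0, 0, 1, 0, 0], [0, 0, 0, 1, 0, 0, 0, 0, 1, 0],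
    [0, 0, 0, 1, 0, 0, 0, 1, 0, 1], [0, 0, 0, 1, 0, 0, 1, 0, 0, 0],
    [0, 0, 0, 1, 0, 0, 1, 0, 0, 1], [0, 0, 1, 0, 0, 0, 0, 1, 0, 0],
    [0, 0, 1, 0, 0, 0, 0, 1, 0, 1], [0, 0, 1, 0, 0, 1, 0, 0, 0, 0],
    [0, 0, 1, 0, 0, 1, 0, 0, 0, 1], [0, 1, 0, 0, 0, 0, 1, 0, 0, 0],
    [0, 1, 0, 0, 0, 0, 1, 0, 0, 1], [0, 1, 0, 0, 0, 1, 0, 0, 0, 0],
    [0, 1, 0, 0, 0, 1, 0, 0, 1, 0], [0, 1, 0, 0, 1, 0, 0, 0, 0, 0],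
    [0, 1, 0, 0, 1, 0, 0, 0, 0, 1], [1, 0, 0, 0, 0, 1, 0, 0, 1, 0],
    [1, 0, 0, 0, 1, 0, 0, 0, 0, 0], [1, 0, 0, 0, 1, 0, 0, 1, 0, 0],
    [1, 0, 0, 1, 0, 0, 0, 0, 1, 0], [1, 0, 0, 1, 0, 0, 1, 0, 0, 0],
    [1, 0, 0, 1, 0, 0, 1, 0, 0, 1], [1, 0, 1, 0, 0, 0, 0, 1, 0, 0],
    [1, 0, 1, 0, 0, 0, 0, 1, 0, 1], [0, 0, 0, 0, 0, 1, 0, 0, 0, 1, 0],
    [0, 0, 0, 0, 1, 0, 0, 0, 1, 0, 1], [0, 0, 0, 0, 1, 0, 0, 1, 0, 0, 0],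
    [0, 0, 0, 1, 0, 0, 0, 0, 1, 0, 0], [0, 0, 0, 1, 0, 0, 1, 0, 0, 0, 0],
    [0, 0, 0, 1, 0, 0, 1, 0, 0, 0, 1], [0, 0, 1, 0, 0, 0, 0, 1, 0, 0, 0],
    [0, 0, 1, 0, 0, 0, 0, 1, 0, 0, 1], [0, 1, 0, 0, 0, 0, 1, 0, 0, 1, 0],
    [0, 1, 0, 0, 0, 1, 0, 0, 0, 0, 0], [0, 1, 0, 0, 0, 1, 0, 0, 1, 0, 0],
    [0, 1, 0, 0, 1, 0, 0, 0, 0, 1, 0], [1, 0, 0, 0, 1, 0, 0, 1, 0, 0, 1],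
    [1, 0, 0, 1, 0, 0, 0, 0, 1, 0, 0], [1, 0, 0, 1, 0, 0, 1, 0, 0, 0, 1],
    [0, 0, 0, 0, 0, 1, 0, 0, 0, 1, 0, 1], [0, 0, 0, 0, 1, 0, 0, 1, 0, 0, 0, 0],
    [0, 0, 0, 0, 1, 0, 0, 1, 0, 0, 0, 1], [0, 0, 0, 1, 0, 0, 0, 0, 1, 0, 0, 1],
    [0, 1, 0, 0, 0, 1, 0, 0, 1, 0, 0, 1]]
  ap := 0x768945badc23ef10
  aq := 0xef76ba23dc458910
  lin := 0xcedf64759b8a3120
  tr := 0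
  dec := [(0, [0, 0, 0, 0, 1, 0, 0, 1, 0, 0, 0, 0]), (8, [1, 0, 1, 0, 0]), (0, [0, 1, 0, 0, 0, 1, 0, 0]), (14, [0, 0, 1, 0, 0, 0, 1, 0, 1])]
  d8 := [[], [0, 0, 0, 1], [0, 0, 1, 0, 1], [0, 1, 0, 0, 1], [1, 0, 0, 0, 0], [0, 0, 0, 1, 0, 0, 0, 1],
    [0, 0, 1, 0, 0, 0, 0, 0], [0, 1, 0, 0, 1, 0, 0, 0, 1]]
  d8mul := [[0, 1, 2, 3, 4, 5, 6, 7], [1, 5, 6, 2, 0, 4, 7, 3], [2, 3, 0, 1, 6, 7, 4, 5],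
    [3, 7, 4, 0, 2, 6, 5, 1], [4, 0, 3, 7, 5, 1, 2, 6], [5, 4, 7, 6, 1, 0, 3, 2],
    [6, 2, 1, 5, 7, 3, 0, 4], [7, 6, 5, 4, 3, 2, 1, 0]]
  other := [(0, 0), (1, 0), (2, 0), (3, 0), (2, 5), (3, 5), (0, 5), (1, 5), (3, 3), (2, 3), (1, 3), (0, 3), (1, 6), (0, 6), (3, 6), (2, 6)]
  wit := [[], [0, 0, 0], [0, 0], [0, 0, 0], [0, 2, 0, 1, 1, 0], [0, 0, 0], [0, 0], [0, 0, 0]]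

/-- The five letters of the centraliser as words in the generators. -/
def letterWords : List (List ℕ) :=
  [[0, 1, 1, 2, 4, 1, 5, 3, 4, 0], [0, 1, 1, 4, 2, 1, 3, 5, 2, 0],
    [0, 1, 1, 5, 2, 1, 3, 4, 2, 0], [0, 3, 2, 1, 0, 5, 4, 1], [1, 0, 4, 3, 1, 5, 2, 3]]

/-- The generators as words in the five letters. -/
def genWords : List (List ℕ) :=
  [[1, 4, 0, 2, 3, 4, 1, 0, 4], [2, 3, 0, 4, 2, 3, 2, 1, 0, 4], [2, 4, 0, 3, 2, 4, 0, 1, 2, 3],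
    [0, 3, 4, 2, 0, 4, 1, 2, 4, 1], [3, 4, 0, 4, 2, 3, 0, 1, 2, 4], [1, 3, 4, 0, 1, 4, 2, 0, 4]]

/-- The element conjugating `s` to `t * s`. -/
def flipWord : List ℕ := [0, 1]

/-- Relators of the centraliser in the letters `0, …, 4`. -/
def relH : List (List ℕ) :=
  [[0, 2, 0, 2, 0, 2], [2, 3, 2, 3, 2, 3], [1, 4, 1, 4, 1, 4], [0, 1, 3, 1, 3, 0, 3],
    [0, 1, 0, 1, 0, 2, 1, 2], [0, 1, 4, 3, 4, 1, 0, 4, 3, 4], [1, 2, 1, 3, 2, 4, 2, 3, 2, 4],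
    [0, 1, 0, 2, 4, 2, 4, 0, 1, 0, 4]]

/-- Relators of the normaliser of the first class in the letters `0, 1, 2, 3, 5`. -/
def relM : List (List ℕ) :=
  [[0, 2, 0, 2, 0, 2], [0, 2, 5, 0, 2, 5], [2, 3, 2, 3, 2, 3], [0, 1, 3, 1, 3, 0, 3],
    [0, 1, 0, 1, 0, 2, 1, 2], [0, 3, 1, 5, 3, 5, 1, 3, 0, 5], [0, 2, 0, 3, 1, 5, 2, 1, 5, 2, 3]]

/-- Relators of the normaliser of the second class in the letters `0, 1, 2, 4, 5`. -/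
def relP : List (List ℕ) :=
  [[0, 2, 0, 2, 0, 2], [1, 4, 1, 4, 1, 4], [0, 5, 0, 5, 0, 5], [0, 1, 0, 1, 0, 2, 1, 2],
    [0, 2, 0, 2, 5, 2, 0, 5], [0, 4, 0, 4, 0, 4, 0, 4], [1, 2, 4, 5, 4, 5, 4, 2, 1, 5],
    [0, 1, 0, 2, 4, 2, 4, 0, 1, 0, 4], [0, 1, 2, 0, 4, 0, 4, 5, 2, 1, 5]]

/-- Basic elements and their images under the new letter, in both alphabets. -/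
def common : List (List ℕ × List ℕ × List ℕ × List ℕ) :=
  [([1, 2, 1, 2], [1, 3, 0, 2, 3, 0, 2, 3, 1, 0, 2, 3], [1, 2, 1, 2], [1, 2, 4, 0, 4, 2, 1, 4, 0, 4]),
   ([1, 3, 0, 2, 3, 0, 2, 3, 1, 0, 2, 3], [1, 2, 1, 2], [1, 2, 4, 0, 4, 2, 1, 4, 0, 4], [1, 2, 1, 2]),
   ([0, 1, 2, 0, 3, 0, 2, 0, 3], [0, 1, 3, 0, 2, 0, 3, 2, 0, 1, 2], [1, 4, 0, 4, 1], [4, 0, 4]),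
   ([2, 0, 3, 0, 2, 3, 1, 3], [2, 0, 3, 0, 2, 3, 1, 3], [0, 1, 4, 0, 4, 1, 0], [0, 1, 4, 0, 4, 1, 0]),
   ([1, 2, 1, 2], [1, 3, 0, 2, 3, 0, 2, 3, 1, 0, 2, 3], [1, 2, 1, 2], [1, 2, 4, 0, 4, 2, 1, 4, 0, 4]),
   ([1, 3, 0, 2, 3, 0, 2, 3, 1, 0, 2, 3], [1, 2, 1, 2], [1, 2, 4, 0, 4, 2, 1, 4, 0, 4], [1, 2, 1, 2]),
   ([1, 2, 3, 0, 2, 0, 3, 1, 2], [0, 3, 0, 2, 0, 3, 0], [0, 2, 1, 0, 2, 4, 0, 4, 2], [2, 4, 0, 1, 4, 1, 0, 4]),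
   ([0, 1, 2, 3, 0, 2, 0, 3, 1, 2, 0], [1, 2, 3, 0, 2, 0, 3, 2, 1], [1, 4, 0, 4, 2, 4, 0, 4], [0, 1, 0, 2, 0, 4, 0, 4, 2])]

end Cfsg.Agent.Lib.McLAmalgam
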