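import Cfsg.Agent.Lib.McLAmalgam.LocalChecks
import Cfsg.Agent.Lib.McLAmalgam.Cert.Data

/-!
Checks on words used to glue the two local models.
-/

set_option autoImplicit false
set_option maxRecDepth 20000
set_option Elab.async false

namespace Cfsg.Agent.Lib.McLAmalgam

open Cfsg.Agent.Lib.Computation

/-- A word in the five letters as a word in the six generators. -/
def expand (l : List ℕ) : List ℕ := l.flatMap fun g => letterWords.getD g []

/-- The word is trivial in the affine model. -/
def affTriv (d : SideData) (l : List ℕ) : Bool := (List.range 16).all fun i => affW d l i == i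

/-- All letters lie in the alphabet of one class. -/
def inAlph (gl : ℕ) (l : List ℕ) : Bool := l.all fun a => ([0, 1, 2, gl, 5] : List ℕ).contains a

theorem letterWords_lt : ∀ g < 5, ∀ a ∈ letterWords.getD g [], a < 6 := by decide +kernel

theorem letters_sq : ∀ g < 5, eqW 240 8 genTab (expand [g, g]) [] = true := by decide +kernel

theorem genWords_ok : ∀ i < 6, (genWords.getD i []).all (fun g => decide (g < 5)) = true ∧
    eqW 240 8 genTab (expand (genWords.getD i [])) [i] = true := by
  decide +kernel

theorem rels_ok : Cert.rels.all (fun l =>
    ((l.all fun g => decide (g < 5)) && eqW 240 8 genTab (expand l) []) ||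
    (inAlph 3 l && affTriv sideV l) || (inAlph 4 l && affTriv sideW l)) = true := by
  decide +kernel

/-- What is checked of an entry of the common list. -/
def commonEntry (e : List ℕ × List ℕ × List ℕ × List ℕ) : Bool :=
  ([e.1, e.2.1].all fun v => v.all fun g => decide (g < 4)) &&
  ([e.2.2.1, e.2.2.2].all fun v => v.all fun g => ([0, 1, 2, 4] : List ℕ).contains g) &&
  eqW 240 8 genTab (expand e.1) (expand e.2.2.1) &&
  eqW 240 8 genTab (expand e.2.1) (expand e.2.2.2) &&
  affTriv sideV ([5] ++ e.1 ++ [5] ++ e.2.1.reverse) &&
  affTriv sideW ([5] ++ e.2.2.1 ++ [5] ++ e.2.2.2.reverse)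

theorem common_ok : common.all commonEntry = true := by decide +kernel

/-- The product of selected entries of the common list. -/
def selWord (off m : ℕ) : List ℕ :=
  ((List.range 4).filter fun i => m.testBit i).flatMap fun i =>
    expand (common.getD (off + i) ([], [], [], [])).1

/-- The entries `off, …, off + 3` generate the class. -/
def spanOK (d : SideData) (off : ℕ) : Bool :=
  (List.range 4).all fun i =>
    (List.range 16).any fun m => eqW 240 8 genTab (selWord off m) (d.uw.getD i [])

theorem span_ok : spanOK sideV 0 = true ∧ spanOK sideW 4 = true := by decide +kernel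

theorem common_first : eqW 240 8 genTab (expand (common.getD 0 ([], [], [], [])).1) (cdWord sideV 1) = true ∧
    eqW 240 8 genTab (expand (common.getD 0 ([], [], [], [])).2.1) (cdWord sideV 2) = true := by
  decide +kernel

theorem cdWord_two : cdWord sideW 2 = cdWord sideV 2 ∧ cdWord sideV 1 = [0, 1, 0, 1] ∧
    cdWord sideW 1 = [0, 1, 0, 1] := by
  decide +kernel

theorem tau_ne_two : eqW 240 8 genTab (cdWord sideV 2) [0, 1, 0, 1] = false := by decide +kernel

end Cfsg.Agent.Lib.McLAmalgam
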