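import Cfsg.Agent.Lib.McLAmalgam.MainChecks
import Cfsg.Agent.Lib.McLAmalgam.Bound
import Cfsg.Agent.Lib.McLAmalgam.Tuple

/-!
Two groups with six-tuples satisfying the relators: the pairs generate a group of bounded order.
-/

set_option autoImplicit false
set_option maxRecDepth 20000
set_option linter.style.haveILetI false

namespace Cfsg.Agent.Lib.McLAmalgam

open Cfsg Subgroup Cfsg.Agent.Lib.Computation

variable {K G : Type*} [Group K] [Group G] {s : K} {t : G}
  (F' : Frame ↥(Subgroup.centralizer ({s} : Set K))) (F : Frame ↥(Subgroup.centralizer ({t} : Set G)))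

/-- The centraliser lies in any subgroup containing the five letters. -/
theorem centralizer_le_of_letters (J : Subgroup G) (h : ∀ g < 5, el F (letterWords.getD g []) ∈ J) :
    centralizer ({t} : Set G) ≤ J := by
  have hexp : ∀ l : List ℕ, (∀ g ∈ l, g < 5) → el F (expand l) ∈ J := by
    intro l
    induction l with
    | nil => intro _; exact one_mem J
    | cons a l ih =>
      intro hl
      rw [show expand (a :: l) = letterWords.getD a [] ++ expand l from rfl, el_append]
      exact mul_mem (h a (hl a List.mem_cons_self)) (ih fun g hg => hl g (List.mem_cons_of_mem _ hg))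
  intro z hz
  have hzm : (⟨z, hz⟩ : ↥(centralizer ({t} : Set G))) ∈ Subgroup.closure {g | ∃ i < 6, g = F.x i} := by
    rw [F.gen]; exact Subgroup.mem_top _
  have hle : Subgroup.closure {g | ∃ i < 6, g = F.x i} ≤ J.subgroupOf (centralizer ({t} : Set G)) := by
    rw [Subgroup.closure_le]
    rintro _ ⟨i, hi, rfl⟩
    obtain ⟨hlt, he⟩ := genWords_ok i hi
    have hlt' : ∀ g ∈ genWords.getD i [], g < 5 := fun g hg =>
      of_decide_eq_true (List.all_eq_true.1 hlt g hg)
    have h1 := el_eq F (expand_lt hlt') (by simpa using hi) he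
    have h2 : el F [i] = (F.x i : G) := by simp [el]
    rw [SetLike.mem_coe, mem_subgroupOf, ← h2, ← h1]
    exact hexp _ hlt'
  exact mem_subgroupOf.1 (hle hzm)

theorem val_sq (z : G) (hz : z * z = 1) {g : ℕ} (hg : g < 6) : val F z g * val F z g = 1 := by
  rcases Nat.lt_or_ge g 5 with h | h
  · rw [val, if_pos h, ← el_append]
    refine el_eq F (l' := []) (fun a ha => (List.mem_append.1 ha).elim (letterWords_lt g h a)
      (letterWords_lt g h a)) (by simp) ?_
    simpa [expand] using letters_sq g h
  · rw [show g = 5 by omega]; simpa [val] using hz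

/-- The six pairs. -/
def pairVal (w' : K) (w : G) (g : ℕ) : K × G := (val F' w' g, val F w g)

theorem map_fst_prod (w' : K) (w : G) (l : List ℕ) :
    (l.map (pairVal F' F w' w)).prod = ((l.map (val F' w')).prod, (l.map (val F w)).prod) := by
  induction l with
  | nil => rfl
  | cons a l ih => simp [ih, pairVal]

variable [Finite K] [Finite G]

/-- The two projections of the group of pairs and its order. -/
theorem pairs_bound (w' : K) (w : G) (hw' : w' * w' = 1) (hw : w * w = 1)
    (hr' : ∀ l ∈ Cert.rels, (l.map (val F' w')).prod = 1)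
    (hr : ∀ l ∈ Cert.rels, (l.map (val F w)).prod = 1) :
    ∃ D : Subgroup (K × G), Nat.card D ≤ 22275 * 40320 ∧
      centralizer ({s} : Set K) ≤ D.map (MonoidHom.fst K G) ∧ w' ∈ D.map (MonoidHom.fst K G) ∧
      centralizer ({t} : Set G) ≤ D.map (MonoidHom.snd K G) ∧ w ∈ D.map (MonoidHom.snd K G) := by
  set φ := pairVal F' F w' w with hφ
  set D := Subgroup.closure {x | ∃ g < 6, φ g = x} with hD
  set D5 := Subgroup.closure {x | ∃ g < 5, φ g = x} with hD5
  have hφD : ∀ g < 6, φ g ∈ D := fun g hg => Subgroup.subset_closure ⟨g, hg, rfl⟩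
  have h5 : Nat.card D5 ≤ 40320 := by
    let f1 : ↥(centralizer ({s} : Set K)) × ↥(centralizer ({t} : Set G)) →* Equiv.Perm (Fin 240) :=
      F'.ρ.comp (MonoidHom.fst _ _)
    let f2 : ↥(centralizer ({s} : Set K)) × ↥(centralizer ({t} : Set G)) →* Equiv.Perm (Fin 240) :=
      F.ρ.comp (MonoidHom.snd _ _)
    let P := f1.eqLocus f2
    let ι : ↥(centralizer ({s} : Set K)) × ↥(centralizer ({t} : Set G)) →* K × G :=
      MonoidHom.prodMap (centralizer ({s} : Set K)).subtype (centralizer ({t} : Set G)).subtype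
    have hle : D5 ≤ P.map ι := by
      rw [hD5, Subgroup.closure_le]
      rintro _ ⟨g, hg, rfl⟩
      refine ⟨(((letterWords.getD g []).map F'.x).prod, ((letterWords.getD g []).map F.x).prod), ?_, ?_⟩
      · show F'.ρ ((letterWords.getD g []).map F'.x).prod = F.ρ ((letterWords.getD g []).map F.x).prod
        rw [ρ_prod F' _ (letterWords_lt g hg), ρ_prod F _ (letterWords_lt g hg)]
      · show (el F' (letterWords.getD g []), el F (letterWords.getD g [])) = φ g
        simp [hφ, pairVal, val, hg]
    have hP : Nat.card P ≤ 40320 := by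
      refine (Nat.card_le_card_of_injective (fun p : P => p.1.1) ?_).trans F'.card.le
      rintro ⟨⟨a, b⟩, hab⟩ ⟨⟨a', b'⟩, hab'⟩ (h : a = a')
      subst h
      have : F.ρ b = F.ρ b' := (show F'.ρ a = F.ρ b from hab).symm.trans hab'
      rw [Subtype.mk.injEq, Prod.mk.injEq]
      exact ⟨rfl, F.ρ_inj this⟩
    refine le_trans (Nat.le_of_dvd Nat.card_pos (Subgroup.card_dvd_of_le hle)) ?_
    exact le_trans (Nat.card_le_card_of_surjective _ (ι.subgroupMap_surjective P)) hP
  have hbound := card_le_of_rels φ (by simp [hφ, pairVal, val]) (fun l hl => by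
      rw [hφ, map_fst_prod, hr' l hl, hr l hl]; rfl) (fun g hg => ?_)
  swap
  · exact Prod.ext (val_sq F' w' hw' hg) (val_sq F w hw hg)
  refine ⟨D, hbound.trans (Nat.mul_le_mul_left _ h5), ?_, ⟨φ 5, hφD 5 (by norm_num), by simp [hφ, pairVal, val]⟩,
    ?_, ⟨φ 5, hφD 5 (by norm_num), by simp [hφ, pairVal, val]⟩⟩
  · exact centralizer_le_of_letters F' _ fun g hg =>
      ⟨φ g, hφD g (by omega), by simp [hφ, pairVal, val, hg]⟩
  · exact centralizer_le_of_letters F _ fun g hg =>
      ⟨φ g, hφD g (by omega), by simp [hφ, pairVal, val, hg]⟩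

/-- A group of pairs with both projections onto and no larger than the first, simple, factor. -/
theorem iso_of_pairs [IsSimpleGroup K] [Nontrivial G] (D : Subgroup (K × G))
    (hcard : Nat.card D ≤ Nat.card K) (h1 : D.map (MonoidHom.fst K G) = ⊤)
    (h2 : D.map (MonoidHom.snd K G) = ⊤) : Nonempty (G ≃* K) := by
  let p1 : D →* K := (MonoidHom.fst K G).comp D.subtype
  let p2 : D →* G := (MonoidHom.snd K G).comp D.subtype
  have hs1 : Function.Surjective p1 := fun k => by
    obtain ⟨z, hz, rfl⟩ := h1.ge (Subgroup.mem_top k)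
    exact ⟨⟨z, hz⟩, rfl⟩
  have hs2 : Function.Surjective p2 := fun k => by
    obtain ⟨z, hz, rfl⟩ := h2.ge (Subgroup.mem_top k)
    exact ⟨⟨z, hz⟩, rfl⟩
  have hb1 : Function.Bijective p1 :=
    hs1.bijective_of_nat_card_le hcard
  let e1 := MulEquiv.ofBijective p1 hb1
  let q : K →* G := p2.comp e1.symm.toMonoidHom
  have hq : Function.Surjective q := hs2.comp e1.symm.surjective
  have hinj : Function.Injective q := by
    rw [← MonoidHom.ker_eq_bot_iff]
    refine (inferInstance : q.ker.Normal).eq_bot_or_eq_top.resolve_right fun h => ?_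
    obtain ⟨a, b, hab⟩ := exists_pair_ne G
    obtain ⟨x, rfl⟩ := hq a
    obtain ⟨y, rfl⟩ := hq b
    exact hab (by rw [MonoidHom.mem_ker.1 (h ▸ Subgroup.mem_top x), MonoidHom.mem_ker.1 (h ▸ Subgroup.mem_top y)])
  exact ⟨(MulEquiv.ofBijective q ⟨hinj, hq⟩).symm⟩

end Cfsg.Agent.Lib.McLAmalgam
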