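import Cfsg.Agent.Lib.McLAmalgam.Frame
import Cfsg.Agent.Lib.McLAmalgam.LocalData

/-!
Elements of the centraliser given by words, and the two tabulated elementary abelian subgroups of order
sixteen.
-/

set_option autoImplicit false
set_option maxRecDepth 20000
set_option linter.style.haveILetI false

namespace Cfsg.Agent.Lib.McLAmalgam

open Cfsg Cfsg.Agent.Lib.Computation

variable {G : Type*} [Group G] {t : G} (F : Frame ↥(Subgroup.centralizer ({t} : Set G)))

/-- A word in the generators as an element of the group. -/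
def el (l : List ℕ) : G := (((l.map F.x).prod : ↥(Subgroup.centralizer ({t} : Set G))) : G)

theorem el_mem (l : List ℕ) : el F l ∈ Subgroup.centralizer ({t} : Set G) := SetLike.coe_mem _

theorem el_nil : el F [] = 1 := rfl

theorem el_append (l l' : List ℕ) : el F (l ++ l') = el F l * el F l' := by
  rw [el, List.map_append, List.prod_append]; rfl

theorem ρ_prod {H : Type*} [Group H] (F : Frame H) (l : List ℕ) (hl : ∀ g ∈ l, g < 6) :
    F.ρ (l.map F.x).prod = (l.map xP).prod := by
  rw [map_list_prod, List.map_map]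
  exact congrArg List.prod (List.map_congr_left fun g hg => F.ρ_x g (hl g hg))

theorem π_prod {H : Type*} [Group H] (F : Frame H) (l : List ℕ) (hl : ∀ g ∈ l, g < 6) :
    (F.π (l.map F.x).prod : Equiv.Perm (Fin 8)) = (l.map (letP 8 4 cycTab)).prod := by
  rw [map_list_prod, List.map_map,
    List.map_congr_left (f := F.π ∘ F.x) (g := ShortPresSLn.carm 6) (fun g hg => F.π_x g (hl g hg))]
  exact carm_prod l hl

theorem π_apply {H : Type*} [Group H] (F : Frame H) (l : List ℕ) (hl : ∀ g ∈ l, g < 6) (i : Fin 8) :
    (((F.π (l.map F.x).prod : Equiv.Perm (Fin 8)) i : Fin 8) : ℕ) = evalW 4 cycTab l i := by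
  rw [π_prod F l hl]
  exact prod_apply cycTab_ok l (by simpa [cycTab] using hl) i

/-- Two words with letters below six acting equally on the 240 points give the same element. -/
theorem el_eq {l l' : List ℕ} (hl : ∀ g ∈ l, g < 6) (hl' : ∀ g ∈ l', g < 6)
    (he : eqW 240 8 genTab l l' = true) : el F l = el F l' := by
  refine congrArg Subtype.val (F.ρ_inj ?_)
  rw [ρ_prod F l hl, ρ_prod F l' hl']
  exact prod_eq genTab_ok (by simpa [genTab] using hl) (by simpa [genTab] using hl') he

theorem el_ne {l l' : List ℕ} (hl : ∀ g ∈ l, g < 6) (hl' : ∀ g ∈ l', g < 6)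
    (he : eqW 240 8 genTab l l' = false) : el F l ≠ el F l' := by
  intro h
  have h2 : ((l.map xP).prod) = (l'.map xP).prod := by
    rw [← ρ_prod F l hl, ← ρ_prod F l' hl']
    exact congrArg F.ρ (Subtype.ext h)
  have := eqW_of_prod_eq (n := 240) (w := 8) genTab_ok (by simpa [genTab] using hl)
    (by simpa [genTab] using hl') h2
  rw [he] at this
  exact Bool.false_ne_true this

/-- The word of an element of one class given by its four bits. -/
def cdWord (d : SideData) (j : ℕ) : List ℕ :=
  ((List.range 4).filter fun i => j.testBit i).flatMap fun i => d.uw.getD i []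

/-- The words of the two generators of the complement. -/
def pqWord (d : SideData) (l : List ℕ) : List ℕ := l.flatMap fun i => if i = 0 then d.pw else d.qw

/-- All words of a class are words in the six generators. -/
def sideLetters (d : SideData) : Bool :=
  (d.uw ++ [d.pw, d.qw]).all fun l => l.all fun g => decide (g < 6)

/-- The basic elements multiply as bit vectors, and only zero gives the identity. -/
def sideTable (d : SideData) : Bool :=
  (List.range 16).all fun j => (j == 0 || !eqW 240 8 genTab (cdWord d j) []) &&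
    (List.range 4).all fun i =>
      eqW 240 8 genTab (cdWord d j ++ d.uw.getD i []) (cdWord d (j ^^^ 2 ^ i))

theorem sideLetters_ok : sideLetters sideV = true ∧ sideLetters sideW = true := by decide +kernel

theorem sideTable_ok : sideTable sideV = true ∧ sideTable sideW = true := by decide +kernel

/-- The element of a class given by its four bits. -/
def cd (d : SideData) (j : ℕ) : G := el F (cdWord d j)

variable {d : SideData}

theorem foldl_bits : ∀ j < 16, ∀ k < 16,
    ((List.range 4).filter fun i => Nat.testBit k i).foldl (fun a i => a ^^^ 2 ^ i) j = j ^^^ k := by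
  decide +kernel

theorem uw_lt (hd : sideLetters d = true) (i : ℕ) : ∀ g ∈ d.uw.getD i [], g < 6 := by
  intro g hg
  rcases Nat.lt_or_ge i d.uw.length with hi | hi
  · rw [List.getD_eq_getElem _ _ hi] at hg
    exact of_decide_eq_true (List.all_eq_true.1 (List.all_eq_true.1 hd _
      (List.mem_append_left _ (List.getElem_mem hi))) g hg)
  · rw [List.getD_eq_default _ _ hi] at hg
    exact absurd hg List.not_mem_nil

theorem cdWord_lt (hd : sideLetters d = true) (j : ℕ) : ∀ g ∈ cdWord d j, g < 6 := by
  intro g hg
  obtain ⟨i, -, hi⟩ := List.mem_flatMap.1 hg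
  exact uw_lt hd i g hi

theorem pqWord_lt (hd : sideLetters d = true) (l : List ℕ) : ∀ g ∈ pqWord d l, g < 6 := by
  intro g hg
  obtain ⟨i, -, hi⟩ := List.mem_flatMap.1 hg
  have h : ∀ w ∈ [d.pw, d.qw], g ∈ w → g < 6 := fun w hw hgw =>
    of_decide_eq_true (List.all_eq_true.1 (List.all_eq_true.1 hd _ (List.mem_append_right _ hw)) g hgw)
  split_ifs at hi
  · exact h _ (by simp) hi
  · exact h _ (by simp) hi

variable (hd : sideLetters d = true) (ht : sideTable d = true)

include hd ht

theorem cd_mul_basic {j i : ℕ} (hj : j < 16) (hi : i < 4) :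
    cd F d j * el F (d.uw.getD i []) = cd F d (j ^^^ 2 ^ i) := by
  rw [cd, cd, ← el_append]
  have h := List.all_eq_true.1 ht j (List.mem_range.2 hj)
  simp only [Bool.and_eq_true, List.all_eq_true, List.mem_range] at h
  exact el_eq F (fun g hg => (List.mem_append.1 hg).elim (cdWord_lt hd j g) (uw_lt hd i g))
    (cdWord_lt hd _) (h.2 i hi)

theorem cd_mul {j k : ℕ} (hj : j < 16) (hk : k < 16) : cd F d j * cd F d k = cd F d (j ^^^ k) := by
  have key : ∀ (ls : List ℕ), (∀ i ∈ ls, i < 4) → ∀ j < 16,
      cd F d j * el F (ls.flatMap fun i => d.uw.getD i []) = cd F d (ls.foldl (fun a i => a ^^^ 2 ^ i) j) ∧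
        ls.foldl (fun a i => a ^^^ 2 ^ i) j < 16 := by
    intro ls
    induction ls with
    | nil => intro _ j hj; simp [el_nil, hj]
    | cons a ls ih =>
      intro hls j hj
      have ha := hls a List.mem_cons_self
      have hlt : j ^^^ 2 ^ a < 16 := Nat.xor_lt_two_pow (n := 4) hj
        (Nat.pow_lt_pow_right (by norm_num) ha)
      rw [List.flatMap_cons, el_append, ← mul_assoc, cd_mul_basic F hd ht hj ha, List.foldl_cons]
      exact ih (fun i hi => hls i (List.mem_cons_of_mem _ hi)) _ hlt
  have h := (key ((List.range 4).filter fun i => k.testBit i)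
    (fun i hi => List.mem_range.1 (List.mem_filter.1 hi).1) j hj).1
  rw [show cd F d k = el F (cdWord d k) from rfl, cdWord, h]
  congr 1
  exact foldl_bits j hj k hk

theorem cd_injOn {j k : ℕ} (hj : j < 16) (hk : k < 16) (h : cd F d j = cd F d k) : j = k := by
  by_contra hne
  have hlt : j ^^^ k < 16 := Nat.xor_lt_two_pow (n := 4) hj hk
  have h0 : j ^^^ k ≠ 0 := fun h0 => hne (Nat.xor_eq_zero_iff.1 h0)
  have hz : cd F d (j ^^^ k) = 1 := by
    have hkk := cd_mul F hd ht hk hk
    rw [Nat.xor_self] at hkk
    rw [← cd_mul F hd ht hj hk, h, hkk]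
    rfl
  have hb := List.all_eq_true.1 ht _ (List.mem_range.2 hlt)
  simp only [Bool.and_eq_true, Bool.or_eq_true, beq_iff_eq, Bool.not_eq_true', h0, false_or] at hb
  exact el_ne F (cdWord_lt hd _) (by simp) hb.1 hz

omit hd ht

/-- One of the two tabulated subgroups. -/
def sideSub (hd : sideLetters d = true) (ht : sideTable d = true) : Subgroup G where
  carrier := {g | ∃ j < 16, cd F d j = g}
  one_mem' := ⟨0, by norm_num, rfl⟩
  mul_mem' := by
    rintro _ _ ⟨j, hj, rfl⟩ ⟨k, hk, rfl⟩
    exact ⟨j ^^^ k, Nat.xor_lt_two_pow (n := 4) hj hk, (cd_mul F hd ht hj hk).symm⟩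
  inv_mem' := by
    rintro _ ⟨j, hj, rfl⟩
    refine ⟨j, hj, (inv_eq_of_mul_eq_one_left ?_).symm⟩
    rw [cd_mul F hd ht hj hj, Nat.xor_self]
    rfl

/-- The first class. -/
def subV : Subgroup G := sideSub F sideLetters_ok.1 sideTable_ok.1

/-- The second class. -/
def subW : Subgroup G := sideSub F sideLetters_ok.2 sideTable_ok.2

end Cfsg.Agent.Lib.McLAmalgam
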